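import Mathlib

/-!
The arithmetic of the order formula.
-/

set_option autoImplicit false

namespace Cfsg.Agent.J3Order

/-- The conditions on a candidate. -/
def goodOrder (a g : ℕ) : Bool :=
  g % 128 == 0 && g % 256 != 0 && g % 5 == 0 && g % 25 != 0 && g % 1920 == 0 && g % (20 * a) == 0 &&
    g / (20 * a) % 5 == 1 && (if a == 3 then g % 27 == 0 else g % 63 == 0 && g % 27 != 0)

/-- The squares dividing the constant. -/
def roots (a : ℕ) : List ℕ :=
  if a == 3 then [1, 2, 4, 5, 8, 10, 16, 20, 32, 40, 64, 80, 128, 160, 256, 320, 640, 1280]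
  else [1, 2, 3, 4, 5, 6, 8, 10, 12, 15, 16, 20, 24, 30, 32, 40, 48, 60, 64, 80, 96, 120, 128, 160, 192, 240,
    320, 384, 480, 640, 960, 1920]

/-- The constant of the order formula. -/
def constK (a : ℕ) : ℕ := if a == 3 then 49152000 else 36864000

/-- The answers. -/
def answer (a g d : ℕ) (u : ℤ) : Bool :=
  if a == 3 then g == 50232960 && d == 323 && u == 3 else g == 35118720 || g == 36328320

set_option maxRecDepth 100000 in
theorem roots_three : ∀ n : Fin 7100, (n : ℕ) * n ∣ 49152000 → (n : ℕ) ∈ roots 3 := by decide +kernel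

set_option maxRecDepth 100000 in
theorem roots_one : ∀ n : Fin 7100, (n : ℕ) * n ∣ 36864000 → (n : ℕ) ∈ roots 1 := by decide +kernel

/-- One candidate. -/
def checkOne (a : ℕ) (w u : ℤ) : Bool :=
  let d := w + u
  if d < 1 || 1920 < u * u + (u + 1) * (u + 1) + 1 then true
  else
    let g := constK a / (w.natAbs * w.natAbs) * (d.toNat * (d.toNat + 1))
    !goodOrder a g || answer a g d.toNat u

/-- All candidates. -/
def checkAll (a : ℕ) : Bool :=
  (roots a).all fun n => (List.range 63).all fun i =>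
    checkOne a (n : ℤ) ((i : ℤ) - 31) && checkOne a (-(n : ℤ)) ((i : ℤ) - 31)

set_option maxRecDepth 100000 in
theorem checkAll_three : checkAll 3 = true := by decide +kernel

set_option maxRecDepth 100000 in
theorem checkAll_one : checkAll 1 = true := by decide +kernel

theorem arith {a g d : ℕ} {u : ℤ} (ha : a = 1 ∨ a = 3) (hd : 0 < d) (hdg : d ∣ g) (hd1 : d + 1 ∣ g)
    (hu : u ^ 2 + (u + 1) ^ 2 + 1 ≤ 1920)
    (hf : (g : ℤ) * ((d : ℤ) - u) ^ 2 * (20 * a) = 1920 ^ 2 * (50 * (1 + a) ^ 2) * ((d : ℤ) * (d + 1)))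
    (hgood : goodOrder a g = true) : answer a g d u = true := by
  obtain ⟨t, ht⟩ := (Nat.Coprime.mul_dvd_of_dvd_of_dvd (by simp : Nat.Coprime d (d + 1)) hdg hd1)
  have hu' : -31 ≤ u ∧ u ≤ 31 := ⟨by nlinarith, by nlinarith⟩
  set w : ℤ := (d : ℤ) - u with hw
  have hK : (t : ℤ) * w ^ 2 = (constK a : ℤ) := by
    rw [ht] at hf
    push_cast at hf
    rcases ha with rfl | rfl
    · apply mul_left_cancel₀ (show ((d : ℤ) * (d + 1)) * 20 ≠ 0 by positivity)
      rw [show (constK 1 : ℤ) = 36864000 from rfl]
      push_cast at hf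
      linear_combination hf
    · apply mul_left_cancel₀ (show ((d : ℤ) * (d + 1)) * 60 ≠ 0 by positivity)
      rw [show (constK 3 : ℤ) = 49152000 from rfl]
      push_cast at hf
      linear_combination hf
  obtain ⟨n, hn⟩ : ∃ n, n = w.natAbs := ⟨_, rfl⟩
  have hK' : t * (n * n) = constK a := by
    have e : ((n * n : ℕ) : ℤ) = w ^ 2 := by push_cast; rw [hn, pow_two, Int.natAbs_mul_self']
    have : ((t * (n * n) : ℕ) : ℤ) = (constK a : ℤ) := by rw [← hK, ← e]; push_cast; ring
    exact_mod_cast this
  have hn0 : 0 < n * n := by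
    rcases Nat.eq_zero_or_pos (n * n) with h | h
    · rw [h, mul_zero] at hK'
      rcases ha with rfl | rfl <;> simp [constK] at hK'
    · exact h
  have hKle : constK a ≤ 49152000 := by rcases ha with rfl | rfl <;> decide
  have hn7 : n < 7100 := by
    by_contra h
    have h1 : 7100 * 7100 ≤ n * n := Nat.mul_le_mul (by omega) (by omega)
    have h2 : n * n ≤ constK a := Nat.le_of_dvd (by rcases ha with rfl | rfl <;> decide) ⟨t, by rw [← hK']; ring⟩
    omega
  have hmem : n ∈ roots a := by
    rcases ha with rfl | rfl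
    · exact roots_one ⟨n, hn7⟩ ⟨t, by rw [show (36864000 : ℕ) = constK 1 from rfl, ← hK']; ring⟩
    · exact roots_three ⟨n, hn7⟩ ⟨t, by rw [show (49152000 : ℕ) = constK 3 from rfl, ← hK']; ring⟩
  have hall : checkAll a = true := by
    rcases ha with rfl | rfl
    · exact checkAll_one
    · exact checkAll_three
  rw [checkAll, List.all_eq_true] at hall
  have h2 := List.all_eq_true.mp (hall n hmem) (u + 31).toNat (List.mem_range.mpr (by omega))
  rw [Bool.and_eq_true, show (((u + 31).toNat : ℕ) : ℤ) - 31 = u by omega] at h2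
  have hchk : checkOne a w u = true := by
    rcases Int.natAbs_eq w with e | e <;> rw [e, ← hn]
    · exact h2.1
    · exact h2.2
  have hdw : w + u = d := by omega
  have hnu : ¬ 1920 < u * u + (u + 1) * (u + 1) + 1 := by nlinarith
  simp only [checkOne, hdw, Int.toNat_natCast] at hchk
  rw [if_neg (by simp only [Bool.or_eq_true, decide_eq_true_eq]; push Not; constructor <;> omega),
    ← hn, show constK a / (n * n) = t from Nat.div_eq_of_eq_mul_left hn0 hK'.symm,
    show t * (d * (d + 1)) = g by rw [ht]; ring, hgood] at hchk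
  simpa using hchk

end Cfsg.Agent.J3Order
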