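import Cfsg.Agent.Lib.J3Order.SevenEven

/-!
Elements sending `y` to a power of itself act on `⟨y⟩` by `±1`; the action of `C(y)` and of the
elements inverting `y` on an abelian `O`.
-/

set_option autoImplicit false
set_option linter.style.haveILetI false
set_option linter.unusedSectionVars false

namespace Cfsg.Agent.J3Order

open Subgroup HallJankoType
open Cfsg.Agent.JankoOrder (inv_iff_orderOf)

universe u

local notation "Inv" => JankoOrder.Inv

variable {G : Type u} [Group G] [Finite G] {S : One G}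

namespace Five

variable (F : Five S)

theorem y_pow_mod (n : ℤ) : F.y ^ n = F.y ^ (n % 5) := by
  rw [← zpow_mod_orderOf, F.hy]
  rfl

theorem y_zpow_eq_one {n : ℤ} (h : F.y ^ n = 1) : n % 5 = 0 := by
  have := orderOf_dvd_iff_zpow_eq_one.mpr h
  rw [F.hy] at this
  omega

theorem index_O : (F.O.subgroupOf F.L).index = 2 := by
  have h := (F.O.subgroupOf F.L).card_mul_index
  rw [Nat.card_congr (Subgroup.subgroupOfEquivOfLe F.O_le).toEquiv, F.card_L, mul_comm 2] at h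
  exact Nat.eq_of_mul_eq_mul_left Nat.card_pos h

theorem z_not_O : S.z ∉ F.O := fun h => by
  have h2 := Subgroup.orderOf_dvd_natCard _ h
  rw [S.hz] at h2
  exact Nat.not_even_iff_odd.mpr F.odd_O (even_iff_two_dvd.mpr h2)

theorem L_cases {n : G} (hn : n * F.y = F.y * n) : n ∈ F.O ∨ n * S.z ∈ F.O := by
  by_cases h : n ∈ F.O
  · exact .inl h
  refine .inr ?_
  have := (Subgroup.mul_mem_iff_of_index_two F.index_O (a := ⟨n, mem_cent.mpr hn⟩) (b := ⟨S.z, F.z_mem_L⟩)).mpr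
    (iff_of_false h F.z_not_O)
  exact mem_subgroupOf.mp this

/-- An element sending `y` to a power of `y` fixes or inverts it. -/
theorem norm_pm {n : G} (hn : n * F.y * n⁻¹ ∈ zpowers F.y) :
    n * F.y * n⁻¹ = F.y ∨ n * F.y * n⁻¹ = F.y⁻¹ := by
  haveI : Fact (Nat.Prime 2) := ⟨Nat.prime_two⟩
  obtain ⟨k, hk⟩ := mem_zpowers_iff.mp hn
  have hzL : n * S.z * n⁻¹ ∈ F.L := by
    rw [mem_cent]
    have h := gen_of_mem hn (orderOf_conj_eq n F.y)
    refine commute_of_mem_zpowers (h.symm ▸ mem_zpowers F.y) ?_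
    calc n * S.z * n⁻¹ * (n * F.y * n⁻¹) = n * (S.z * F.y) * n⁻¹ := by group
      _ = _ := by rw [← F.y_comm_z]; group
  have h4 : ¬ 2 ^ 2 ∣ Nat.card ↥F.L := fun h => by
    rw [F.card_L, pow_two] at h
    exact Nat.not_even_iff_odd.mpr F.odd_O (even_iff_two_dvd.mpr (Nat.dvd_of_mul_dvd_mul_left (by norm_num) h))
  obtain ⟨l, hl⟩ := exists_conj_mem_zpowers h4 (w := ⟨n * S.z * n⁻¹, hzL⟩) (y := ⟨S.z, F.z_mem_L⟩)
    (by rw [Subgroup.orderOf_mk, orderOf_conj_eq, S.hz]) (by rw [Subgroup.orderOf_mk, S.hz])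
  obtain ⟨j, hj⟩ := mem_zpowers_iff.mp hl
  have e := congrArg (fun t : ↥F.L => (t : G)) hj
  simp only [SubgroupClass.coe_zpow, Subgroup.coe_mul, Subgroup.coe_inv] at e
  obtain ⟨h, hh⟩ : ∃ h, h = (l : G) * n := ⟨_, rfl⟩
  have hzz : h * S.z * h⁻¹ = S.z := by
    have e1 : h * S.z * h⁻¹ = S.z ^ j := by rw [e, hh]; group
    have hne : h * S.z * h⁻¹ ≠ 1 := fun e2 => S.toFrame.z_ne_one (conj_eq_one_iff.mp e2)
    have hz2 : S.z ^ (2 : ℤ) = 1 := by rw [zpow_two]; exact S.zz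
    rcases Int.even_or_odd' j with ⟨m, rfl | rfl⟩
    · rw [zpow_mul, hz2, one_zpow] at e1; exact absurd e1 hne
    · rw [zpow_add_one, zpow_mul, hz2, one_zpow, one_mul] at e1; exact e1
  have hC : h ∈ S.C := mem_cent.mpr (mul_inv_eq_iff_eq_mul.mp hzz)
  have hly : Commute (l : G) F.y := mem_cent.mp l.2
  have hy : h * F.y * h⁻¹ = F.y ^ k := by
    calc h * F.y * h⁻¹ = l * (n * F.y * n⁻¹) * (l : G)⁻¹ := by rw [hh]; group
      _ = F.y ^ k := by rw [← hk, (hly.zpow_right k).eq, mul_inv_cancel_right]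
  -- `h ^ 2` centralises `y`
  set N := (S.C ⊓ Subgroup.normalizer (Subgroup.zpowers F.y : Set G) : Subgroup G) with hN
  have hNh : h ∈ N := ⟨hC, by
    refine mem_normalizer_iff.mpr fun g => ?_
    show g ∈ zpowers F.y ↔ h * g * h⁻¹ ∈ zpowers F.y
    have hgen : zpowers (F.y ^ k) = zpowers F.y := by
      refine gen_of_mem (zpow_mem (mem_zpowers _) k) ?_
      rw [← hy, orderOf_conj_eq]
    constructor
    · intro hg
      obtain ⟨i, rfl⟩ := mem_zpowers_iff.mp hg
      rw [← conj_zpow, hy]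
      exact zpow_mem (zpow_mem (mem_zpowers _) k) i
    · intro hg
      rw [← hgen] at hg
      obtain ⟨i, hi⟩ := mem_zpowers_iff.mp hg
      rw [← hy, conj_zpow, mul_right_cancel_iff, mul_left_cancel_iff] at hi
      exact hi ▸ zpow_mem (mem_zpowers _) i⟩
  have hle : S.C ⊓ F.L ≤ N := fun g hg => ⟨hg.1, by
    refine mem_normalizer_iff.mpr fun w => ?_
    show w ∈ zpowers F.y ↔ g * w * g⁻¹ ∈ zpowers F.y
    have hgy : Commute g F.y := mem_cent.mp hg.2
    constructor <;> intro hw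
    · obtain ⟨i, rfl⟩ := mem_zpowers_iff.mp hw
      show g * F.y ^ i * g⁻¹ ∈ zpowers F.y
      rw [(hgy.zpow_right i).eq, mul_inv_cancel_right]
      exact hw
    · obtain ⟨i, hi⟩ := mem_zpowers_iff.mp hw
      have : w = F.y ^ i := by
        rw [show w = g⁻¹ * (g * w * g⁻¹) * g by group, ← hi, mul_assoc, ← (hgy.zpow_right i).eq, inv_mul_cancel_left]
      rw [this]
      exact zpow_mem (mem_zpowers _) i⟩
  have hidx : ((S.C ⊓ F.L).subgroupOf N).index = 2 := by
    have h := ((S.C ⊓ F.L).subgroupOf N).card_mul_index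
    rw [Nat.card_congr (Subgroup.subgroupOfEquivOfLe hle).toEquiv, F.card_L_inf_C,
      show Nat.card ↥N = 20 from S.card_norm_five F.mem F.hy] at h
    omega
  have hsq : h * h * F.y = F.y * (h * h) :=
    mem_cent.mp (mem_subgroupOf.mp (mul_self_mem_of_index_two hidx (⟨h, hNh⟩ : N))).2
  have hk2 : F.y ^ (k * k) = F.y := by
    rw [zpow_mul, ← hy, conj_zpow, show h * F.y ^ k * h⁻¹ = h * h * F.y * (h * h)⁻¹ by rw [← hy]; group, hsq,
      mul_inv_cancel_right]
  have h5 : (k * k - 1) % 5 = 0 := F.y_zpow_eq_one (by rw [zpow_sub_one, hk2, mul_inv_cancel])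
  rw [← hk, F.y_pow_mod k]
  have h0 := Int.emod_nonneg k (show (5 : ℤ) ≠ 0 by norm_num)
  have h1 := Int.emod_lt_of_pos k (show (0 : ℤ) < 5 by norm_num)
  rw [Int.sub_emod, Int.mul_emod] at h5
  interval_cases hr : k % 5
  · norm_num at h5
  · exact .inl (zpow_one _)
  · norm_num at h5
  · norm_num at h5
  · refine .inr (eq_inv_of_mul_eq_one_left ?_)
    rw [← zpow_add_one, show (4 : ℤ) + 1 = ((5 : ℕ) : ℤ) from rfl, zpow_natCast, ← F.hy, pow_orderOf_eq_one]

theorem not_two {n : G} {P : ℤ} (h : n * F.y * n⁻¹ = F.y ^ P) (hP : P % 5 = 2 ∨ P % 5 = 3) : False := by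
  rcases F.norm_pm (h ▸ zpow_mem (mem_zpowers _) P) with e | e <;> rw [h] at e
  · have := F.y_zpow_eq_one (n := P - 1) (by rw [zpow_sub_one, e, mul_inv_cancel])
    omega
  · have := F.y_zpow_eq_one (n := P + 1) (by rw [zpow_add_one, e, inv_mul_cancel])
    omega

/-- Conjugation by an element sending a centralised element of `O` into `⟨y⟩` maps into `O`. -/
theorem conj_mem_O {g m a : G} (hm : zpowers (g * m * g⁻¹) = zpowers F.y) (hc : a * m = m * a)
    (ha : Odd (orderOf a)) : g * a * g⁻¹ ∈ F.O := by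
  refine F.mem_O.mpr ⟨commute_of_mem_zpowers (hm.symm ▸ mem_zpowers F.y) ?_, by rwa [orderOf_conj_eq]⟩
  calc g * a * g⁻¹ * (g * m * g⁻¹) = g * (a * m) * g⁻¹ := by group
    _ = g * m * g⁻¹ * (g * a * g⁻¹) := by rw [hc]; group

theorem odd_order {a : G} (ha : a ∈ F.O) : Odd (orderOf a) := (F.mem_O.mp ha).2

section abelian

variable (hab : ∀ a ∈ F.O, ∀ b ∈ F.O, a * b = b * a)
include hab

/-- An element of `C(y)` inverting a nontrivial element of `O` acts as `z` on it. -/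
theorem inverted_z {n w : G} (hn : n * F.y = F.y * n) (hw : w ∈ F.O) (hw1 : w ≠ 1)
    (hinv : n * w * n⁻¹ = w⁻¹) : S.z * w * S.z = w⁻¹ := by
  rcases F.L_cases hn with h | h
  · rw [hab _ h _ hw, mul_inv_cancel_right] at hinv
    exact absurd (eq_inv_self_of_odd (F.odd_order hw) hinv.symm) hw1
  · rw [← hinv]
    calc S.z * w * S.z = (n * S.z) * (S.z * w * S.z) * (n * S.z)⁻¹ := by
          rw [hab _ h _ (F.z_conj_O hw), mul_inv_cancel_right]
      _ = n * (S.z * S.z) * w * (S.z * S.z⁻¹) * n⁻¹ := by group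
      _ = n * w * n⁻¹ := by rw [S.zz, mul_inv_cancel, mul_one, mul_one]

/-- An element inverting `y` acts on `O` as `s` or as `s z`. -/
theorem act_inverting {n : G} (hn : n * F.y * n⁻¹ = F.y⁻¹) :
    (∀ w ∈ F.O, n * w * n⁻¹ = F.s * w * F.s⁻¹) ∨ ∀ w ∈ F.O, n * w * n⁻¹ = F.s' * w * F.s'⁻¹ := by
  have hns : n * F.s * F.y = F.y * (n * F.s) := by
    refine mul_inv_eq_iff_eq_mul.mp ?_
    calc n * F.s * F.y * (n * F.s)⁻¹ = n * (F.s * F.y * F.s⁻¹) * n⁻¹ := by group
      _ = (n * F.y * n⁻¹)⁻¹ := by rw [F.inv]; group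
      _ = F.y := by rw [hn, inv_inv]
  have hs' : F.s⁻¹ = F.s := F.hs.inv_eq
  rcases F.L_cases hns with h | h
  · refine .inl fun w hw => ?_
    have hsw : F.s * w * F.s⁻¹ ∈ F.O := by rw [hs']; exact F.s_conj_O hw
    calc n * w * n⁻¹ = n * (F.s * F.s) * w * (F.s * F.s)⁻¹ * n⁻¹ := by rw [F.hs.sq]; group
      _ = (n * F.s) * (F.s * w * F.s⁻¹) * (n * F.s)⁻¹ := by group
      _ = F.s * w * F.s⁻¹ := by rw [hab _ h _ hsw, mul_inv_cancel_right]
  · refine .inr fun w hw => ?_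
    have e : n * F.s * S.z = n * F.s' := by rw [mul_assoc]
    rw [e] at h
    have hs'' : F.s'⁻¹ = F.s' := inv_of_sq F.s'_inv.1
    have hsw : F.s' * w * F.s'⁻¹ ∈ F.O := by
      refine F.conj_O ?_ hw
      rw [F.s'_conj_y]
      exact inv_mem (mem_zpowers _)
    calc n * w * n⁻¹ = n * (F.s' * F.s') * w * (F.s' * F.s')⁻¹ * n⁻¹ := by rw [F.s'_inv.1]; group
      _ = (n * F.s') * (F.s' * w * F.s'⁻¹) * (n * F.s')⁻¹ := by group
      _ = F.s' * w * F.s'⁻¹ := by rw [hab _ h _ hsw, mul_inv_cancel_right]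

end abelian

end Five

end Cfsg.Agent.J3Order
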