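import Cfsg.Agent.Lib.J3Order.Three

/-!
Small tools for the local analysis: inverters of elements of order three, even centralisers, and
commutators in the odd core of the centraliser of an element of order five.
-/

set_option autoImplicit false
set_option linter.style.haveILetI false
set_option linter.unusedSectionVars false

namespace Cfsg.Agent.J3Order

open Subgroup HallJankoType
open Cfsg.Agent.JankoOrder (inv_iff_orderOf)

universe u

local notation "A5" => alternatingGroup (Fin 5)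
local notation "Inv" => JankoOrder.Inv

set_option maxRecDepth 8000 in
theorem five_three_inverter : ∀ g : A5, g ^ 3 = 1 ∧ g ≠ 1 → ∃ c : A5, c * g * c⁻¹ = g⁻¹ := by
  decide +kernel

set_option maxRecDepth 8000 in
theorem five_inv_conj : ∀ i j : A5, i * i = 1 ∧ i ≠ 1 → j * j = 1 ∧ j ≠ 1 → ∃ c : A5, c * i * c⁻¹ = j := by
  decide +kernel

section general

variable {G : Type*} [Group G] [Finite G]

theorem gen_of_mem {a b : G} (h : b ∈ zpowers a) (ho : orderOf b = orderOf a) : zpowers b = zpowers a :=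
  eq_of_le_of_card_ge (zpowers_le.mpr h) (by rw [Nat.card_zpowers, Nat.card_zpowers, ho])

theorem orderOf_conj_eq (g a : G) : orderOf (g * a * g⁻¹) = orderOf a := by
  rw [← MulAut.conj_apply, MulEquiv.orderOf_eq]

theorem commute_of_mem_zpowers {a b w : G} (h : b ∈ zpowers a) (hw : w * a = a * w) : w * b = b * w := by
  obtain ⟨k, rfl⟩ := mem_zpowers_iff.mp h
  exact (Commute.zpow_right (show Commute w a from hw) k).eq

theorem cent_eq_of_zpowers_eq {a b : G} (h : zpowers a = zpowers b) :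
    centralizer ({a} : Set G) = centralizer ({b} : Set G) := by
  ext w
  rw [mem_cent, mem_cent]
  exact ⟨fun e => commute_of_mem_zpowers (h.symm ▸ mem_zpowers b : b ∈ zpowers a) e,
    fun e => commute_of_mem_zpowers (h ▸ mem_zpowers a : a ∈ zpowers b) e⟩

theorem mem_cent_conj {g a w : G} :
    g * w * g⁻¹ ∈ centralizer ({g * a * g⁻¹} : Set G) ↔ w ∈ centralizer ({a} : Set G) := by
  rw [mem_cent, mem_cent, show g * w * g⁻¹ * (g * a * g⁻¹) = g * (w * a) * g⁻¹ by group,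
    show g * a * g⁻¹ * (g * w * g⁻¹) = g * (a * w) * g⁻¹ by group, mul_right_cancel_iff, mul_left_cancel_iff]

theorem card_cent_conj (g a : G) :
    Nat.card ↥(centralizer ({g * a * g⁻¹} : Set G)) = Nat.card ↥(centralizer ({a} : Set G)) :=
  (Nat.card_congr (Equiv.subtypeEquiv (MulAut.conj g).toEquiv fun _ => mem_cent_conj.symm)).symm

/-- An element of even order commuting with `w` gives an involution commuting with `w`. -/
theorem inv_of_even_comm {g w : G} (he : Even (orderOf g)) (hw : w * g = g * w) :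
    ∃ i : G, Inv i ∧ w * i = i * w := by
  have h2 : 2 ∣ orderOf g := even_iff_two_dvd.mp he
  exact ⟨g ^ (orderOf g / 2), inv_iff_orderOf.mpr (orderOf_pow_orderOf_div (orderOf_pos g).ne' h2),
    ((show Commute w g from hw).pow_right _).eq⟩

theorem even_of_sq_comm {g w : G} (h2 : g * g * w = w * (g * g)) (h : g * w ≠ w * g) : Even (orderOf g) := by
  rw [← Nat.not_odd_iff_even]
  rintro ⟨j, hj⟩
  apply h
  have e : g = (g * g) ^ (j + 1) := by
    rw [← pow_two, ← pow_mul, show 2 * (j + 1) = orderOf g + 1 by omega, pow_succ, pow_orderOf_eq_one, one_mul]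
  rw [e]
  exact ((show Commute (g * g) w from h2).pow_left (j + 1)).eq

theorem sq_comm_of_inverts {g w : G} (h : g * w * g⁻¹ = w⁻¹) : g * g * w = w * (g * g) := by
  have h' : g * w⁻¹ * g⁻¹ = w := by
    rw [show g * w⁻¹ * g⁻¹ = (g * w * g⁻¹)⁻¹ by group, h, inv_inv]
  calc g * g * w = g * (g * w * g⁻¹) * g⁻¹ * (g * g) := by group
    _ = w * (g * g) := by rw [h, h']

theorem eq_inv_self_of_odd {w : G} (ho : Odd (orderOf w)) (h : w⁻¹ = w) : w = 1 := by
  obtain ⟨j, hj⟩ := ho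
  have h2 : w ^ 2 = 1 := by rw [pow_two]; nth_rw 1 [← h]; exact inv_mul_cancel w
  have := pow_orderOf_eq_one w
  rwa [hj, pow_succ, pow_mul, h2, one_pow, one_mul] at this

theorem not_comm_of_inverts {g w : G} (ho : Odd (orderOf w)) (hw : w ≠ 1) (h : g * w * g⁻¹ = w⁻¹) :
    g * w ≠ w * g := fun e => hw (eq_inv_self_of_odd ho (by rw [← h, e, mul_inv_cancel_right]))

theorem inverts_pow_odd {g w : G} (h : g * w * g⁻¹ = w⁻¹) {m : ℕ} (hm : Odd m) :
    g ^ m * w * (g ^ m)⁻¹ = w⁻¹ := by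
  obtain ⟨j, rfl⟩ := hm
  have hc : Commute ((g * g) ^ j) w⁻¹ := ((show Commute (g * g) w from sq_comm_of_inverts h).pow_left j).inv_right
  rw [pow_succ, pow_mul, pow_two]
  calc (g * g) ^ j * g * w * ((g * g) ^ j * g)⁻¹ = (g * g) ^ j * (g * w * g⁻¹) * ((g * g) ^ j)⁻¹ := by group
    _ = w⁻¹ := by rw [h, hc.eq, mul_inv_cancel_right]

theorem exists_two_part (g : G) : ∃ m, Odd m ∧ ∃ k, orderOf (g ^ m) = 2 ^ k := by
  obtain ⟨k, m, hm, he⟩ := Nat.exists_eq_two_pow_mul_odd (orderOf_pos g).ne'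
  exact ⟨m, hm, k, by rw [orderOf_pow_of_dvd hm.pos.ne' (Dvd.intro_left _ he.symm), he,
    Nat.mul_div_cancel _ hm.pos]⟩

end general

variable {G : Type u} [Group G] [Finite G] (S : One G)

namespace One

include S in
/-- No element of `C` squaring to `z` inverts an element of order three. -/
theorem no_root [IsSimpleGroup G] {h x : G} (hh : h ∈ S.C) (hx : x ∈ S.C) (hx3 : orderOf x = 3)
    (hinv : h * x * h⁻¹ = x⁻¹) (hz : h * h = S.z) : False := by
  have hhQ : h ∉ S.Q := by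
    intro hQ
    have h1 : S.ψ ⟨h, hh⟩ = 1 := (S.mem_Q_iff hh).mp hQ
    have e : S.ψ ⟨x, hx⟩ = (S.ψ ⟨x, hx⟩)⁻¹ := by
      conv_lhs => rw [show S.ψ ⟨x, hx⟩ = S.ψ ⟨h, hh⟩ * S.ψ ⟨x, hx⟩ * (S.ψ ⟨h, hh⟩)⁻¹ by rw [h1]; group]
      rw [← map_inv, ← map_inv, ← map_mul, ← map_mul]
      exact congrArg S.ψ (Subtype.ext hinv)
    have h2 : x * x ∈ S.Q := by
      rw [S.mem_Q_iff (mul_mem hx hx), S.toFrame.ψ_mul hx hx]
      exact mul_eq_one_iff_eq_inv.mpr e
    have hd := Subgroup.orderOf_dvd_natCard _ h2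
    rw [← pow_two, Nat.Coprime.orderOf_pow (by rw [hx3]; norm_num), hx3, S.card_Q] at hd
    norm_num at hd
  have hψ : Inv (S.ψ ⟨h, hh⟩) := by
    refine ⟨?_, fun e => hhQ ((S.mem_Q_iff hh).mpr e)⟩
    rw [← S.toFrame.ψ_mul hh hh]
    exact (S.mem_Q_iff _).mp (hz ▸ S.toFrame.z_mem_Q)
  obtain ⟨a, ha⟩ := exists_outside S.toFrame S.one
  obtain ⟨d, hd⟩ := five_inv_conj _ _ ha.ψ_inv hψ
  obtain ⟨⟨c, hc⟩, rfl⟩ := S.ψ_surj d
  have hb := ha.conj S.toFrame hc
  obtain ⟨b, hbdef⟩ : ∃ b, b = c * a * c⁻¹ := ⟨_, rfl⟩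
  rw [← hbdef] at hb
  have hq : b⁻¹ * h ∈ S.Q := by
    rw [← S.ψ_eq_iff hb.mem hh, ← hd, ← map_inv, ← map_mul, ← map_mul]
    exact congrArg S.ψ (Subtype.ext hbdef)
  obtain ⟨q, hqdef⟩ : ∃ q, q = b⁻¹ * h := ⟨_, rfl⟩
  rw [← hqdef] at hq
  have e : b * q * b⁻¹ = S.z * q⁻¹ := by
    rw [← hz, hqdef, mul_inv_rev, inv_inv]
    calc b * (b⁻¹ * h) * b⁻¹ = h * b := by rw [hb.inv_eq, ← mul_assoc b b, hb.sq, one_mul]
      _ = h * h * (h⁻¹ * b) := by group
  have hW : q ∈ S.W hb.mem := by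
    refine (S.toFrame.mem_W hb.mem).mpr ⟨hq, ?_⟩
    rw [e, mul_assoc, ← mul_inv_rev]
    exact Frame.Zp.mul S.toFrame (.inr rfl) (Frame.Zp.inv S.toFrame (S.toFrame.sq_zp hq))
  rw [S.toFrame.W_inverted hb hW, eq_comm, mul_eq_right] at e
  exact S.toFrame.z_ne_one e

include S in
/-- Every element of order three of `C` is inverted in `C`. -/
theorem exists_inverter {x : G} (hx : x ∈ S.C) (hx3 : orderOf x = 3) :
    ∃ c ∈ S.C, c * x * c⁻¹ = x⁻¹ := by
  haveI : Fact (Nat.Prime 3) := ⟨Nat.prime_three⟩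
  set xC : ↥S.C := ⟨x, hx⟩ with hxC
  have hxC3 : orderOf xC = 3 := by rw [← Subgroup.orderOf_coe]; exact hx3
  have hψ : S.ψ xC ^ 3 = 1 ∧ S.ψ xC ≠ 1 := by
    refine ⟨by rw [← map_pow, ← hxC3, pow_orderOf_eq_one, map_one], fun h => ?_⟩
    have hd := Subgroup.orderOf_dvd_natCard _ ((S.mem_Q_iff hx).mpr h)
    rw [hx3, S.card_Q] at hd
    norm_num at hd
  obtain ⟨d, hd⟩ := five_three_inverter _ hψ
  obtain ⟨c, rfl⟩ := S.ψ_surj d
  set P := (zpowers (S.ψ xC)).comap S.ψ with hP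
  have hPc : Nat.card P = 96 := by
    have h1 := P.card_mul_index
    have h2 := (zpowers (S.ψ xC)).card_mul_index
    rw [hP, index_comap_of_surjective _ S.ψ_surj, ← hP, S.card_C] at h1
    rw [Nat.card_zpowers, orderOf_eq_prime hψ.1 hψ.2, five_card] at h2
    rw [show (zpowers (S.ψ xC)).index = 20 by omega] at h1
    omega
  have hw : c * xC * c⁻¹ ∈ P := by
    rw [hP, mem_comap, map_mul, map_mul, map_inv, hd]
    exact inv_mem (mem_zpowers _)
  obtain ⟨⟨h, hhP⟩, hh⟩ := exists_conj_mem_zpowers (H := P) (p := 3) (by rw [hPc]; norm_num)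
    (w := ⟨c * xC * c⁻¹, hw⟩) (y := ⟨xC, (mem_comap.mpr (mem_zpowers (S.ψ xC)) : xC ∈ P)⟩)
    (by rw [Subgroup.orderOf_mk, orderOf_conj_eq, hxC3]) (by rw [Subgroup.orderOf_mk, hxC3])
  obtain ⟨k, hk⟩ := mem_zpowers_iff.mp hh
  have hk' : xC ^ k = h * (c * xC * c⁻¹) * h⁻¹ := congrArg Subtype.val hk
  have hψk : S.ψ (xC ^ (k + 1)) = 1 := by
    obtain ⟨j, hj⟩ := mem_zpowers_iff.mp hhP
    rw [zpow_add_one, hk']
    simp only [map_mul, map_inv]
    rw [hd, ← hj]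
    group
  have h0 : ((xC ^ (k + 1) : ↥S.C) : G) = 1 := by
    have hQ : ((xC ^ (k + 1) : ↥S.C) : G) ∈ S.Q := (S.ψ_ker _).mp hψk
    have h32 := Subgroup.orderOf_dvd_natCard _ hQ
    rw [S.card_Q] at h32
    refine orderOf_eq_one_iff.mp (Nat.eq_one_of_dvd_coprimes (by norm_num : Nat.Coprime 32 3) h32 ?_)
    rw [Subgroup.orderOf_coe, ← hxC3]
    exact orderOf_dvd_of_pow_eq_one (by rw [← zpow_natCast, ← zpow_mul, mul_comm, zpow_mul, zpow_natCast,
      pow_orderOf_eq_one, one_zpow])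
  have h1 : xC ^ k = xC⁻¹ := by
    refine eq_inv_of_mul_eq_one_left ?_
    rw [← zpow_add_one]
    exact Subtype.ext h0
  refine ⟨(h : G) * c, mul_mem h.2 c.2, ?_⟩
  have e := congrArg (fun t : ↥S.C => (t : G)) (hk'.symm.trans h1)
  calc (h : G) * c * x * ((h : G) * c)⁻¹ = h * (c * x * (c : G)⁻¹) * (h : G)⁻¹ := by group
    _ = x⁻¹ := e

end One

namespace Five

variable {S} (F : Five S)

theorem pow_five {c : G} (hc : c ∈ zpowers F.y) : c ^ 5 = 1 := by
  obtain ⟨k, rfl⟩ := mem_zpowers_iff.mp hc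
  rw [← zpow_natCast, zpow_comm, show F.y ^ ((5 : ℕ) : ℤ) = 1 by rw [zpow_natCast, ← F.hy, pow_orderOf_eq_one],
    one_zpow]

/-- `O` is abelian modulo `⟨y⟩`. -/
theorem comm_mod {a b : G} (ha : a ∈ F.O) (hb : b ∈ F.O) : a * b * a⁻¹ * b⁻¹ ∈ zpowers F.y := by
  set c1 := S.z * a * S.z * a with h1
  set c2 := S.z * b * S.z * b with h2
  set c3 := S.z * (a * b) * S.z * (a * b) with h3
  have hc1 : c1 ∈ zpowers F.y := F.z_inverts_mod ha
  have hc2 : c2 ∈ zpowers F.y := F.z_inverts_mod hb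
  have hc3 : c3 ∈ zpowers F.y := F.z_inverts_mod (mul_mem ha hb)
  have e : c1 * c2 * (a⁻¹ * b⁻¹) = c3 * (b⁻¹ * a⁻¹) := by
    have hc : a⁻¹ * c2 = c2 * a⁻¹ := F.y_pow_central hc2 (inv_mem ha)
    calc c1 * c2 * (a⁻¹ * b⁻¹) = c1 * (c2 * a⁻¹) * b⁻¹ := by group
      _ = c1 * a⁻¹ * (c2 * b⁻¹) := by rw [← hc]; group
      _ = S.z * a * (S.z * S.z) * b * S.z := by rw [h1, h2]; group
      _ = c3 * (b⁻¹ * a⁻¹) := by rw [S.zz, h3]; group
  have hd : a⁻¹ * b⁻¹ * a * b ∈ zpowers F.y := by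
    have : a⁻¹ * b⁻¹ * a * b = (c1 * c2)⁻¹ * c3 := by
      calc a⁻¹ * b⁻¹ * a * b = (c1 * c2)⁻¹ * (c1 * c2 * (a⁻¹ * b⁻¹)) * (a * b) := by group
        _ = (c1 * c2)⁻¹ * c3 := by rw [e]; group
    rw [this]
    exact mul_mem (inv_mem (mul_mem hc1 hc2)) hc3
  have hfix := F.y_pow_central hd (mul_mem ha hb)
  rw [show a * b * a⁻¹ * b⁻¹ = (a * b) * (a⁻¹ * b⁻¹ * a * b) * (a * b)⁻¹ by group, hfix,
    mul_inv_cancel_right]
  exact hd

theorem comm_three {a b : G} (ha : a ∈ F.O) (hb : b ∈ F.O) (h3 : b ^ 3 = 1) : a * b = b * a := by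
  set d := a * b * a⁻¹ * b⁻¹ with hd
  have hdm : d ∈ zpowers F.y := F.comm_mod ha hb
  have hc : Commute d b := (F.y_pow_central hdm hb).symm
  have e : d * b = a * b * a⁻¹ := by rw [hd]; group
  have h : (d * b) ^ 3 = 1 := by rw [e, conj_pow, h3, mul_one, mul_inv_cancel]
  rw [hc.mul_pow, h3, mul_one] at h
  have hd1 : d = 1 := by
    have h5 := F.pow_five hdm
    calc d = (d ^ 3) ^ 2 * (d ^ 5)⁻¹ := by group
      _ = 1 := by rw [h, h5, one_pow, inv_one, one_mul]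
  rw [hd] at hd1
  exact mul_inv_eq_iff_eq_mul.mp (mul_inv_eq_one.mp hd1)

/-- The same data with the other inverting involution. -/
def swap : Five S where
  y := F.y
  s := F.s'
  mem := F.mem
  hy := F.hy
  hs := ⟨mul_mem F.hs.mem S.toFrame.z_mem_C, fun h => F.hs.notMem (by
    have := mul_mem h S.toFrame.z_mem_Q
    rwa [mul_assoc, S.zz, mul_one] at this), F.s'_inv.1⟩
  inv := F.s'_conj_y

theorem swap_O : F.swap.O = F.O := by
  ext g
  rw [F.swap.mem_O, F.mem_O]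
  rfl

theorem swap_s' : F.swap.s' = F.s := by
  show F.s * S.z * S.z = F.s
  rw [mul_assoc, S.zz, mul_one]

theorem swap_M₁ : F.swap.M₁ = F.M₂ := by
  show F.swap.O ⊓ _ = F.O ⊓ _
  rw [F.swap_O]
  rfl

theorem swap_M₂ : F.swap.M₂ = F.M₁ := by
  show F.swap.O ⊓ centralizer ({F.swap.s'} : Set G) = F.O ⊓ _
  rw [F.swap_O, F.swap_s']

theorem exists_gen₁ {p : ℕ} (hp : p.Prime) (h : Nat.card F.M₁ = p) :
    ∃ w ∈ F.M₁, orderOf w = p ∧ F.M₁ = zpowers w := by
  haveI : Fact p.Prime := ⟨hp⟩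
  obtain ⟨⟨w, hw⟩, ho⟩ := exists_prime_orderOf_dvd_card' (G := F.M₁) p (by rw [h])
  rw [← Subgroup.orderOf_coe] at ho
  exact ⟨w, hw, ho, (eq_of_le_of_card_ge (zpowers_le.mpr hw) (by rw [h, Nat.card_zpowers, ho])).symm⟩

theorem comm_s {w : G} (hw : w ∈ F.M₁) : w * F.s = F.s * w := mem_cent.mp hw.2

end Five

end Cfsg.Agent.J3Order
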