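import Cfsg.Agent.Lib.J3Order.Counts
import Cfsg.Agent.Lib.ZStar.Main
import Cfsg.Agent.Lib.PCore.Basic
import Cfsg.Agent.Lib.TI.Extraspecial

/-!
From a simple group with an involution centraliser `2^{1+4}.A₅` to a `Frame`: `Q` is self-centralising
in `C`, and `z` is not weakly closed in `Q`. Both use Glauberman's theorem on isolated involutions.
-/

set_option autoImplicit false
set_option linter.style.haveILetI false
set_option linter.unusedSectionVars false

namespace Cfsg.Agent.J3Order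

open Subgroup HallJankoType
open Cfsg.Agent.JankoOrder (inv_iff_orderOf)
open scoped commutatorElement

universe u

local notation "A5" => alternatingGroup (Fin 5)
local notation "Inv" => JankoOrder.Inv

variable {G : Type u} [Group G] [Finite G]

theorem exists_commuting_other [IsSimpleGroup G] {z : G} (hz : orderOf z = 2)
    (hnc : ¬ z ∈ center G) : ∃ g : G, g * z * g⁻¹ ∈ centralizer ({z} : Set G) ∧ g * z * g⁻¹ ≠ z := by
  by_contra hno
  push Not at hno
  have hiso : Cfsg.IsIsolatedInvolution z := ⟨hz, fun g hg => hno g (mem_cent.mpr hg.symm.eq)⟩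
  have hzs := ZStar.inZStar hiso
  haveI := Fact.mk Nat.prime_two
  have hbot : Cfsg.pPrimeCore 2 G = ⊥ :=
    (IsSimpleGroup.eq_bot_or_eq_top_of_normal _ inferInstance).resolve_right fun ht => by
      have h' : ¬ 2 ∣ Nat.card (Cfsg.pPrimeCore 2 G) := PCore.not_dvd_card_pPrimeCore
      rw [ht, Subgroup.card_top, ← hz] at h'
      exact h' (orderOf_dvd_natCard z)
  refine hnc (mem_center_iff.2 fun g => ?_)
  have h := hzs g
  rw [hbot, Subgroup.mem_bot, mul_inv_eq_one, mul_inv_eq_iff_eq_mul] at h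
  exact h

/-- A commutative subgroup of index two in a group with centre of order two and commutators in a
subgroup of order two has order at most four. -/
theorem exists_noncomm_of_large {Q : Type*} [Group Q] [Finite Q] (hQ : Cfsg.IsExtraspecial 2 Q)
    (hcard : Nat.card Q = 32) {A : Subgroup Q} (hA : Nat.card A = 16) :
    ∃ a ∈ A, ∃ b ∈ A, a * b ≠ b * a := by
  classical
  by_contra hab
  push Not at hab
  obtain ⟨r, hr⟩ : ∃ r : Q, r ∉ A := by
    by_contra h
    push Not at h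
    have : A = ⊤ := eq_top_iff.mpr fun x _ => h x
    rw [this, card_top, hcard] at hA
    omega
  have hcomm : ∀ x y : Q, ⁅x, y⁆ ∈ center Q := fun x y =>
    hQ.1.2.2 ▸ Subgroup.commutator_mem_commutator (mem_top x) (mem_top y)
  let f : ↥A →* ↥(center Q) := MonoidHom.mk' (fun y => ⟨⁅r, (y : Q)⁆, hcomm r y⟩) fun x y => Subtype.ext (by
    show ⁅r, (x : Q) * y⁆ = ⁅r, (x : Q)⁆ * ⁅r, (y : Q)⁆
    have h1 := mem_center_iff.mp (hcomm r y) x
    calc ⁅r, (x : Q) * y⁆ = ⁅r, (x : Q)⁆ * ((x : Q) * ⁅r, (y : Q)⁆ * (x : Q)⁻¹) := by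
          simp only [commutatorElement_def]; group
      _ = _ := by rw [h1, mul_inv_cancel_right])
  have hidx : A.index = 2 := by
    have := A.card_mul_index
    rw [hA, hcard] at this
    omega
  have hk : ∀ y : ↥A, y ∈ f.ker → (y : Q) ∈ center Q := by
    intro y hy
    rw [MonoidHom.mem_ker, Subtype.ext_iff] at hy
    have hyr : r * y = y * r := commutatorElement_eq_one_iff_mul_comm.mp hy
    refine mem_center_iff.mpr fun x => ?_
    by_cases hx : x ∈ A
    · exact hab x hx y y.2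
    · have hxr : x * r⁻¹ ∈ A := by
        rw [mul_mem_iff_of_index_two hidx, inv_mem_iff]
        exact iff_of_false hx hr
      calc x * (y : Q) = x * r⁻¹ * (r * y) := by group
        _ = x * r⁻¹ * y * r := by rw [hyr, ← mul_assoc]
        _ = y * (x * r⁻¹) * r := by rw [hab _ hxr y y.2]
        _ = y * x := by group
  have h1 : Nat.card ↥f.ker ≤ 2 := by
    rw [← hQ.2]
    exact Nat.card_le_card_of_injective (fun y => ⟨((y : ↥A) : Q), hk y y.2⟩) fun a b e =>
      Subtype.ext (Subtype.ext (congrArg Subtype.val e :))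
  have h2 : Nat.card ↥f.range ≤ 2 := hQ.2 ▸ Subgroup.card_le_card_group _
  have h := f.ker.card_mul_index
  rw [index_ker, hA] at h
  have := Nat.mul_le_mul h1 h2
  omega

theorem five_two_group {P : Subgroup A5} (hP : IsPGroup 2 P) : ∀ a ∈ P, ∀ b ∈ P, a * b = b * a := by
  haveI : Fact (Nat.Prime 2) := ⟨Nat.prime_two⟩
  obtain ⟨n, hn⟩ := IsPGroup.iff_card.mp hP
  have hd : Nat.card P ∣ 60 := five_card ▸ card_subgroup_dvd_card P
  have hn2 : n ≤ 2 := by
    by_contra h
    have : 2 ^ 3 ∣ 60 := (pow_dvd_pow 2 (show 3 ≤ n by omega)).trans (hn ▸ hd)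
    norm_num at this
  have hab : IsMulCommutative P := by
    interval_cases n
    · haveI : IsCyclic P := @isCyclic_of_subsingleton _ _ (Finite.card_le_one_iff_subsingleton.mp (by rw [hn]; norm_num))
      infer_instance
    · haveI : IsCyclic P := isCyclic_of_prime_card (p := 2) (by rw [hn]; norm_num)
      infer_instance
    · exact IsPGroup.isMulCommutative_of_card_eq_prime_sq (p := 2) hn
  intro a ha b hb
  exact congrArg Subtype.val (hab.is_comm.comm (⟨a, ha⟩ : P) ⟨b, hb⟩)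

/-- In a simple group `Q` is self-centralising in `C`. -/
theorem self_of_simple [IsSimpleGroup G] {z : G} (hz : orderOf z = 2) {Q : Subgroup G}
    (ψ : ↥(centralizer ({z} : Set G)) →* A5) (hψ : Function.Surjective ψ)
    (hker : ∀ x, ψ x = 1 ↔ (x : G) ∈ Q) (hQC : Q ≤ centralizer ({z} : Set G))
    (hextra : Cfsg.IsExtraspecial 2 ↥Q) (hcard : Nat.card ↥Q = 32) :
    ∀ x ∈ centralizer ({z} : Set G), (∀ q ∈ Q, x * q = q * x) → x ∈ Q := by
  classical
  intro x hx hxQ
  by_contra hxn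
  let K : Subgroup ↥(centralizer ({z} : Set G)) := (centralizer (Q : Set G)).subgroupOf (centralizer ({z} : Set G))
  have hconj : ∀ c : ↥(centralizer ({z} : Set G)), ∀ q ∈ Q, (c : G) * q * (c : G)⁻¹ ∈ Q := by
    intro c q hq
    have h : ψ (c * ⟨q, hQC hq⟩ * c⁻¹) = 1 := by
      rw [map_mul, map_mul, (hker ⟨q, hQC hq⟩).mpr hq, mul_one, map_inv, mul_inv_cancel]
    exact (hker _).mp h
  haveI hKn : K.Normal := ⟨fun k hk c => by
    rw [mem_subgroupOf, mem_centralizer_iff] at hk ⊢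
    intro q hq
    have hq' := hconj c⁻¹ q hq
    have e := hk _ hq'
    push_cast at e ⊢
    calc q * ((c : G) * k * (c : G)⁻¹) = c * (((c : G)⁻¹ * q * c) * k) * (c : G)⁻¹ := by group
      _ = c * ((k : G) * ((c : G)⁻¹ * q * c)) * (c : G)⁻¹ := by
          rw [inv_inv] at e; rw [e]
      _ = (c : G) * k * (c : G)⁻¹ * q := by group⟩
  haveI : Nontrivial A5 := Finite.one_lt_card_iff_nontrivial.mp (by rw [five_card]; norm_num)
  have hKtop : K.map ψ = ⊤ := by
    haveI : (K.map ψ).Normal := hKn.map ψ hψ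
    refine (IsSimpleGroup.eq_bot_or_eq_top_of_normal (K.map ψ) inferInstance).resolve_left fun hb => hxn ?_
    have hxK : (⟨x, hx⟩ : ↥(centralizer ({z} : Set G))) ∈ K := by
      rw [mem_subgroupOf, mem_centralizer_iff]
      exact fun q hq => (hxQ q hq).symm
    exact (hker ⟨x, hx⟩).mp (by simpa [hb] using mem_map_of_mem ψ hxK)
  have hdec : ∀ c : ↥(centralizer ({z} : Set G)), ∃ q ∈ Q, ∃ l : G, (∀ p ∈ Q, l * p = p * l) ∧ l ∈ (centralizer ({z} : Set G)) ∧ (c : G) = q * l := by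
    intro c
    obtain ⟨l, hl, hlc⟩ : ψ c ∈ K.map ψ := hKtop ▸ mem_top _
    refine ⟨(c : G) * (l : G)⁻¹, ?_, l, fun p hp => ((mem_centralizer_iff.mp hl) p hp).symm, l.2,
      by group⟩
    exact (hker (c * l⁻¹)).mp (by rw [map_mul, map_inv, hlc, mul_inv_cancel])
  have hzp : ∀ q ∈ Q, (∀ p ∈ Q, q * p = p * q) → q = 1 ∨ q = z := by
    intro q hq hqc
    have hzQ : z ∈ Q := by
      have hzc : (⟨z, mem_cent.mpr rfl⟩ : ↥(centralizer ({z} : Set G))) ∈ center ↥(centralizer ({z} : Set G)) :=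
        mem_center_iff.mpr fun c => Subtype.ext (mem_cent.mp c.2)
      refine (hker ⟨z, mem_cent.mpr rfl⟩).mp ?_
      have hc : ψ ⟨z, mem_cent.mpr rfl⟩ ∈ center A5 := mem_center_iff.mpr fun y => by
        obtain ⟨c, rfl⟩ := hψ y
        rw [← map_mul, ← map_mul, mem_center_iff.mp hzc c]
      by_contra hne
      have htop : center A5 = ⊤ := (IsSimpleGroup.eq_bot_or_eq_top_of_normal _ inferInstance).resolve_left
        fun hb => hne (by rwa [hb, mem_bot] at hc)
      obtain ⟨a, ha⟩ := five_exists_inv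
      obtain ⟨y, hy5, hy1⟩ := five_inv_product a ha
      have e := mem_center_iff.mp (htop ▸ mem_top a : a ∈ center A5) y
      have hb : y * a * y⁻¹ = a := by rw [e, mul_inv_cancel_right]
      rw [hb] at hy1
      exact hy1 ha.1
    let zq : ↥Q := ⟨z, hzQ⟩
    have hzq : zq ∈ center ↥Q :=
      mem_center_iff.mpr fun p => Subtype.ext (mem_cent.mp (hQC p.2))
    have hqz : (⟨q, hq⟩ : ↥Q) ∈ center ↥Q := mem_center_iff.mpr fun p => Subtype.ext (hqc p p.2).symm
    obtain ⟨a, b, hab, huniv⟩ := Nat.card_eq_two_iff.mp hextra.2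
    have h3 : ∀ w : ↥(center ↥Q), w = a ∨ w = b := fun w => by
      have : w ∈ ({a, b} : Set ↥(center ↥Q)) := huniv ▸ Set.mem_univ w
      simpa using this
    have hz1 : z ≠ 1 := fun h => by rw [h, orderOf_one] at hz; omega
    rcases h3 1 with k1 | k1 <;> rcases h3 ⟨zq, hzq⟩ with k2 | k2 <;> rcases h3 ⟨⟨q, hq⟩, hqz⟩ with k3 | k3 <;>
      first
        | exact .inl (congrArg (fun w : ↥(center ↥Q) => ((w : ↥Q) : G)) (k3.trans k1.symm))
        | exact .inr (congrArg (fun w : ↥(center ↥Q) => ((w : ↥Q) : G)) (k3.trans k2.symm))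
        | exact absurd (congrArg (fun w : ↥(center ↥Q) => ((w : ↥Q) : G)) (k2.trans k1.symm)) hz1
  -- commutators of a `2`-subgroup of `(centralizer ({z} : Set G))` lie in `⟨z⟩`
  have hder : ∀ P : Subgroup G, IsPGroup 2 P → P ≤ (centralizer ({z} : Set G)) → ∀ a ∈ P, ∀ b ∈ P,
      a * b * a⁻¹ * b⁻¹ = 1 ∨ a * b * a⁻¹ * b⁻¹ = z := by
    intro P hP hPC a ha b hb
    have hψc := five_two_group ((hP.comap_subtype (K := (centralizer ({z} : Set G)))).map ψ) _
      (mem_map_of_mem ψ (show (⟨a, hPC ha⟩ : ↥(centralizer ({z} : Set G))) ∈ P.comap (centralizer ({z} : Set G)).subtype from ha)) _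
      (mem_map_of_mem ψ (show (⟨b, hPC hb⟩ : ↥(centralizer ({z} : Set G))) ∈ P.comap (centralizer ({z} : Set G)).subtype from hb))
    obtain ⟨q, hq, l, hl, hlC, e⟩ := hdec ⟨a, hPC ha⟩
    obtain ⟨p, hp, m, hm, hmC, e'⟩ := hdec ⟨b, hPC hb⟩
    replace e : a = q * l := e
    replace e' : b = p * m := e'
    have hψl : ψ ⟨a, hPC ha⟩ = ψ ⟨l, hlC⟩ := by
      rw [show (⟨a, hPC ha⟩ : ↥(centralizer ({z} : Set G))) = ⟨q, hQC hq⟩ * ⟨l, hlC⟩ from Subtype.ext e, map_mul,
        (hker ⟨q, hQC hq⟩).mpr hq, one_mul]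
    have hψm : ψ ⟨b, hPC hb⟩ = ψ ⟨m, hmC⟩ := by
      rw [show (⟨b, hPC hb⟩ : ↥(centralizer ({z} : Set G))) = ⟨p, hQC hp⟩ * ⟨m, hmC⟩ from Subtype.ext e', map_mul,
        (hker ⟨p, hQC hp⟩).mpr hp, one_mul]
    rw [hψl, hψm] at hψc
    have hlm : l * m * l⁻¹ * m⁻¹ ∈ Q := by
      refine (hker (⟨l, hlC⟩ * ⟨m, hmC⟩ * ⟨l, hlC⟩⁻¹ * ⟨m, hmC⟩⁻¹)).mp ?_
      rw [map_mul, map_mul, map_mul, map_inv, map_inv, hψc]
      group
    have hlmc : ∀ k ∈ Q, l * m * l⁻¹ * m⁻¹ * k = k * (l * m * l⁻¹ * m⁻¹) := fun k hk => by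
      have h1 : Commute l k := hl k hk
      have h2 : Commute m k := hm k hk
      exact (((h1.mul_left h2).mul_left h1.inv_left).mul_left h2.inv_left).eq
    have hqpQ : q * p * q⁻¹ * p⁻¹ ∈ Q := mul_mem (mul_mem (mul_mem hq hp) (inv_mem hq)) (inv_mem hp)
    have hqpc : ∀ k ∈ Q, q * p * q⁻¹ * p⁻¹ * k = k * (q * p * q⁻¹ * p⁻¹) := fun k hk => by
      have h := Subgroup.commutator_mem_commutator (mem_top (⟨q, hq⟩ : ↥Q)) (mem_top (⟨p, hp⟩ : ↥Q))
      rw [← _root_.commutator_def, hextra.1.2.2] at h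
      exact (congrArg Subtype.val (mem_center_iff.mp h ⟨k, hk⟩)).symm
    have hsplit : a * b * a⁻¹ * b⁻¹ = (q * p * q⁻¹ * p⁻¹) * (l * m * l⁻¹ * m⁻¹) := by
      have c1 : Commute l q := hl q hq
      have c2 : Commute l p := hl p hp
      have c3 : Commute m q := hm q hq
      have c4 : Commute m p := hm p hp
      calc a * b * a⁻¹ * b⁻¹ = q * (l * p) * m * (l⁻¹ * q⁻¹) * m⁻¹ * p⁻¹ := by rw [e, e']; group
        _ = q * p * (l * m * l⁻¹) * (q⁻¹ * m⁻¹) * p⁻¹ := by rw [c2.eq]; group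
        _ = q * p * (l * m * l⁻¹) * m⁻¹ * q⁻¹ * p⁻¹ := by rw [c3.inv_inv.symm.eq]; group
        _ = q * p * ((l * m * l⁻¹ * m⁻¹) * (q⁻¹ * p⁻¹)) := by group
        _ = q * p * ((q⁻¹ * p⁻¹) * (l * m * l⁻¹ * m⁻¹)) := by
            rw [hlmc _ (mul_mem (inv_mem hq) (inv_mem hp))]
        _ = _ := by group
    rw [hsplit]
    exact hzp _ (mul_mem hqpQ hlm) fun k hk =>
      ((show Commute _ k from hqpc k hk).mul_left (hlmc k hk)).eq
  have hnc : ¬ z ∈ center G := fun h => by
    have hC' : (centralizer ({z} : Set G)) = ⊤ := eq_top_iff.mpr fun g _ => mem_cent.mpr (mem_center_iff.mp h g)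
    have hzb : center G = ⊥ := by
      refine (IsSimpleGroup.eq_bot_or_eq_top_of_normal _ inferInstance).resolve_right fun ht => ?_
      obtain ⟨a, ha⟩ := five_exists_inv
      obtain ⟨y, hy5, hy1⟩ := five_inv_product a ha
      obtain ⟨⟨c, hc⟩, rfl⟩ := hψ a
      obtain ⟨⟨d, hd⟩, rfl⟩ := hψ y
      have ec : ψ ⟨d, hd⟩ * ψ ⟨c, hc⟩ = ψ ⟨c, hc⟩ * ψ ⟨d, hd⟩ := by
        rw [← map_mul, ← map_mul]
        exact congrArg ψ (Subtype.ext (mem_center_iff.mp (ht ▸ mem_top c : c ∈ center G) d))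
      rw [ec, mul_inv_cancel_right] at hy1
      exact hy1 ha.1
    rw [hzb, mem_bot] at h
    rw [h, orderOf_one] at hz
    omega
  obtain ⟨g, hgC, hgne⟩ := exists_commuting_other hz hnc
  obtain ⟨q, hq, l, hl, hlC, e⟩ := hdec ⟨_, hgC⟩
  replace e : g * z * g⁻¹ = q * l := e
  set A : Subgroup G := Q ⊓ centralizer ({g * z * g⁻¹} : Set G) with hAdef
  have hmemA : ∀ k ∈ Q, k * q = q * k → k ∈ A := by
    intro k hk hkq
    refine ⟨hk, mem_cent.mpr ?_⟩
    rw [e, ← mul_assoc, hkq, mul_assoc, ← hl k hk, mul_assoc]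
  obtain ⟨a, ha, b, hb, hab⟩ : ∃ a ∈ A, ∃ b ∈ A, a * b ≠ b * a := by
    by_cases hqc : ∀ p ∈ Q, q * p = p * q
    · obtain ⟨a, b, hab⟩ : ∃ a b : ↥Q, a * b ≠ b * a := by
        by_contra h
        push Not at h
        have : center ↥Q = ⊤ := eq_top_iff.mpr fun x _ => mem_center_iff.mpr fun y => h y x
        have hc := hextra.2
        rw [this, card_top, hcard] at hc
        omega
      exact ⟨a, hmemA a a.2 (hqc a a.2).symm, b, hmemA b b.2 (hqc b b.2).symm,
        fun h => hab (Subtype.ext h)⟩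
    · let qQ : ↥Q := ⟨q, hq⟩
      have hcomm : ∀ x y : ↥Q, ⁅x, y⁆ ∈ center ↥Q := fun x y =>
        hextra.1.2.2 ▸ Subgroup.commutator_mem_commutator (mem_top x) (mem_top y)
      let f : ↥Q →* ↥(center ↥Q) := MonoidHom.mk' (fun y => ⟨⁅qQ, y⁆, hcomm qQ y⟩) fun x y => Subtype.ext (by
        show ⁅qQ, x * y⁆ = ⁅qQ, x⁆ * ⁅qQ, y⁆
        have h1 := mem_center_iff.mp (hcomm qQ y) x
        calc ⁅qQ, x * y⁆ = ⁅qQ, x⁆ * (x * ⁅qQ, y⁆ * x⁻¹) := by simp only [commutatorElement_def]; group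
          _ = _ := by rw [h1, mul_inv_cancel_right])
      have hfk : Nat.card ↥f.ker = 16 := by
        have hr : f.range = ⊤ := by
          refine eq_top_of_card_eq _ (le_antisymm (Subgroup.card_le_card_group _) ?_)
          rw [hextra.2]
          refine Finite.one_lt_card_iff_nontrivial.mpr ((Subgroup.nontrivial_iff_ne_bot _).mpr fun hb => hqc ?_)
          intro p hp
          rw [MonoidHom.range_eq_bot_iff] at hb
          have h1 : f ⟨p, hp⟩ = 1 := by rw [hb]; rfl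
          exact congrArg Subtype.val
            (commutatorElement_eq_one_iff_mul_comm.mp (congrArg Subtype.val h1))
        have := f.ker.card_mul_index
        rw [index_ker, hr, card_top, hextra.2, hcard] at this
        omega
      obtain ⟨a, ha, b, hb, hab⟩ := exists_noncomm_of_large hextra hcard hfk
      have hk : ∀ y : ↥Q, y ∈ f.ker → (y : G) ∈ A := fun y hy => hmemA y y.2 (by
        rw [MonoidHom.mem_ker, Subtype.ext_iff] at hy
        exact (congrArg Subtype.val (commutatorElement_eq_one_iff_mul_comm.mp hy :)).symm)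
      exact ⟨a, hk a ha, b, hk b hb, fun h => hab (Subtype.ext h)⟩
  -- conjugate back
  set P : Subgroup G := A.map (MulAut.conj g⁻¹).toMonoidHom with hPdef
  have hP : IsPGroup 2 P := by
    have hQ2 : IsPGroup 2 ↥Q := IsPGroup.of_card (n := 5) (by rw [hcard]; norm_num)
    exact (hQ2.to_le inf_le_left).map _
  have hPC : P ≤ (centralizer ({z} : Set G)) := by
    rintro _ ⟨k, hk, rfl⟩
    refine mem_cent.mpr ?_
    have hk' := mem_cent.mp hk.2
    show g⁻¹ * k * g⁻¹⁻¹ * z = z * (g⁻¹ * k * g⁻¹⁻¹)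
    calc g⁻¹ * k * g⁻¹⁻¹ * z = g⁻¹ * (k * (g * z * g⁻¹)) * g := by group
      _ = g⁻¹ * ((g * z * g⁻¹) * k) * g := by rw [hk']
      _ = z * (g⁻¹ * k * g⁻¹⁻¹) := by group
  have hz' : a * b * a⁻¹ * b⁻¹ = z := by
    have hP0 : IsPGroup 2 ↥Q := IsPGroup.of_card (n := 5) (by rw [hcard]; norm_num)
    refine (hder Q hP0 hQC a ha.1 b hb.1).resolve_left fun h => hab ?_
    rwa [mul_inv_eq_one, mul_inv_eq_iff_eq_mul] at h
  have h1 := hder P hP hPC _ (mem_map_of_mem _ ha) _ (mem_map_of_mem _ hb)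
  rw [← map_inv, ← map_inv, ← map_mul, ← map_mul, ← map_mul, hz'] at h1
  have hz1 : z ≠ 1 := fun h => by rw [h, orderOf_one] at hz; omega
  rcases h1 with h | h
  · exact hz1 ((EmbeddingLike.map_eq_one_iff (f := MulAut.conj g⁻¹)).mp h)
  · refine hgne ?_
    have h' : g⁻¹ * z * g⁻¹⁻¹ = z := h
    calc g * z * g⁻¹ = g * (g⁻¹ * z * g⁻¹⁻¹) * g⁻¹ := by rw [h']
      _ = z := by group

namespace Frame

variable (S : Frame G)

theorem not_mem_center [IsSimpleGroup G] : ¬ S.z ∈ center G := fun h => by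
  obtain ⟨g, hg, h5⟩ := S.exists_five
  obtain ⟨u, hu, hu2, huz⟩ := S.exists_noncentral
  have hC : S.C = ⊤ := eq_top_iff.mpr fun x _ => mem_cent.mpr (mem_center_iff.mp h x)
  have hzp : (zpowers S.z).Normal := ⟨fun x hx y => by
    obtain ⟨n, rfl⟩ := mem_zpowers_iff.mp hx
    rw [← conj_zpow, mem_center_iff.mp h y, mul_inv_cancel_right]
    exact zpow_mem (mem_zpowers _) n⟩
  rcases IsSimpleGroup.eq_bot_or_eq_top_of_normal _ hzp with hb | ht
  · exact S.z_ne_one (zpowers_eq_bot.mp hb)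
  · have := S.hz
    rw [← Nat.card_zpowers, ht, card_top] at this
    have hc := S.card_C
    rw [hC, card_top] at hc
    omega

/-- `z` has another conjugate in `Q`. -/
theorem exists_conj_in_Q [IsSimpleGroup G] : ∃ u ∈ S.Q, u ≠ S.z ∧ IsConj S.z u := by
  obtain ⟨g, hgC, hgne⟩ := exists_commuting_other S.hz S.not_mem_center
  set w := g * S.z * g⁻¹ with hw
  have hwz : IsConj S.z w := isConj_iff.mpr ⟨g, rfl⟩
  have hwi : Inv w := conj_inv_iff hwz S.inv_z
  by_cases hwQ : w ∈ S.Q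
  · exact ⟨w, hwQ, hgne, hwz⟩
  by_contra hno
  push Not at hno
  have ha : S.Outside w := ⟨hgC, hwQ, hwi.1⟩
  obtain ⟨u, hu, hu2, huz, hua, -⟩ := S.exists_core ha
  -- the conjugate of `z` lies outside
  set y := g⁻¹ * S.z * g with hy
  have hyz : IsConj S.z y := isConj_iff.mpr ⟨g⁻¹, by rw [hy, inv_inv]⟩
  have hyC : y ∈ S.C := by
    refine mem_cent.mpr ?_
    calc y * S.z = g⁻¹ * (S.z * w) * g := by rw [hy, hw]; group
      _ = g⁻¹ * (w * S.z) * g := by rw [mem_cent.mp hgC]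
      _ = S.z * y := by rw [hy, hw]; group
  have hyne : y ≠ S.z := fun h => hgne (by rw [hw]; nth_rw 1 [← h]; rw [hy]; group)
  have hyo : S.Outside y := ⟨hyC, fun hQ => hno y hQ hyne hyz, (conj_inv_iff hyz S.inv_z).1⟩
  have key : ∀ v ∈ S.Q, v * v = 1 → ¬ S.Zp v → v * w = w * v → g⁻¹ * v * g ∈ S.Q := by
    intro v hv hv2 hvz hvw
    by_contra hvQ
    have hvC : g⁻¹ * v * g ∈ S.C := by
      refine mem_cent.mpr ?_
      calc g⁻¹ * v * g * S.z = g⁻¹ * (v * w) * g := by rw [hw]; group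
        _ = g⁻¹ * (w * v) * g := by rw [hvw]
        _ = S.z * (g⁻¹ * v * g) := by rw [hw]; group
    have hvo : S.Outside (g⁻¹ * v * g) := ⟨hvC, hvQ, by
      rw [show g⁻¹ * v * g * (g⁻¹ * v * g) = g⁻¹ * (v * v) * g by group, hv2]; group⟩
    obtain ⟨c, -, hc⟩ := S.conj_outside hyo hvo
    refine hno v hv (fun h => hvz (.inr h)) (hyz.trans ((isConj_iff.mpr ⟨c, hc⟩).trans
      (isConj_iff.mpr ⟨g, by group⟩)))
  have h1 := key u hu hu2 huz hua
  have h2 := key (S.z * u) (mul_mem S.z_mem_Q hu) ?_ (fun h => huz ?_) ?_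
  · refine hyo.notMem ?_
    have e : y = g⁻¹ * (S.z * u) * g * (g⁻¹ * u * g)⁻¹ := by rw [hy]; group
    rw [e]
    exact mul_mem h2 (inv_mem h1)
  · rw [mul_assoc, ← mul_assoc u, S.z_comm (S.Q_le hu), mul_assoc S.z u u, hu2, mul_one, S.zz]
  · rcases h with h | h
    · exact .inr (by rw [eq_inv_of_mul_eq_one_right h, inv_of_sq S.zz])
    · exact .inl (mul_eq_left.mp h)
  · calc S.z * u * w = S.z * (u * w) := mul_assoc _ _ _
      _ = S.z * w * u := by rw [hua, ← mul_assoc]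
      _ = w * (S.z * u) := by rw [← mem_cent.mp hgC, mul_assoc]

end Frame

/-- The frame of a simple group with an involution centraliser `2^{1+4}.A₅`. -/
theorem exists_frame [IsSimpleGroup G] {z : G} (hz : orderOf z = 2)
    (E : Subgroup ↥(centralizer ({z} : Set G))) [E.Normal] (hE : Nat.card E = 32)
    (hX : Cfsg.IsExtraspecial 2 E) (e : ↥(centralizer ({z} : Set G)) ⧸ E ≃* A5) :
    ∃ S : Frame G, S.z = z := by
  let ψ : ↥(centralizer ({z} : Set G)) →* A5 := e.toMonoidHom.comp (QuotientGroup.mk' E)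
  have hmem : ∀ x : ↥(centralizer ({z} : Set G)), (x : G) ∈ E.map (centralizer ({z} : Set G)).subtype ↔ x ∈ E := fun x =>
    ⟨fun ⟨y, hy, h⟩ => (Subtype.ext h : y = x) ▸ hy, fun h => ⟨x, h, rfl⟩⟩
  have hψ : Function.Surjective ψ := e.surjective.comp (QuotientGroup.mk'_surjective E)
  have hker : ∀ x, ψ x = 1 ↔ (x : G) ∈ E.map (centralizer ({z} : Set G)).subtype := fun x => by
    rw [hmem]
    show e (QuotientGroup.mk x : ↥(centralizer ({z} : Set G)) ⧸ E) = 1 ↔ x ∈ E
    rw [EmbeddingLike.map_eq_one_iff, QuotientGroup.eq_one_iff]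
  have hcard : Nat.card ↥(E.map (centralizer ({z} : Set G)).subtype) = 32 := by
    rw [Subgroup.card_map_of_injective (centralizer ({z} : Set G)).subtype_injective, hE]
  have hextra : Cfsg.IsExtraspecial 2 ↥(E.map (centralizer ({z} : Set G)).subtype) :=
    TI.isExtraspecial_congr (E.equivMapOfInjective (centralizer ({z} : Set G)).subtype (centralizer ({z} : Set G)).subtype_injective) hX
  exact ⟨{ z := z
           hz := hz
           Q := E.map (centralizer ({z} : Set G)).subtype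
           ψ := ψ
           ψ_surj := hψ
           ψ_ker := hker
           Q_le := Subgroup.map_subtype_le E
           extra := hextra
           card_Q := hcard
           self := self_of_simple hz ψ hψ hker (Subgroup.map_subtype_le E) hextra hcard }, rfl⟩

end Cfsg.Agent.J3Order
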