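import Cfsg.Agent.Lib.J3Order.Formula
import Cfsg.Agent.Lib.J3Order.Arith

/-!
The order `50232960` from the order formula and Sylow's theorems at the primes 53 and 67.
-/

set_option autoImplicit false
set_option linter.style.haveILetI false
set_option linter.unusedSectionVars false

namespace Cfsg.Agent.J3Order

open Subgroup HallJankoType
open Cfsg.Agent.JankoOrder (inv_iff_orderOf)

universe u

local notation "Inv" => JankoOrder.Inv

set_option maxRecDepth 8000 in
theorem divisors_53 : ∀ j : Fin 700, (53 * (j : ℕ) + 1) ∣ 685440 → (j : ℕ) = 0 ∨ (j : ℕ) = 3 ∨ (j : ℕ) = 19 := by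
  decide +kernel

set_option maxRecDepth 8000 in
theorem divisors_67 : ∀ j : Fin 700, (67 * (j : ℕ) + 1) ∣ 524160 → (j : ℕ) = 0 ∨ (j : ℕ) = 5 := by
  decide +kernel

set_option maxRecDepth 8000 in
theorem codivisors_53 : ∀ m : Fin 20, (m : ℕ) ∣ 685440 → 685440 / (m : ℕ) % 53 = 1 → False := by
  decide +kernel

set_option maxRecDepth 8000 in
theorem codivisors_67 : ∀ m : Fin 20, (m : ℕ) ∣ 524160 → 524160 / (m : ℕ) % 67 = 1 → False := by
  decide +kernel

variable {G : Type u} [Group G] [Finite G]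

/-- The index and the centraliser of a Sylow subgroup of prime order. -/
theorem sylow_data [IsSimpleGroup G] {p R : ℕ} (hp : p.Prime) (hG : Nat.card G = p * R) (hpR : ¬ p ∣ R)
    (hR : 1 < R) :
    ∃ n c e : ℕ, ∃ P : Subgroup G, Nat.card P = p ∧ Nat.card ↥(centralizer (P : Set G)) = c ∧
      n % p = 1 ∧ n ∣ R ∧ n ≠ 1 ∧ Nat.card G = n * (c * e) ∧ e ∣ p - 1 := by
  haveI : Fact p.Prime := ⟨hp⟩
  obtain ⟨P⟩ := (inferInstance : Nonempty (Sylow p G))
  have hP : Nat.card (P : Subgroup G) = p := by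
    rw [Sylow.card_eq_multiplicity, hG, Nat.factorization_mul hp.ne_zero (by omega), Finsupp.add_apply,
      hp.factorization_self, Nat.factorization_eq_zero_of_not_dvd hpR, pow_one]
  set N := normalizer ((P : Subgroup G) : Set G) with hN
  have hidx : N.index = Nat.card (Sylow p G) := (Sylow.card_eq_index_normalizer P).symm
  have hn : N.index % p = 1 := by
    have := card_sylow_modEq_one p G
    rw [← hidx] at this
    rw [Nat.ModEq] at this
    rw [this]
    exact Nat.mod_eq_of_lt hp.one_lt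
  set f := Subgroup.normalizerMonoidHom (P : Subgroup G) with hf
  have hc : Nat.card f.ker = Nat.card ↥(centralizer ((P : Subgroup G) : Set G)) := by
    rw [hf, normalizerMonoidHom_ker]
    exact Nat.card_congr (Subgroup.subgroupOfEquivOfLe (centralizer_le_normalizer _)).toEquiv
  have he : Nat.card f.range ∣ p - 1 := by
    haveI : IsCyclic (P : Subgroup G) := isCyclic_of_prime_card hP
    refine (card_subgroup_dvd_card f.range).trans ?_
    rw [IsCyclic.card_mulAut, hP, Nat.totient_prime hp]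
  have hmul : Nat.card N = Nat.card ↥(centralizer ((P : Subgroup G) : Set G)) * Nat.card f.range := by
    rw [← hc, ← Subgroup.index_ker, f.ker.card_mul_index]
  refine ⟨N.index, _, Nat.card f.range, P, hP, rfl, hn, ?_, ?_, ?_, he⟩
  · have h1 : p ∣ Nat.card N := hP ▸ card_dvd_of_le le_normalizer
    obtain ⟨k, hk⟩ := h1
    have := N.card_mul_index
    rw [hG, hk, mul_assoc] at this
    exact ⟨k, by rw [← Nat.eq_of_mul_eq_mul_left hp.pos this]; ring⟩
  · intro h1
    have hnorm : (P : Subgroup G).Normal := normalizer_eq_top_iff.mp (Subgroup.index_eq_one.mp h1)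
    rcases hnorm.eq_bot_or_eq_top with h | h
    · rw [h, Subgroup.card_bot] at hP
      exact hp.one_lt.ne hP
    · rw [h, Subgroup.card_top, hG] at hP
      have := hp.pos
      nlinarith
  · rw [← hmul, mul_comm, N.card_mul_index]

theorem exists_comm_of_dvd {P : Subgroup G} {p q : ℕ} (hp : p.Prime) (hq : q.Prime) (hP : Nat.card P = p)
    (h : q ∣ Nat.card ↥(centralizer (P : Set G))) :
    ∃ w : G, orderOf w = q ∧ p ∣ Nat.card ↥(centralizer ({w} : Set G)) := by
  haveI : Fact q.Prime := ⟨hq⟩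
  obtain ⟨⟨w, hw⟩, ho⟩ := exists_prime_orderOf_dvd_card' q h
  refine ⟨w, by rwa [Subgroup.orderOf_mk] at ho, hP ▸ card_dvd_of_le fun v hv => mem_cent.mpr ?_⟩
  exact mem_centralizer_iff.mp hw v hv

variable {S : One G} [IsSimpleGroup G]

theorem One.no_big_involution (S : One G) {P : Subgroup G} {p : ℕ} (hp : p.Prime) (hp' : ¬ p ∣ 1920)
    (hP : Nat.card P = p) : ¬ 2 ∣ Nat.card ↥(centralizer (P : Set G)) := fun h => by
  obtain ⟨w, hw, hd⟩ := exists_comm_of_dvd hp Nat.prime_two hP h
  rw [S.card_cent_inv (inv_iff_orderOf.mpr hw)] at hd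
  exact hp' hd

theorem One.main [Fintype G] (S : One G) : Nat.card G = 50232960 ∧ (∃ F : Five S, Nat.card F.O = 15 ∧ Nat.card F.M₂ = 1) ∧
    ∃ ξ : Cfsg.IrrCharacter G, Cfsg.charDegree ξ.1 = 323 := by
  haveI : Fact (Nat.Prime 2) := ⟨Nat.prime_two⟩
  haveI : Fact (Nat.Prime 5) := ⟨by norm_num⟩
  obtain ⟨y, s, hy, hy5, hs, hinv⟩ := S.exists_five_inverted
  let F₀ : Five S := ⟨y, s, hy, hy5, hs, hinv⟩
  obtain ⟨T⟩ := exists_tri S
  -- the size of `O`, with the fixed subgroup of `s'` trivial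
  obtain ⟨F, a, hM1, hM2, ha, hcases⟩ : ∃ (F : Five S) (a : ℕ), Nat.card F.M₁ = a ∧ Nat.card F.M₂ = 1 ∧
      (a = 1 ∨ a = 3) ∧ ((a = 3 ∧ Nat.card ↥T.H = 1080) ∨
        (a = 1 ∧ 63 ∣ Nat.card G ∧ ¬ 27 ∣ Nat.card G ∧
          ∀ w : G, orderOf w = 3 → Nat.card ↥(centralizer ({w} : Set G)) = 504)) := by
    rcases T.cases with ⟨⟨e⟩⟩ | ⟨⟨e⟩⟩
    · have h := T.seven_final e F₀
      exact ⟨F₀, 1, Nat.eq_one_of_mul_eq_one_right h, Nat.eq_one_of_mul_eq_one_left h, .inl rfl,
        .inr ⟨rfl, T.seven_63 e, T.seven_not_27 e, fun w hw => (T.seven_three e hw).2⟩⟩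
    · have h := T.six_final e F₀
      have hH := T.card_H_six e
      rcases F₀.card_M₁ with h1 | h1 | h1 <;> rw [h1] at h
      · exact ⟨F₀.swap, 3, by rw [F₀.swap_M₁]; omega, by rw [F₀.swap_M₂, h1], .inr rfl, .inl ⟨rfl, hH⟩⟩
      · exact ⟨F₀, 3, h1, by omega, .inr rfl, .inl ⟨rfl, hH⟩⟩
      · omega
  have hO : Nat.card F.O = 5 * a := by rw [F.card_O, hM1, hM2, mul_one]
  obtain ⟨d, u, ⟨ξ, hξ⟩, hd, hdg, hd1, hu, hf⟩ := F.order_formula hM1 ha hM2
  -- the Sylow subgroup of order five
  have h5 : 5 ∣ Nat.card G := F.hy ▸ orderOf_dvd_natCard F.y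
  obtain ⟨P, hP⟩ := (IsPGroup.of_card (n := 1) (G := zpowers F.y)
    (by rw [Nat.card_zpowers, F.hy, pow_one])).exists_le_sylow
  have hPy : (P : Subgroup G) = zpowers F.y := by
    by_contra hne
    haveI : Group.IsNilpotent (P : Subgroup G) := P.isPGroup'.isNilpotent
    have hlt : (zpowers F.y).subgroupOf P < ⊤ := lt_top_iff_ne_top.mpr fun h =>
      hne (le_antisymm (Subgroup.subgroupOf_eq_top.mp h) hP)
    obtain ⟨⟨n, hnP⟩, hnN, hny⟩ :=
      SetLike.exists_of_lt (Group.normalizerCondition_of_isNilpotent _ hlt)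
    have hn : n * F.y * n⁻¹ ∈ zpowers F.y :=
      (mem_normalizer_iff.mp hnN ⟨F.y, hP (mem_zpowers _)⟩).mp (mem_subgroupOf.mpr (mem_zpowers _))
    obtain ⟨i, hi⟩ := IsPGroup.iff_orderOf.mp P.isPGroup' ⟨n, hnP⟩
    rw [Subgroup.orderOf_mk] at hi
    have hodd : Odd (orderOf n) := hi ▸ Odd.pow (by decide)
    have hnL : n * F.y = F.y * n := by
      rcases F.norm_pm hn with e | e
      · exact mul_inv_eq_iff_eq_mul.mp e
      · by_contra hne'
        exact Nat.not_even_iff_odd.mpr hodd (even_of_sq_comm (sq_comm_of_inverts e) hne')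
    have hnO : n ∈ F.O := F.mem_O.mpr ⟨hnL, hodd⟩
    have hd5 : 5 ^ i ∣ 5 * a := hi ▸ hO ▸ Subgroup.orderOf_dvd_natCard _ hnO
    have hi1 : i ≤ 1 := by
      by_contra h
      have : 5 ^ 2 ∣ 5 * a := (pow_dvd_pow 5 (show 2 ≤ i by omega)).trans hd5
      rcases ha with rfl | rfl <;> norm_num at this
    refine hny (mem_subgroupOf.mpr ?_)
    show n ∈ zpowers F.y
    obtain ⟨c, hc, m, hm, e, he, rfl⟩ := F.decomp hnO
    rw [Subgroup.eq_bot_of_card_eq _ hM2, mem_bot] at he
    subst he
    rw [mul_one] at hi ⊢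
    have hm5 : m ^ 5 = 1 := by
      have h := orderOf_dvd_iff_pow_eq_one.mp (hi ▸ pow_dvd_pow 5 hi1 : orderOf (c * m) ∣ 5 ^ 1)
      rw [pow_one, (show Commute c m from (F.y_pow_central hc hm.1).symm).mul_pow, F.pow_five hc, one_mul] at h
      exact h
    have hma : m ^ a = 1 := by
      rw [← hM1]
      exact congrArg Subtype.val (pow_card_eq_one' (x := (⟨m, hm⟩ : F.M₁)))
    rw [orderOf_eq_one_iff.mp (Nat.eq_one_of_dvd_coprimes
      (show Nat.Coprime 5 a by rcases ha with rfl | rfl <;> norm_num) (orderOf_dvd_of_pow_eq_one hm5)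
      (orderOf_dvd_of_pow_eq_one hma)), mul_one]
    exact hc
  have hP5 : Nat.card (P : Subgroup G) = 5 := by rw [hPy, Nat.card_zpowers, F.hy]
  have h25 : ¬ 25 ∣ Nat.card G := fun h => by
    have := P.pow_dvd_card_of_pow_dvd_card (n := 2) h
    rw [hP5] at this
    norm_num at this
  have hNY : Nat.card F.NY = 20 * a := by rw [F.card_NY, hO]; ring
  have hmod : Nat.card G / (20 * a) % 5 = 1 := by
    have h := card_sylow_modEq_one 5 G
    have hN' : F.NY = normalizer ((P : Subgroup G) : Set G) := by rw [hPy]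
    have hn5 := Sylow.card_eq_index_normalizer P
    rw [hn5] at h
    replace h : F.NY.index % 5 = 1 := hN' ▸ h
    have e := (F.NY).card_mul_index
    rw [hNY] at e
    rw [← e, Nat.mul_div_cancel_left _ (by omega)]
    exact h
  have h20 : 20 * a ∣ Nat.card G := hNY ▸ card_subgroup_dvd_card _
  -- the Sylow 2-subgroups
  obtain ⟨R⟩ := (inferInstance : Nonempty (Sylow 2 G))
  have hR := two_part S.one R
  have h128 : 128 ∣ Nat.card G := hR ▸ card_subgroup_dvd_card _
  have h256 : ¬ 256 ∣ Nat.card G := fun h => by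
    have := R.pow_dvd_card_of_pow_dvd_card (n := 8) h
    rw [hR] at this
    norm_num at this
  have h1920 : 1920 ∣ Nat.card G := S.card_C ▸ card_subgroup_dvd_card S.C
  have hgood : goodOrder a (Nat.card G) = true := by
    simp only [goodOrder, Bool.and_eq_true, beq_iff_eq, bne_iff_ne, ne_eq]
    refine ⟨⟨⟨⟨⟨⟨⟨?_, ?_⟩, ?_⟩, ?_⟩, ?_⟩, ?_⟩, hmod⟩, ?_⟩
    · exact Nat.mod_eq_zero_of_dvd h128
    · exact fun h => h256 (Nat.dvd_of_mod_eq_zero h)
    · exact Nat.mod_eq_zero_of_dvd h5
    · exact fun h => h25 (Nat.dvd_of_mod_eq_zero h)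
    · exact Nat.mod_eq_zero_of_dvd h1920
    · exact Nat.mod_eq_zero_of_dvd h20
    · rcases hcases with ⟨rfl, hH⟩ | ⟨rfl, h63, h27, -⟩
      · rw [if_pos (by decide), beq_iff_eq]
        exact Nat.mod_eq_zero_of_dvd ((show 27 ∣ 1080 by norm_num).trans (hH ▸ card_subgroup_dvd_card T.H))
      · rw [if_neg (by decide)]
        simp only [Bool.and_eq_true, beq_iff_eq, bne_iff_ne, ne_eq]
        exact ⟨Nat.mod_eq_zero_of_dvd h63, fun h => h27 (Nat.dvd_of_mod_eq_zero h)⟩
  have hans := arith ha hd hdg hd1 hu hf hgood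
  rcases hcases with ⟨rfl, -⟩ | ⟨rfl, -, -, h504⟩
  · simp only [answer] at hans
    rw [if_pos (by decide)] at hans
    simp only [Bool.and_eq_true, beq_iff_eq] at hans
    exact ⟨hans.1.1, ⟨F, by rw [hO], hM2⟩, ξ, hξ.trans hans.1.2⟩
  · exfalso
    simp only [answer] at hans
    rw [if_neg (by decide)] at hans
    simp only [Bool.or_eq_true, beq_iff_eq] at hans
    rcases hans with hg | hg
    · obtain ⟨n, c, e, Q, hQ, hc, hn, hnR, hn1, hmul, he⟩ :=
        sylow_data (G := G) (p := 67) (R := 524160) (by norm_num) (by rw [hg]) (by norm_num) (by norm_num)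
      have hnv : n = 336 := by
        obtain ⟨m, hm⟩ := hnR
        have hm20 : 20 ≤ m := by
          by_contra h
          refine codivisors_67 ⟨m, by omega⟩ ⟨n, by show 524160 = m * n; rw [hm]; ring⟩ ?_
          show 524160 / m % 67 = 1
          rw [hm, Nat.mul_div_cancel _ (Nat.pos_of_ne_zero fun h0 => by simp [h0] at hm), hn]
        have hnle : n ≤ 67 * 699 + 1 := by nlinarith
        have := divisors_67 ⟨n / 67, by omega⟩
          (by show 67 * (n / 67) + 1 ∣ 524160; rw [show 67 * (n / 67) + 1 = n by omega]; exact ⟨m, hm⟩)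
        simp only at this
        omega
      subst hnv
      have hce : c * e = 104520 :=
          Nat.eq_of_mul_eq_mul_left (show 0 < 336 by decide) (hmul.symm.trans (hg.trans (show _ = 336 * 104520 by rfl)))
      have h2c : ¬ 2 ∣ c := hc ▸ S.no_big_involution (by norm_num) (by norm_num) hQ
      have he' : e ∣ 66 := he
      have h8 : 8 ∣ c * e := by rw [hce]; norm_num
      have h8e : 8 ∣ e := (Nat.Coprime.dvd_mul_left
        ((Nat.coprime_two_left.mpr (Nat.not_even_iff_odd.mp fun hev => h2c (even_iff_two_dvd.mp hev))).pow_left 3)).mp h8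
      have := h8e.trans he'
      norm_num at this
    · obtain ⟨n, c, e, Q, hQ, hc, hn, hnR, hn1, hmul, he⟩ :=
        sylow_data (G := G) (p := 53) (R := 685440) (by norm_num) (by rw [hg]) (by norm_num) (by norm_num)
      have hnv : n = 160 ∨ n = 1008 := by
        obtain ⟨m, hm⟩ := hnR
        have hm20 : 20 ≤ m := by
          by_contra h
          refine codivisors_53 ⟨m, by omega⟩ ⟨n, by show 685440 = m * n; rw [hm]; ring⟩ ?_
          show 685440 / m % 53 = 1
          rw [hm, Nat.mul_div_cancel _ (Nat.pos_of_ne_zero fun h0 => by simp [h0] at hm), hn]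
        have hnle : n ≤ 53 * 699 + 1 := by nlinarith
        have := divisors_53 ⟨n / 53, by omega⟩
          (by show 53 * (n / 53) + 1 ∣ 685440; rw [show 53 * (n / 53) + 1 = n by omega]; exact ⟨m, hm⟩)
        simp only at this
        omega
      have he' : e ∣ 52 := he
      rcases hnv with rfl | rfl
      · have hce : c * e = 227052 :=
          Nat.eq_of_mul_eq_mul_left (show 0 < 160 by decide) (hmul.symm.trans (hg.trans (show _ = 160 * 227052 by rfl)))
        have h3 : 3 ∣ c := by
          have : 3 ∣ c * e := by rw [hce]; norm_num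
          rcases Nat.prime_three.dvd_mul.mp this with h | h
          · exact h
          · have := h.trans he'
            norm_num at this
        obtain ⟨w, hw, hd'⟩ := exists_comm_of_dvd (by norm_num : Nat.Prime 53) Nat.prime_three hQ (hc ▸ h3)
        rw [h504 w hw] at hd'
        norm_num at hd'
      · have hce : c * e = 36040 :=
          Nat.eq_of_mul_eq_mul_left (show 0 < 1008 by decide) (hmul.symm.trans (hg.trans (show _ = 1008 * 36040 by rfl)))
        have h2c : ¬ 2 ∣ c := hc ▸ S.no_big_involution (by norm_num) (by norm_num) hQ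
        have h8 : 8 ∣ c * e := by rw [hce]; norm_num
        have h8e : 8 ∣ e := (Nat.Coprime.dvd_mul_left
          ((Nat.coprime_two_left.mpr (Nat.not_even_iff_odd.mp fun hev => h2c (even_iff_two_dvd.mp hev))).pow_left 3)).mp h8
        have := h8e.trans he'
        norm_num at this

theorem One.card_G (S : One G) : Nat.card G = 50232960 := by
  haveI : Fintype G := Fintype.ofFinite G
  exact S.main.1

end Cfsg.Agent.J3Order
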