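import Cfsg.Agent.Lib.J3Order.Axes

/-!
The odd core `O` has no fixed subgroup of order five when no elements of orders three and five commute.
-/

set_option autoImplicit false
set_option linter.style.haveILetI false
set_option linter.unusedSectionVars false

namespace Cfsg.Agent.J3Order

open Subgroup HallJankoType
open Cfsg.Agent.JankoOrder (inv_iff_orderOf)

universe u

local notation "Inv" => JankoOrder.Inv

/-- The residues that can send the first axis to itself. -/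
theorem five_words : ∀ α β : ℤ, 0 ≤ α → α < 5 → 0 ≤ β → β < 5 → α ≠ 0 → β ≠ 0 →
    (((α * (α + β)) % 5 = 2 ∨ (α * (α + β)) % 5 = 3) ∧ (β * (α - β)) % 5 = 0) ∨
    (((α * (α * (α + β) + β * (α - β))) % 5 = 2 ∨ (α * (α * (α + β) + β * (α - β))) % 5 = 3) ∧
      (β * (α * (α + β) - β * (α - β))) % 5 = 0) ∨
    (((β * (α - β)) % 5 = 2 ∨ (β * (α - β)) % 5 = 3) ∧ (α * (α + β)) % 5 = 0) ∨
    (((β * (α * (α + β) + β * (α - β))) % 5 = 2 ∨ (β * (α * (α + β) + β * (α - β))) % 5 = 3) ∧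
      (α * (α * (α + β) - β * (α - β))) % 5 = 0) := by
  intro α β h1 h2 h3 h4 h5 h6
  interval_cases α <;> interval_cases β <;> omega

variable {G : Type u} [Group G] [Finite G] {S : One G}

namespace Five

theorem y_ne_one (F : Five S) : F.y ≠ 1 := fun h => by
  have := F.hy
  rw [h, orderOf_one] at this
  omega

theorem M_one (F : Five S) {w : G} (h1 : w ∈ F.M₁) (h2 : w ∈ F.M₂) : w = 1 :=
  (F.M_inter h1 h2 (one_mem _) (one_mul w)).2.1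

theorem M_y (F : Five S) {w : G} (h1 : w ∈ F.M₁) (h2 : w ∈ zpowers F.y) : w = 1 :=
  (F.M_inter (inv_mem h1) (one_mem F.M₂) h2 (mul_inv_cancel w)).1

theorem M_y₂ (F : Five S) {w : G} (h1 : w ∈ F.M₂) (h2 : w ∈ zpowers F.y) : w = 1 :=
  F.swap.M_y (by rw [F.swap_M₁]; exact h1) h2

theorem z_inv₁ (F : Five S) {w : G} (h : w ∈ F.M₁) : S.z * w * S.z = w⁻¹ :=
  (F.inv_M F.s_comm_z F.inv).1 w h

theorem z_inv₂ (F : Five S) {w : G} (h : w ∈ F.M₂) : S.z * w * S.z = w⁻¹ :=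
  (F.inv_M F.s'_comm_z F.s'_conj_y).1 w h

theorem s_inv₂ (F : Five S) {w : G} (h : w ∈ F.M₂) : F.s * w * F.s⁻¹ = w⁻¹ := by
  have hc : w * F.s' = F.s' * w := mem_cent.mp h.2
  calc F.s * w * F.s⁻¹ = F.s' * (S.z⁻¹ * w * S.z) * F.s'⁻¹ := by group
    _ = (F.s' * w * F.s'⁻¹)⁻¹ := by rw [inv_of_sq S.zz, F.z_inv₂ h]; group
    _ = w⁻¹ := by rw [← hc, mul_inv_cancel_right]

theorem conj_y_mem_O (F : Five S) {g m : G} (hmO : m ∈ F.O) (hg : zpowers (g * m * g⁻¹) = zpowers F.y) :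
    g * F.y * g⁻¹ ∈ F.O :=
  F.conj_mem_O hg (F.y_central hmO).symm (F.odd_order F.y_mem_O)

theorem exists_conj_axis (F : Five S) {m : G} (hm : m ∈ F.M₁) (ho : orderOf m = 5) :
    ∃ g : G, zpowers (g * m * g⁻¹) = zpowers F.y := by
  obtain ⟨g, hg⟩ := S.even_conj (.inr rfl) ho (Frame.Outside.isInv S.toFrame F.hs) (F.comm_s hm) F.mem F.hy
  exact ⟨g, gen_of_mem hg (by rw [orderOf_conj_eq, ho, F.hy])⟩

/-! ### One fixed subgroup of order five -/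

theorem conj_vec {g a b : G} (hab : a * b = b * a) {A B C D : ℤ} (ha : g * a * g⁻¹ = a ^ A * b ^ B)
    (hb : g * b * g⁻¹ = a ^ C * b ^ D) (k l : ℤ) :
    g * (a ^ k * b ^ l) * g⁻¹ = a ^ (A * k + C * l) * b ^ (B * k + D * l) := by
  have hc : Commute a b := hab
  have hf := hc.zpow_zpow
  calc g * (a ^ k * b ^ l) * g⁻¹ = (g * a * g⁻¹) ^ k * (g * b * g⁻¹) ^ l := by
        rw [conj_zpow, conj_zpow]; group
    _ = a ^ (A * k) * b ^ (B * k) * (a ^ (C * l) * b ^ (D * l)) := by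
        rw [ha, hb, (hf A B).mul_zpow, (hf C D).mul_zpow, ← zpow_mul, ← zpow_mul, ← zpow_mul, ← zpow_mul]
    _ = a ^ (A * k) * (b ^ (B * k) * a ^ (C * l)) * b ^ (D * l) := by group
    _ = _ := by rw [← (hf (C * l) (B * k)).eq, zpow_add, zpow_add]; group

theorem not_five_one [IsSimpleGroup G] (F : Five S) (h1 : Nat.card F.M₁ = 5) (h2 : Nat.card F.M₂ = 1) :
    False := by
  obtain ⟨m₀, hm₀, ho₀, hgen₀⟩ := F.exists_gen₁ (by norm_num : Nat.Prime 5) h1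
  have hdec : ∀ w ∈ F.O, ∃ c ∈ zpowers F.y, ∃ a ∈ F.M₁, w = c * a := by
    intro w hw
    obtain ⟨c, hc, a, ha, b, hb, rfl⟩ := F.decomp hw
    rw [Subgroup.eq_bot_of_card_eq _ h2, mem_bot] at hb
    exact ⟨c, hc, a, ha, by rw [hb, mul_one]⟩
  have hab : ∀ a ∈ F.O, ∀ b ∈ F.O, a * b = b * a := by
    intro a ha b hb
    obtain ⟨c, hc, p, hp, rfl⟩ := hdec a ha
    obtain ⟨d, hd, q, hq, rfl⟩ := hdec b hb
    have hpq : Commute p q := by
      show p * q = q * p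
      exact (F.inv_M F.s_comm_z F.inv).2 p hp q hq
    have hcd : Commute c d := (F.y_pow_central hd ((zpowers_le.mpr F.y_mem_O) hc))
    have hcq : Commute c q := (F.y_pow_central hc hq.1).symm
    have hpd : Commute p d := F.y_pow_central hd hp.1
    exact ((hcd.mul_right hcq).mul_left (hpd.mul_right hpq)).eq
  have hmem : ∀ w ∈ F.O, S.z * w * S.z = w⁻¹ → w ∈ F.M₁ := by
    intro w hw hinv
    obtain ⟨c, hc, a, ha, rfl⟩ := hdec w hw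
    have e : S.z * (c * a) * S.z = c * a⁻¹ := by
      calc S.z * (c * a) * S.z = (S.z * c) * a * S.z := by group
        _ = c * (S.z * a * S.z) := by rw [← F.y_pow_comm_z hc]; group
        _ = c * a⁻¹ := by rw [F.z_inv₁ ha]
    rw [e, mul_inv_rev, F.y_pow_central (inv_mem hc) (inv_mem ha.1), mul_left_inj] at hinv
    rw [F.y_pow_odd hc (mul_eq_one_iff_eq_inv.mpr hinv), one_mul]
    exact ha
  -- the swap
  obtain ⟨g, hg⟩ := F.exists_conj_axis hm₀ ho₀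
  obtain ⟨m, hmdef⟩ : ∃ m, m = g * F.y * g⁻¹ := ⟨_, rfl⟩
  have hmO : m ∈ F.O := hmdef ▸ F.conj_y_mem_O hm₀.1 hg
  have hmy : orderOf m = 5 := by rw [hmdef, orderOf_conj_eq, F.hy]
  have hm1 : m ≠ 1 := fun h => by rw [h, orderOf_one] at hmy; omega
  have hnc : g * F.s * g⁻¹ * F.y = F.y * (g * F.s * g⁻¹) := by
    refine commute_of_mem_zpowers (hg.symm ▸ mem_zpowers F.y) ?_
    calc g * F.s * g⁻¹ * (g * m₀ * g⁻¹) = g * (F.s * m₀) * g⁻¹ := by group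
      _ = _ := by rw [← F.comm_s hm₀]; group
  have hmM : m ∈ F.M₁ := hmem m hmO (F.inverted_z hab hnc hmO hm1 (by
    rw [hmdef]
    calc g * F.s * g⁻¹ * (g * F.y * g⁻¹) * (g * F.s * g⁻¹)⁻¹ = g * (F.s * F.y * F.s⁻¹) * g⁻¹ := by group
      _ = _ := by rw [F.inv]; group))
  have hgm : g * m * g⁻¹ ∈ zpowers F.y := by
    obtain ⟨k, hk⟩ := mem_zpowers_iff.mp (hgen₀ ▸ hmM : m ∈ zpowers m₀)
    rw [← hk, ← conj_zpow]
    exact zpow_mem (hg ▸ mem_zpowers _) k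
  have hgy : g * g * F.y * (g * g)⁻¹ ∈ zpowers F.y := by
    rw [show g * g * F.y * (g * g)⁻¹ = g * (g * F.y * g⁻¹) * g⁻¹ by group, ← hmdef]; exact hgm
  have hsm : F.s * m * F.s⁻¹ = m := by rw [← F.comm_s hmM, mul_inv_cancel_right]
  obtain ⟨σ, hσy, hσm⟩ : ∃ σ : G, σ * F.y * σ⁻¹ = m ∧ σ * m * σ⁻¹ = F.y := by
    rcases F.norm_pm hgy with e | e
    · exact ⟨g, hmdef.symm, by rw [hmdef, show g * (g * F.y * g⁻¹) * g⁻¹ = g * g * F.y * (g * g)⁻¹ by group, e]⟩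
    · refine ⟨F.s * g, ?_, ?_⟩
      · calc F.s * g * F.y * (F.s * g)⁻¹ = F.s * (g * F.y * g⁻¹) * F.s⁻¹ := by group
          _ = m := by rw [← hmdef, hsm]
      · calc F.s * g * m * (F.s * g)⁻¹ = F.s * (g * g * F.y * (g * g)⁻¹) * F.s⁻¹ := by rw [hmdef]; group
          _ = (F.s * F.y * F.s⁻¹)⁻¹ := by rw [e]; group
          _ = F.y := by rw [F.inv, inv_inv]
  have hym : F.y * m = m * F.y := (F.y_central hmO).symm
  have hne : F.y ≠ m := fun h => F.y_ne_one (F.M_y (h ▸ hmM) (mem_zpowers _))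
  obtain ⟨i, hi, hic⟩ := Ev.of_swap hym hne hσy hσm
  have hd5 : orderOf (F.y * m) = 5 := by
    haveI : Fact (Nat.Prime 5) := ⟨by norm_num⟩
    refine orderOf_eq_prime ?_ fun h => hm1 ?_
    · rw [(show Commute F.y m from hym).mul_pow, show F.y ^ 5 = 1 from F.hy ▸ pow_orderOf_eq_one _,
        show m ^ 5 = 1 from hmy ▸ pow_orderOf_eq_one _, one_mul]
    · rw [eq_inv_of_mul_eq_one_right h] at hmM ⊢
      exact F.M_y hmM (inv_mem (mem_zpowers _))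
  obtain ⟨h, hh⟩ := S.even_conj (.inr rfl) hd5 hi hic F.mem F.hy
  have hgen := gen_of_mem hh (by rw [orderOf_conj_eq, hd5, F.hy])
  obtain ⟨e, he⟩ : ∃ e, e = F.y * m⁻¹ := ⟨_, rfl⟩
  have heO : e ∈ F.O := he ▸ mul_mem F.y_mem_O (inv_mem hmO)
  have hσd : σ * (F.y * m) = F.y * m * σ := by
    refine mul_inv_eq_iff_eq_mul.mp ?_
    rw [show σ * (F.y * m) * σ⁻¹ = (σ * F.y * σ⁻¹) * (σ * m * σ⁻¹) by group, hσy, hσm, hym]
  have hσe : σ * e * σ⁻¹ = e⁻¹ := by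
    rw [he, show σ * (F.y * m⁻¹) * σ⁻¹ = (σ * F.y * σ⁻¹) * (σ * m * σ⁻¹)⁻¹ by group, hσy, hσm, mul_inv_rev,
      inv_inv]
  have hwO : h * e * h⁻¹ ∈ F.O :=
    F.conj_mem_O hgen (hab _ heO _ (mul_mem F.y_mem_O hmO)) (F.odd_order heO)
  have hw1 : h * e * h⁻¹ ≠ 1 := fun h' => hne (by
    have h0 := conj_eq_one_iff.mp h'
    rw [he] at h0
    exact mul_inv_eq_one.mp h0)
  have hn' : h * σ * h⁻¹ * F.y = F.y * (h * σ * h⁻¹) := by
    refine commute_of_mem_zpowers (hgen.symm ▸ mem_zpowers F.y) ?_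
    calc h * σ * h⁻¹ * (h * (F.y * m) * h⁻¹) = h * (σ * (F.y * m)) * h⁻¹ := by group
      _ = _ := by rw [hσd]; group
  have hwM := hmem _ hwO (F.inverted_z hab hn' hwO hw1 (by
    calc h * σ * h⁻¹ * (h * e * h⁻¹) * (h * σ * h⁻¹)⁻¹ = h * (σ * e * σ⁻¹) * h⁻¹ := by group
      _ = _ := by rw [hσe]; group))
  have hgenm : F.M₁ = zpowers m := by
    rw [hgen₀]
    exact (gen_of_mem (hgen₀ ▸ hmM) (by rw [hmy, ho₀])).symm
  obtain ⟨a, ha⟩ := mem_zpowers_iff.mp hh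
  obtain ⟨c, hc⟩ := mem_zpowers_iff.mp (hgenm ▸ hwM : h * e * h⁻¹ ∈ zpowers m)
  have hm5 : ∀ n : ℤ, m ^ n = m ^ (n % 5) := fun n => by
    rw [← zpow_mod_orderOf, hmy]
    rfl
  have hya : a % 5 ≠ 0 := fun h0 => by
    rw [F.y_pow_mod, h0, zpow_zero] at ha
    have := orderOf_conj_eq h (F.y * m)
    rw [← ha, orderOf_one, hd5] at this
    omega
  have hmc : c % 5 ≠ 0 := fun h0 => hw1 (by rw [← hc, hm5, h0, zpow_zero])
  have hy6 : (F.y * m) ^ 3 * e ^ 3 = F.y := by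
    rw [he, (show Commute F.y m from hym).mul_pow, (show Commute F.y m from hym).inv_right.mul_pow, inv_pow]
    calc F.y ^ 3 * m ^ 3 * (F.y ^ 3 * (m ^ 3)⁻¹) = F.y ^ 3 * (m ^ 3 * F.y ^ 3) * (m ^ 3)⁻¹ := by group
      _ = F.y ^ 3 * F.y ^ 3 := by rw [← ((show Commute F.y m from hym).pow_pow 3 3).eq]; group
      _ = F.y := by rw [← pow_add, show 3 + 3 = 5 + 1 from rfl, pow_succ, ← F.hy, pow_orderOf_eq_one, one_mul]
  have hm6 : (F.y * m) ^ 3 * (e ^ 3)⁻¹ = m := by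
    rw [he, (show Commute F.y m from hym).mul_pow, (show Commute F.y m from hym).inv_right.mul_pow, inv_pow]
    calc F.y ^ 3 * m ^ 3 * (F.y ^ 3 * (m ^ 3)⁻¹)⁻¹ = F.y ^ 3 * (m ^ 3 * m ^ 3) * (F.y ^ 3)⁻¹ := by group
      _ = F.y ^ 3 * m * (F.y ^ 3)⁻¹ := by
          rw [← pow_add, show 3 + 3 = 5 + 1 from rfl, pow_add m 5 1, pow_one,
            show m ^ 5 = 1 from hmy ▸ pow_orderOf_eq_one _, one_mul]
      _ = m := by rw [((show Commute F.y m from hym).pow_left 3).eq, mul_inv_cancel_right]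
  obtain ⟨α, hα⟩ : ∃ α : ℤ, α = 3 * a % 5 := ⟨_, rfl⟩
  obtain ⟨β, hβ⟩ : ∃ β : ℤ, β = 3 * c % 5 := ⟨_, rfl⟩
  have hα' : F.y ^ (a * 3) = F.y ^ α := by rw [F.y_pow_mod, hα, mul_comm]
  have hβ' : m ^ (c * 3) = m ^ β := by rw [hm5, hβ, mul_comm]
  have Hy : h * F.y * h⁻¹ = F.y ^ α * m ^ β := by
    calc h * F.y * h⁻¹ = h * ((F.y * m) ^ 3 * e ^ 3) * h⁻¹ := by rw [hy6]
      _ = (h * (F.y * m) * h⁻¹) ^ 3 * (h * e * h⁻¹) ^ 3 := by rw [conj_pow, conj_pow]; group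
      _ = F.y ^ α * m ^ β := by
          rw [← ha, ← hc, ← hα', ← hβ', zpow_mul, zpow_mul]
          norm_cast
  have Hm : h * m * h⁻¹ = F.y ^ α * m ^ (-β) := by
    calc h * m * h⁻¹ = h * ((F.y * m) ^ 3 * (e ^ 3)⁻¹) * h⁻¹ := by rw [hm6]
      _ = (h * (F.y * m) * h⁻¹) ^ 3 * ((h * e * h⁻¹) ^ 3)⁻¹ := by rw [conj_pow, conj_pow]; group
      _ = F.y ^ α * m ^ (-β) := by
          rw [← ha, ← hc, zpow_neg, ← hα', ← hβ', zpow_mul, zpow_mul]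
          norm_cast
  have HH : ∀ k l : ℤ, h * (F.y ^ k * m ^ l) * h⁻¹ = F.y ^ (α * (k + l)) * m ^ (β * (k - l)) := fun k l => by
    rw [conj_vec hym Hy Hm]
    ring_nf
  have HW : ∀ k l : ℤ, σ * (F.y ^ k * m ^ l) * σ⁻¹ = F.y ^ l * m ^ k := fun k l => by
    rw [conj_vec hym (A := 0) (B := 1) (C := 1) (D := 0) (by rw [hσy, zpow_zero, zpow_one, one_mul])
      (by rw [hσm, zpow_zero, zpow_one, mul_one])]
    ring_nf
  have HZ : ∀ k l : ℤ, S.z * (F.y ^ k * m ^ l) * S.z⁻¹ = F.y ^ k * m ^ (-l) := fun k l => by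
    rw [conj_vec hym (A := 1) (B := 0) (C := 0) (D := -1)
      (by rw [zpow_one, zpow_zero, mul_one, ← F.y_comm_z, mul_inv_cancel_right])
      (by rw [zpow_zero, one_mul, zpow_neg_one, inv_of_sq S.zz, F.z_inv₁ hmM])]
    ring_nf
  have hy0 : F.y = F.y ^ (1 : ℤ) * m ^ (0 : ℤ) := by rw [zpow_one, zpow_zero, mul_one]
  have bad : ∀ {n : G} {P Q : ℤ}, n * (F.y ^ (1 : ℤ) * m ^ (0 : ℤ)) * n⁻¹ = F.y ^ P * m ^ Q →
      (P % 5 = 2 ∨ P % 5 = 3) ∧ Q % 5 = 0 → False := by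
    intro n P Q hn hPQ
    rw [← hy0, hm5 Q, hPQ.2, zpow_zero, mul_one] at hn
    exact F.not_two hn hPQ.1
  have e2 : h * h * (F.y ^ (1 : ℤ) * m ^ (0 : ℤ)) * (h * h)⁻¹ =
      F.y ^ (α * (α + β)) * m ^ (β * (α - β)) := by
    rw [show h * h * (F.y ^ (1 : ℤ) * m ^ (0 : ℤ)) * (h * h)⁻¹ =
      h * (h * (F.y ^ (1 : ℤ) * m ^ (0 : ℤ)) * h⁻¹) * h⁻¹ by group, HH, HH]
    ring_nf
  rcases five_words α β (hα ▸ Int.emod_nonneg _ (by norm_num)) (hα ▸ Int.emod_lt_of_pos _ (by norm_num))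
      (hβ ▸ Int.emod_nonneg _ (by norm_num)) (hβ ▸ Int.emod_lt_of_pos _ (by norm_num))
      (by omega) (by omega) with w | w | w | w
  · exact bad e2 w
  · refine bad (n := h * (h * h)) ?_ w
    rw [show ∀ v : G, h * (h * h) * v * (h * (h * h))⁻¹ = h * (h * h * v * (h * h)⁻¹) * h⁻¹ by intro v; group,
      e2, HH]
  · refine bad (n := σ * (h * h)) ?_ w
    rw [show ∀ v : G, σ * (h * h) * v * (σ * (h * h))⁻¹ = σ * (h * h * v * (h * h)⁻¹) * σ⁻¹ by intro v; group,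
      e2, HW]
  · refine bad (n := σ * h * S.z * (h * h)) ?_ w
    rw [show ∀ v : G, σ * h * S.z * (h * h) * v * (σ * h * S.z * (h * h))⁻¹ =
      σ * (h * (S.z * (h * h * v * (h * h)⁻¹) * S.z⁻¹) * h⁻¹) * σ⁻¹ by intro v; group,
      e2, HZ, HH, HW]
    ring_nf

/-! ### Two fixed subgroups of order five -/

theorem not_five_five_nonabelian (F : Five S) {m : G} (hm : m ∈ F.M₁) (ho : orderOf m = 5)
    {u₀ : G} (hu : u₀ ∈ F.M₂) (hne : u₀ * m ≠ m * u₀) : False := by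
  obtain ⟨g, hg⟩ := F.exists_conj_axis hm ho
  have hm5 : ∀ n : ℤ, m ^ n = m ^ (n % 5) := fun n => by
    rw [← zpow_mod_orderOf, ho]
    rfl
  obtain ⟨k, hk⟩ := mem_zpowers_iff.mp (F.comm_mod hu.1 hm.1)
  have hk5 : k % 5 ≠ 0 := fun h => hne (by
    rw [F.y_pow_mod, h, zpow_zero] at hk
    exact mul_inv_eq_iff_eq_mul.mp (mul_inv_eq_one.mp hk.symm))
  have hum : u₀ * m * u₀⁻¹ = F.y ^ k * m := by rw [hk]; group
  have huy : u₀ * F.y * u₀⁻¹ = F.y := by rw [F.y_central hu.1, mul_inv_cancel_right]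
  -- an element of `g⁻¹ O g` moving `y`
  obtain ⟨a, haO, hay⟩ : ∃ a ∈ F.O, g⁻¹ * a * g * F.y ≠ F.y * (g⁻¹ * a * g) := by
    by_contra hall
    push Not at hall
    let f : F.O → F.O := fun a => ⟨g⁻¹ * a * g, F.mem_O.mpr ⟨hall a a.2, by
      rw [show g⁻¹ * (a : G) * g = g⁻¹ * a * g⁻¹⁻¹ by rw [inv_inv], orderOf_conj_eq]; exact F.odd_order a.2⟩⟩
    have hf : Function.Injective f := fun a b e => Subtype.ext (by
      have e' : g⁻¹ * (a : G) * g = g⁻¹ * b * g := congrArg Subtype.val e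
      rwa [mul_right_cancel_iff, mul_left_cancel_iff] at e')
    obtain ⟨b, hb⟩ := Finite.surjective_of_injective hf ⟨u₀, hu.1⟩
    have hb' : g⁻¹ * (b : G) * g = u₀ := congrArg Subtype.val hb
    refine hne ?_
    rw [← hb']
    have hbm := commute_of_mem_zpowers (hg ▸ mem_zpowers _ : g * m * g⁻¹ ∈ zpowers F.y) (F.y_central b.2)
    calc g⁻¹ * (b : G) * g * m = g⁻¹ * (b * (g * m * g⁻¹)) * g := by group
      _ = m * (g⁻¹ * b * g) := by rw [hbm]; group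
  set v := g⁻¹ * a * g with hv
  have hgy : g * F.y * g⁻¹ ∈ F.O := F.conj_y_mem_O hm.1 hg
  have hvm : v * m * v⁻¹ = m := by
    have hbm := commute_of_mem_zpowers (hg ▸ mem_zpowers _ : g * m * g⁻¹ ∈ zpowers F.y) (F.y_central haO)
    refine mul_inv_eq_iff_eq_mul.mpr ?_
    calc v * m = g⁻¹ * (a * (g * m * g⁻¹)) * g := by rw [hv]; group
      _ = m * v := by rw [hbm, hv]; group
  obtain ⟨l, hl⟩ : ∃ l : ℤ, v * F.y * v⁻¹ = F.y * m ^ l := by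
    have h := F.comm_mod haO hgy
    rw [← hg] at h
    obtain ⟨l, hl⟩ := mem_zpowers_iff.mp h
    refine ⟨l, ?_⟩
    rw [conj_zpow] at hl
    have e1 : v * F.y * v⁻¹ = m ^ l * F.y := by
      calc v * F.y * v⁻¹ = g⁻¹ * (a * (g * F.y * g⁻¹) * a⁻¹ * (g * F.y * g⁻¹)⁻¹) * g * F.y := by
            rw [hv]; group
        _ = m ^ l * F.y := by rw [← hl]; group
    rw [e1, ((show Commute m F.y from F.y_central hm.1).zpow_left l).eq]
  have hl5 : l % 5 ≠ 0 := fun h => hay (by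
    rw [hm5, h, zpow_zero, mul_one] at hl
    exact mul_inv_eq_iff_eq_mul.mp hl)
  have hym : Commute F.y m := (F.y_central hm.1).symm
  -- powers of the two shears
  have hU : ∀ i : ℕ, u₀ ^ i * F.y * (u₀ ^ i)⁻¹ = F.y ∧ u₀ ^ i * m * (u₀ ^ i)⁻¹ = F.y ^ (k * i) * m := by
    intro i
    induction i with
    | zero => simp
    | succ i ih =>
      have s1 : ∀ w : G, u₀ ^ (i + 1) * w * (u₀ ^ (i + 1))⁻¹ = u₀ ^ i * (u₀ * w * u₀⁻¹) * (u₀ ^ i)⁻¹ := fun w => by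
        rw [pow_succ]; group
      refine ⟨by rw [s1, huy, ih.1], ?_⟩
      rw [s1, hum, show u₀ ^ i * (F.y ^ k * m) * (u₀ ^ i)⁻¹ =
        (u₀ ^ i * F.y ^ k * (u₀ ^ i)⁻¹) * (u₀ ^ i * m * (u₀ ^ i)⁻¹) by group, ← conj_zpow, ih.1, ih.2,
        ← mul_assoc, ← zpow_add]
      push_cast
      ring_nf
  obtain ⟨I, hI⟩ : ∃ I : ℕ, (k * I * l) % 5 = 1 := by
    have hk0 := Int.emod_nonneg k (show (5 : ℤ) ≠ 0 by norm_num)
    have hk1 := Int.emod_lt_of_pos k (show (0 : ℤ) < 5 by norm_num)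
    have hl0 := Int.emod_nonneg l (show (5 : ℤ) ≠ 0 by norm_num)
    have hl1 := Int.emod_lt_of_pos l (show (0 : ℤ) < 5 by norm_num)
    have key : ∀ p q : ℤ, 0 ≤ p → p < 5 → 0 ≤ q → q < 5 → p ≠ 0 → q ≠ 0 →
        ∃ I : ℕ, I < 5 ∧ (p * I * q) % 5 = 1 := by
      intro p q a1 a2 a3 a4 a5 a6
      refine ⟨((p * q) ^ 3 % 5).toNat, ?_⟩
      interval_cases p <;> interval_cases q <;> first
        | omega
        | norm_num
    obtain ⟨I, -, hI⟩ := key (k % 5) (l % 5) hk0 hk1 hl0 hl1 hk5 hl5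
    refine ⟨I, ?_⟩
    rw [← hI]
    simp [Int.mul_emod]
  have hV : ∀ A B : ℤ, v * (F.y ^ A * m ^ B) * v⁻¹ = F.y ^ A * m ^ (l * A + B) := fun A B => by
    rw [conj_vec hym.eq (A := 1) (B := l) (C := 0) (D := 1) (by rw [zpow_one, hl])
      (by rw [zpow_zero, zpow_one, one_mul, hvm])]
    ring_nf
  have hUI : ∀ A B : ℤ, u₀ ^ I * (F.y ^ A * m ^ B) * (u₀ ^ I)⁻¹ = F.y ^ (A + k * I * B) * m ^ B := fun A B => by
    rw [conj_vec hym.eq (A := 1) (B := 0) (C := k * I) (D := 1) (by rw [zpow_one, zpow_zero, mul_one, (hU I).1])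
      (by rw [zpow_one, (hU I).2])]
    ring_nf
  have hy0 : F.y = F.y ^ (1 : ℤ) * m ^ (0 : ℤ) := by rw [zpow_one, zpow_zero, mul_one]
  set P : ℤ := 1 + k * I * l with hP
  have hfin : v * v * u₀ ^ I * v * F.y * (v * v * u₀ ^ I * v)⁻¹ = F.y ^ P * m ^ (l * P + (l * P + l)) := by
    rw [show v * v * u₀ ^ I * v * F.y * (v * v * u₀ ^ I * v)⁻¹ =
      v * (v * (u₀ ^ I * (v * F.y * v⁻¹) * (u₀ ^ I)⁻¹) * v⁻¹) * v⁻¹ by group]
    nth_rw 1 [hy0]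
    rw [hV, hUI, hV, hV, hP]
    ring_nf
  have hQ : (l * P + (l * P + l)) % 5 = 0 := by
    have e : l * P + (l * P + l) = l * (2 * (k * I * l) + 3) := by rw [hP]; ring
    rw [e, Int.mul_emod, Int.add_emod, Int.mul_emod 2, hI]
    norm_num
  rw [hm5 (l * P + (l * P + l)), hQ, zpow_zero, mul_one] at hfin
  exact F.not_two hfin (.inl (by rw [hP, Int.add_emod, hI]; norm_num))

/-- The three axes. -/
theorem axes (F : Five S) (hab : ∀ a ∈ F.O, ∀ b ∈ F.O, a * b = b * a) {m u₀ : G} (hm : m ∈ F.M₁)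
    (ho : orderOf m = 5) (hu : u₀ ∈ F.M₂) (hu1 : u₀ ≠ 1) :
    ∃ g : G, g * m * g⁻¹ ∈ zpowers F.y ∧ ((g * F.y * g⁻¹ ∈ F.M₁ ∧ g * u₀ * g⁻¹ ∈ F.M₂) ∨
      (g * F.y * g⁻¹ ∈ F.M₂ ∧ g * u₀ * g⁻¹ ∈ F.M₁)) := by
  obtain ⟨g, hg⟩ := F.exists_conj_axis hm ho
  have hgm : g * m * g⁻¹ ∈ zpowers F.y := hg ▸ mem_zpowers _
  refine ⟨g, hgm, ?_⟩
  have hwO := F.conj_y_mem_O hm.1 hg
  have hwO' : g * u₀ * g⁻¹ ∈ F.O := F.conj_mem_O hg (hab _ hu.1 _ hm.1) (F.odd_order hu.1)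
  have hw1 : g * F.y * g⁻¹ ≠ 1 := fun h => F.y_ne_one (conj_eq_one_iff.mp h)
  have hw1' : g * u₀ * g⁻¹ ≠ 1 := fun h => hu1 (conj_eq_one_iff.mp h)
  have hn : g * F.s * g⁻¹ * F.y = F.y * (g * F.s * g⁻¹) := by
    refine commute_of_mem_zpowers (hg.symm ▸ mem_zpowers F.y) ?_
    calc g * F.s * g⁻¹ * (g * m * g⁻¹) = g * (F.s * m) * g⁻¹ := by group
      _ = _ := by rw [← F.comm_s hm]; group
  have hz := F.inverted_z hab hn hwO hw1 (by
    calc g * F.s * g⁻¹ * (g * F.y * g⁻¹) * (g * F.s * g⁻¹)⁻¹ = g * (F.s * F.y * F.s⁻¹) * g⁻¹ := by group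
      _ = _ := by rw [F.inv]; group)
  have hz' := F.inverted_z hab hn hwO' hw1' (by
    calc g * F.s * g⁻¹ * (g * u₀ * g⁻¹) * (g * F.s * g⁻¹)⁻¹ = g * (F.s * u₀ * F.s⁻¹) * g⁻¹ := by group
      _ = _ := by rw [F.s_inv₂ hu]; group)
  have hn2y : g * S.z * g⁻¹ * F.y * (g * S.z * g⁻¹)⁻¹ = F.y⁻¹ := by
    obtain ⟨j, hj⟩ := mem_zpowers_iff.mp (hg.symm ▸ mem_zpowers F.y : F.y ∈ zpowers (g * m * g⁻¹))
    rw [← hj, ← conj_zpow, ← inv_zpow]
    congr 1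
    calc g * S.z * g⁻¹ * (g * m * g⁻¹) * (g * S.z * g⁻¹)⁻¹ = g * (S.z * m * S.z⁻¹) * g⁻¹ := by group
      _ = _ := by rw [inv_of_sq S.zz, F.z_inv₁ hm]; group
  have hfix : g * S.z * g⁻¹ * (g * F.y * g⁻¹) * (g * S.z * g⁻¹)⁻¹ = g * F.y * g⁻¹ := by
    calc g * S.z * g⁻¹ * (g * F.y * g⁻¹) * (g * S.z * g⁻¹)⁻¹ = g * (S.z * F.y * S.z⁻¹) * g⁻¹ := by group
      _ = _ := by rw [← F.y_comm_z, mul_inv_cancel_right]
  have hflip : g * S.z * g⁻¹ * (g * u₀ * g⁻¹) * (g * S.z * g⁻¹)⁻¹ = (g * u₀ * g⁻¹)⁻¹ := by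
    calc g * S.z * g⁻¹ * (g * u₀ * g⁻¹) * (g * S.z * g⁻¹)⁻¹ = g * (S.z * u₀ * S.z⁻¹) * g⁻¹ := by group
      _ = _ := by rw [inv_of_sq S.zz, F.z_inv₂ hu]; group
  have hs' : F.s'⁻¹ = F.s' := inv_of_sq F.s'_inv.1
  -- inverted by `z` and by one of `s`, `s'` means fixed by the other
  have hfixed : ∀ {w t : G}, S.z * w * S.z = w⁻¹ → t * w * t⁻¹ = w⁻¹ → t * S.z * w = w * (t * S.z) := by
    intro w t h1 h2
    refine mul_inv_eq_iff_eq_mul.mp ?_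
    calc t * S.z * w * (t * S.z)⁻¹ = t * (S.z * w * S.z⁻¹) * t⁻¹ := by group
      _ = (t * w * t⁻¹)⁻¹ := by rw [inv_of_sq S.zz, h1]; group
      _ = w := by rw [h2, inv_inv]
  rcases F.act_inverting hab hn2y with hact | hact
  · refine .inl ⟨⟨hwO, mem_cent.mpr ?_⟩, ⟨hwO', mem_cent.mpr (hfixed hz' ?_).symm⟩⟩
    · exact (mul_inv_eq_iff_eq_mul.mp ((hact _ hwO).symm.trans hfix)).symm
    · exact (hact _ hwO').symm.trans hflip
  · refine .inr ⟨⟨hwO, mem_cent.mpr ?_⟩, ⟨hwO', mem_cent.mpr ?_⟩⟩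
    · exact (mul_inv_eq_iff_eq_mul.mp ((hact _ hwO).symm.trans hfix)).symm
    · have h := hfixed hz' ((hact _ hwO').symm.trans hflip)
      rw [mul_assoc F.s, S.zz, mul_one] at h
      exact h.symm

theorem map_axis {g a : G} {A B : Subgroup G} (hA : A = zpowers a) (ha : g * a * g⁻¹ ∈ B) {w : G}
    (hw : w ∈ A) : g * w * g⁻¹ ∈ B := by
  rw [hA] at hw
  obtain ⟨k, rfl⟩ := mem_zpowers_iff.mp hw
  rw [← conj_zpow]
  exact zpow_mem ha k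

theorem no_cycle [IsSimpleGroup G] (F : Five S) (no35 : ∀ w y : G, orderOf w = 3 → orderOf y = 5 → w * y ≠ y * w)
    (hab : ∀ a ∈ F.O, ∀ b ∈ F.O, a * b = b * a) {m u₀ : G} (hm : F.M₁ = zpowers m) (hu : F.M₂ = zpowers u₀)
    {n : G} (h0 : n * F.y * n⁻¹ ∈ F.M₂) (h1 : n * u₀ * n⁻¹ ∈ F.M₁) (h2 : n * m * n⁻¹ ∈ zpowers F.y) :
    False := by
  obtain ⟨N, hN⟩ : ∃ N, N = n * n := ⟨_, rfl⟩
  have hc : ∀ w : G, N * w * N⁻¹ = n * (n * w * n⁻¹) * n⁻¹ := fun w => by rw [hN]; group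
  have a1 : N * F.y * N⁻¹ ∈ F.M₁ := by rw [hc]; exact map_axis hu h1 h0
  have a2 : N * (N * F.y * N⁻¹) * N⁻¹ ∈ F.M₂ := by
    rw [hc (N * F.y * N⁻¹)]
    obtain ⟨j, hj⟩ := mem_zpowers_iff.mp (map_axis hm h2 a1)
    rw [← hj, ← conj_zpow]
    exact zpow_mem h0 j
  have b3 : n * (n * (n * F.y * n⁻¹) * n⁻¹) * n⁻¹ ∈ zpowers F.y := map_axis hm h2 (map_axis hu h1 h0)
  have a3 : N * (N * (N * F.y * N⁻¹) * N⁻¹) * N⁻¹ = F.y := by
    have e : N * (N * (N * F.y * N⁻¹) * N⁻¹) * N⁻¹ = n ^ 3 * (n ^ 3 * F.y * (n ^ 3)⁻¹) * (n ^ 3)⁻¹ := by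
      rw [hN]; simp only [pow_succ, pow_zero, one_mul]; group
    have e3 : n ^ 3 * F.y * (n ^ 3)⁻¹ = n * (n * (n * F.y * n⁻¹) * n⁻¹) * n⁻¹ := by
      simp only [pow_succ, pow_zero, one_mul]; group
    rcases F.norm_pm (e3.symm ▸ b3 : n ^ 3 * F.y * (n ^ 3)⁻¹ ∈ zpowers F.y) with h | h
    · rw [e, h, h]
    · rw [e, h, show n ^ 3 * F.y⁻¹ * (n ^ 3)⁻¹ = (n ^ 3 * F.y * (n ^ 3)⁻¹)⁻¹ by group, h, inv_inv]
  obtain ⟨w₁, hw₁⟩ : ∃ w, w = N * F.y * N⁻¹ := ⟨_, rfl⟩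
  obtain ⟨w₂, hw₂⟩ : ∃ w, w = N * w₁ * N⁻¹ := ⟨_, rfl⟩
  rw [← hw₁] at a1 a2 a3
  rw [← hw₂] at a2 a3
  obtain ⟨p, hp⟩ : ∃ p, p = F.y * w₁ * w₂ := ⟨_, rfl⟩
  have hfix : N * p = p * N := by
    refine mul_inv_eq_iff_eq_mul.mp ?_
    calc N * p * N⁻¹ = (N * F.y * N⁻¹) * (N * w₁ * N⁻¹) * (N * w₂ * N⁻¹) := by rw [hp]; group
      _ = w₁ * w₂ * F.y := by rw [← hw₁, ← hw₂, a3]
      _ = p := by rw [hp, F.y_central (mul_mem a1.1 a2.1), mul_assoc]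
  have hy5 : F.y ^ 5 = 1 := F.hy ▸ pow_orderOf_eq_one _
  have hw15 : w₁ ^ 5 = 1 := by rw [hw₁, conj_pow, hy5, mul_one, mul_inv_cancel]
  have hw25 : w₂ ^ 5 = 1 := by rw [hw₂, conj_pow, hw15, mul_one, mul_inv_cancel]
  have hp5 : orderOf p = 5 := by
    haveI : Fact (Nat.Prime 5) := ⟨by norm_num⟩
    refine orderOf_eq_prime ?_ fun h => ?_
    · have c1 : Commute F.y w₁ := (F.y_central a1.1).symm
      have c2 : Commute (F.y * w₁) w₂ := hab _ (mul_mem F.y_mem_O a1.1) _ a2.1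
      rw [hp, c2.mul_pow, c1.mul_pow, hy5, hw15, hw25, one_mul, one_mul]
    · rw [hp] at h
      exact F.y_ne_one (F.M_inter a1 (inv_mem a2) (mem_zpowers _) (eq_inv_of_mul_eq_one_left h)).1
  have h3 : 3 ∣ orderOf N := by
    by_contra h
    have hN3 : Commute (N ^ 3) F.y := by
      refine mul_inv_eq_iff_eq_mul.mp ?_
      rw [show N ^ 3 * F.y * (N ^ 3)⁻¹ = N * (N * (N * F.y * N⁻¹) * N⁻¹) * N⁻¹ by
        simp only [pow_succ, pow_zero, one_mul]; group, ← hw₁, ← hw₂, a3]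
    obtain ⟨k, hk⟩ := (exists_pow_eq_self_of_coprime (n := 3) (x := N)
      ((Nat.prime_three.coprime_iff_not_dvd).mpr h))
    have hNy : Commute N F.y := hk ▸ hN3.pow_left k
    refine F.y_ne_one (F.M_y (w := F.y) ?_ (mem_zpowers _))
    rwa [hw₁, hNy.eq, mul_inv_cancel_right] at a1
  exact no35 (N ^ (orderOf N / 3)) p (orderOf_pow_orderOf_div (orderOf_pos N).ne' h3) hp5
    ((show Commute N p from hfix).pow_left _).eq

theorem not_five_five [IsSimpleGroup G] (F : Five S)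
    (no35 : ∀ w y : G, orderOf w = 3 → orderOf y = 5 → w * y ≠ y * w)
    (h1 : Nat.card F.M₁ = 5) (h2 : Nat.card F.M₂ = 5) : False := by
  obtain ⟨m, hm, hmo, hmg⟩ := F.exists_gen₁ (by norm_num : Nat.Prime 5) h1
  obtain ⟨u₀, hu, huo, hug⟩ := F.swap.exists_gen₁ (by norm_num : Nat.Prime 5) (by rw [F.swap_M₁, h2])
  rw [F.swap_M₁] at hu hug
  by_cases hne : u₀ * m = m * u₀
  swap
  · exact F.not_five_five_nonabelian hm hmo hu hne
  have hab : ∀ a ∈ F.O, ∀ b ∈ F.O, a * b = b * a := by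
    have key : ∀ w ∈ F.O, ∀ t : G, Commute t F.y → Commute t m → Commute t u₀ → Commute t w := by
      intro w hw t t1 t2 t3
      obtain ⟨c, hc, a, ha, b, hb, rfl⟩ := F.decomp hw
      rw [hmg] at ha
      rw [hug] at hb
      have k1 : Commute t c := commute_of_mem_zpowers hc t1.eq
      have k2 : Commute t a := commute_of_mem_zpowers ha t2.eq
      have k3 : Commute t b := commute_of_mem_zpowers hb t3.eq
      exact (k1.mul_right k2).mul_right k3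
    intro a ha b hb
    refine (key b hb a (F.y_central ha) ?_ ?_).eq
    · exact (key a ha m (F.y_central hm.1) (Commute.refl m) (Commute.symm hne)).symm
    · exact (key a ha u₀ (F.y_central hu.1) hne (Commute.refl u₀)).symm
  have hu1 : u₀ ≠ 1 := fun h => by rw [h, orderOf_one] at huo; omega
  have hm1 : m ≠ 1 := fun h => by rw [h, orderOf_one] at hmo; omega
  obtain ⟨g₁, hg₁, ⟨hy1, hu1'⟩ | ⟨hy1, hu1'⟩⟩ := F.axes hab hm hmo hu hu1
  swap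
  · exact F.no_cycle no35 hab hmg hug hy1 hu1' hg₁
  have hab' : ∀ a ∈ F.swap.O, ∀ b ∈ F.swap.O, a * b = b * a := by rw [F.swap_O]; exact hab
  obtain ⟨g₂, hg₂, ⟨hy2, hm2⟩ | ⟨hy2, hm2⟩⟩ := F.swap.axes hab' (m := u₀) (u₀ := m)
    (by rw [F.swap_M₁]; exact hu) huo (by rw [F.swap_M₂]; exact hm) hm1
  all_goals rw [F.swap_M₁, F.swap_M₂] at *
  · refine F.no_cycle no35 hab hmg hug (n := g₁ * g₂) ?_ ?_ ?_
    · rw [show g₁ * g₂ * F.y * (g₁ * g₂)⁻¹ = g₁ * (g₂ * F.y * g₂⁻¹) * g₁⁻¹ by group]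
      exact map_axis hug hu1' hy2
    · rw [show g₁ * g₂ * u₀ * (g₁ * g₂)⁻¹ = g₁ * (g₂ * u₀ * g₂⁻¹) * g₁⁻¹ by group]
      exact map_axis (A := zpowers F.y) rfl hy1 hg₂
    · rw [show g₁ * g₂ * m * (g₁ * g₂)⁻¹ = g₁ * (g₂ * m * g₂⁻¹) * g₁⁻¹ by group]
      exact map_axis hmg hg₁ hm2
  · exact F.swap.no_cycle no35 hab' (m := u₀) (u₀ := m) (by rw [F.swap_M₁, hug]) (by rw [F.swap_M₂, hmg])
      (by rw [F.swap_M₂]; exact hy2) (by rw [F.swap_M₁]; exact hm2) hg₂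

end Five

namespace Tri

variable [IsSimpleGroup G] (T : Tri S) (e : T.K ≃* Matrix.SpecialLinearGroup (Fin 3) (ZMod 2))
include e

/-- In this case `O` has order five. -/
theorem seven_final (F : Five S) : Nat.card F.M₁ * Nat.card F.M₂ = 1 := by
  have no35 : ∀ w y : G, orderOf w = 3 → orderOf y = 5 → w * y ≠ y * w :=
    fun w y hw hy hc => T.seven_no35 e hw hy hc
  have no3 : ∀ F : Five S, Nat.card F.M₁ ≠ 3 := fun F h => by
    obtain ⟨w, hw, ho, -⟩ := F.exists_gen₁ Nat.prime_three h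
    exact no35 w F.y ho F.hy (F.y_central hw.1)
  have h1' := no3 F
  have h2' := no3 F.swap
  rw [F.swap_M₁] at h2'
  rcases F.card_M₁ with a | a | a <;> rcases F.card_M₂ with b | b | b <;> rw [a, b] <;>
    first
      | omega
      | exact absurd (F.not_five_five no35 a b) id
      | exact absurd (F.not_five_one a b) id
      | exact absurd (F.swap.not_five_one (by rw [F.swap_M₁, b]) (by rw [F.swap_M₂, a])) id

end Tri

end Cfsg.Agent.J3Order
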