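import Cfsg.Agent.Lib.J3Order.Norm
import Cfsg.Agent.Lib.Exceptional.NormThree
import Cfsg.Agent.Lib.Exceptional.ClassPairs
import Cfsg.Agent.Lib.Char.PRegular
import Cfsg.Agent.Lib.SmallCofactor.Basic

/-!
The order formula from the function induced by `1 - χ` from the centralizer of `y`.
-/

set_option autoImplicit false
set_option linter.style.haveILetI false
set_option linter.unusedSectionVars false

namespace Cfsg.Agent.J3Order

open Subgroup HallJankoType Cfsg Cfsg.Agent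
open Cfsg.Agent.JankoOrder (inv_iff_orderOf)
open scoped ComplexConjugate Classical

universe u

local notation "Inv" => JankoOrder.Inv

section index_two

variable {N : Type u} [Group N] [Fintype N] {K : Subgroup N} [Fintype K]

/-- A function induced from a subgroup of index two. -/
theorem indFun_index_two (hidx : K.index = 2) (θ : K → ℂ) (h : K) (A B : ℂ)
    (hin : ∀ x ∈ K, ∀ k : K, (k : N) = x⁻¹ * (h : N) * x → θ k = A)
    (hout : ∀ x ∉ K, ∀ k : K, (k : N) = x⁻¹ * (h : N) * x → θ k = B) :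
    indFun K θ (h : N) = A + B := by
  haveI : K.Normal := Subgroup.normal_of_index_eq_two hidx
  have hmem : ∀ x : N, x⁻¹ * (h : N) * x ∈ K := fun x => Subgroup.Normal.conj_mem' inferInstance _ h.2 x
  have hv : ∀ x : N, extendByZero K θ (x⁻¹ * (h : N) * x) = if x ∈ K then A else B := fun x => by
    rw [Char.extendByZero_of_mem _ _ (hmem x)]
    split_ifs with hx
    · exact hin x hx _ rfl
    · exact hout x hx _ rfl
  have hN : Fintype.card N = 2 * Fintype.card K := by
    rw [← Nat.card_eq_fintype_card, ← Nat.card_eq_fintype_card, ← Subgroup.card_mul_index K, hidx, mul_comm]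
  have hc1 : (Finset.univ.filter fun x : N => x ∈ K).card = Fintype.card K := by
    rw [Fintype.card_subtype]
  have hc2 : (Finset.univ.filter fun x : N => x ∉ K).card = Fintype.card K := by
    have := Finset.card_filter_add_card_filter_not (s := (Finset.univ : Finset N)) fun x : N => x ∈ K
    rw [Finset.card_univ, hc1] at this
    omega
  rw [indFun, Finset.sum_congr rfl fun x _ => hv x, Finset.sum_ite, Finset.sum_const, Finset.sum_const,
    hc1, hc2, nsmul_eq_mul, nsmul_eq_mul, Nat.card_eq_fintype_card, mul_add,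
    inv_mul_cancel_left₀ (Nat.cast_ne_zero.2 Fintype.card_ne_zero),
    inv_mul_cancel_left₀ (Nat.cast_ne_zero.2 Fintype.card_ne_zero)]

end index_two

variable {G : Type u} [Group G] [Finite G] {S : One G}

theorem One.card_invols_mul [Fintype G] (S : One G) :
    (Exceptional.classFinset S.z).card * 1920 = Nat.card G := by
  have h := Char.card_centralizer_mul_card_conj S.z
  rw [S.card_C] at h
  rw [mul_comm, ← h]
  congr 1
  rw [← Nat.card_eq_finsetCard]
  exact Nat.card_congr (Equiv.subtypeEquivRight fun g => Exceptional.mem_classFinset)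

theorem One.mem_class [Fintype G] (S : One G) {g : G} :
    g ∈ Exceptional.classFinset S.z ↔ Inv g := by
  rw [Exceptional.mem_classFinset]
  refine ⟨fun h => ?_, fun h => S.isConj h⟩
  obtain ⟨c, rfl⟩ := isConj_iff.mp h
  exact ⟨by rw [show c * S.z * c⁻¹ * (c * S.z * c⁻¹) = c * (S.z * S.z) * c⁻¹ by group, S.zz]; group,
    fun e => S.toFrame.z_ne_one (conj_eq_one_iff.mp e)⟩

namespace Five

variable [Fintype G] (F : Five S)

theorem order_formula {a : ℕ} (ha : Nat.card F.M₁ = a) (ha' : a = 1 ∨ a = 3) (hM2 : Nat.card F.M₂ = 1) :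
    ∃ (d : ℕ) (u : ℤ), (∃ ξ : IrrCharacter G, charDegree ξ.1 = d) ∧ 0 < d ∧ d ∣ Nat.card G ∧ d + 1 ∣ Nat.card G ∧ u ^ 2 + (u + 1) ^ 2 + 1 ≤ 1920 ∧
      (Nat.card G : ℤ) * ((d : ℤ) - u) ^ 2 * (20 * a) =
        1920 ^ 2 * (50 * (1 + a) ^ 2) * ((d : ℤ) * (d + 1)) := by
  haveI : Fintype F.NY := Fintype.ofFinite _
  obtain ⟨N, χ, hNe, hχy, hNY, hχN⟩ := F.exists_lin (by rw [ha, hM2]; rcases ha' with rfl | rfl <;> norm_num)
  set K : Subgroup F.NY := F.L.subgroupOf F.NY with hK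
  haveI : Fintype K := Fintype.ofFinite _
  let toL : K → F.L := fun k => ⟨((k : F.NY) : G), k.2⟩
  have hχ1 : ∀ l : F.L, (l : G) ^ N = 1 → χ l = 1 := fun l h => by
    rw [hχN l 1 (by simpa using h), map_one]
  have hχinv : ∀ l : F.L, χ l⁻¹ = conj (χ l) := fun l => by
    have h1 : χ l * χ l⁻¹ = 1 := by rw [← map_mul, mul_inv_cancel, map_one]
    have h2 : χ l * conj (χ l) = 1 := Char.normSq_linear χ l
    exact mul_left_cancel₀ (left_ne_zero_of_mul_eq_one h1) (h1.trans h2.symm)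
  have hL : ∀ l l' : F.L, ∀ x ∈ F.L, (l' : G) = x⁻¹ * l * x → χ l' = χ l := by
    intro l l' x hx h
    refine hχN _ _ ?_
    rw [h, show x⁻¹ * (l : G) * x = x⁻¹ * l * x⁻¹⁻¹ by group, conj_pow, inv_inv, mul_assoc,
      ← commute_of_mem_zpowers (hNY l) (mem_cent.mp hx), inv_mul_cancel_left]
  have hout : ∀ l l' : F.L, ∀ x ∈ F.NY, x ∉ F.L → (l' : G) = x⁻¹ * l * x → χ l' = conj (χ l) := by
    intro l l' x hx hxL h
    rw [← hχinv]
    refine hχN _ _ ?_
    have hxy : x⁻¹ * F.y * x⁻¹⁻¹ = F.y⁻¹ := by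
      rcases F.norm_pm (F.mem_NY.mp (inv_mem hx)) with e | e
      · exact absurd (mem_cent.mpr (mul_inv_eq_iff_eq_mul.mp e) : x⁻¹ ∈ F.L) fun h' => hxL (inv_mem_iff.mp h')
      · exact e
    rw [h, show x⁻¹ * (l : G) * x = x⁻¹ * l * x⁻¹⁻¹ by group, conj_pow, F.zpow_inverted hxy (hNY l),
      Subgroup.coe_inv, inv_pow]
  -- the function
  obtain ⟨θ₀, hθ₀⟩ : ∃ f : K → ℂ, f = fun k => 1 - χ (toL k) := ⟨_, rfl⟩
  let χK : K →* ℂ := χ.comp (MonoidHom.mk' toL fun _ _ => rfl)
  have hg₀ : IsGeneralizedCharacter K θ₀ := by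
    have := Char.IsGeneralizedCharacter.sub (Char.irr_isGeneralized (Char.trivialChar K))
      (Char.irr_isGeneralized (Char.linIrr χK))
    rw [hθ₀]
    exact this
  obtain ⟨θ, hθ⟩ : ∃ f : F.NY → ℂ, f = indFun K θ₀ := ⟨_, rfl⟩
  have hgen : IsGeneralizedCharacter F.NY θ := hθ ▸ Char.isGeneralizedCharacter_indFun K hg₀
  haveI : K.Normal := Subgroup.normal_of_index_eq_two F.index_L
  have hzero : ∀ h : F.NY, (h : G) ∉ F.L → θ h = 0 := fun h hh => by
    rw [hθ]
    exact Char.indFun_of_notMem_normal K _ hh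
  have hval : ∀ k : K, θ (k : F.NY) = 2 - χ (toL k) - conj (χ (toL k)) := by
    intro k
    rw [hθ, indFun_index_two F.index_L θ₀ k (1 - χ (toL k)) (1 - conj (χ (toL k))) ?_ ?_]
    · ring
    · intro x hx j hj
      rw [hθ₀]
      show 1 - χ (toL j) = _
      rw [hL (toL k) (toL j) x hx (congrArg (fun t : F.NY => (t : G)) hj)]
    · intro x hx j hj
      rw [hθ₀]
      show 1 - χ (toL j) = _
      rw [hout (toL k) (toL j) x x.2 hx (congrArg (fun t : F.NY => (t : G)) hj)]
  obtain ⟨T, hT⟩ : ∃ T : Set G, T = {g | ∃ l : F.L, (l : G) = g ∧ χ l ≠ 1} := ⟨_, rfl⟩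
  have hT1 : (1 : G) ∉ T := by
    rw [hT]
    rintro ⟨l, hl, hne⟩
    exact hne (hχ1 l (by rw [hl, one_pow]))
  have hgenY : ∀ g ∈ T, g ∈ F.L ∧ zpowers (g ^ N) = zpowers F.y := by
    rw [hT]
    rintro g ⟨l, rfl, hne⟩
    refine ⟨l.2, gen_of_mem (hNY l) ?_⟩
    haveI : Fact (Nat.Prime 5) := ⟨by norm_num⟩
    rw [F.hy]
    exact orderOf_eq_prime (F.pow_five (hNY l)) fun h => hne (hχ1 l h)
  have hTI : ∀ g : G, ∀ t ∈ T, g⁻¹ * t * g ∈ T → g ∈ F.NY := by
    intro g t ht ht'
    obtain ⟨-, h1⟩ := hgenY t ht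
    obtain ⟨-, h2⟩ := hgenY _ ht'
    rw [show g⁻¹ * t * g = g⁻¹ * t * g⁻¹⁻¹ by rw [inv_inv], conj_pow] at h2
    refine inv_mem_iff.mp (F.mem_NY.mpr ?_)
    obtain ⟨j, hj⟩ := mem_zpowers_iff.mp (h1.symm ▸ mem_zpowers F.y : F.y ∈ zpowers (t ^ N))
    have hm : g⁻¹ * t ^ N * g⁻¹⁻¹ ∈ zpowers F.y := h2 ▸ mem_zpowers _
    have := zpow_mem hm j
    rwa [conj_zpow, hj] at this
  have hTθ : ∀ h : F.NY, (h : G) ∉ T → θ h = 0 := by
    intro h hh
    by_cases hL' : (h : G) ∈ F.L
    · have hone : χ (toL ⟨h, hL'⟩) = 1 := by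
        by_contra hne
        exact hh (hT ▸ ⟨toL ⟨h, hL'⟩, rfl, hne⟩)
      rw [show θ h = θ ((⟨h, hL'⟩ : K) : F.NY) from rfl, hval, hone, map_one]
      norm_num
    · exact hzero h hL'
  have hpair : ∀ p ∈ Exceptional.classFinset S.z, ∀ q ∈ Exceptional.classFinset S.z,
      p * q ∈ F.NY → p * q ∈ T → p ∈ F.NY := by
    intro p hp q hq _ hpq
    obtain ⟨-, h1⟩ := hgenY _ hpq
    have hp2 := (S.mem_class.mp hp).1
    have hq2 := (S.mem_class.mp hq).1
    have hinv : p * (p * q) * p⁻¹ = (p * q)⁻¹ := by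
      rw [mul_inv_rev, inv_of_sq hp2, inv_of_sq hq2, ← mul_assoc, hp2, one_mul]
    refine F.mem_NY.mpr ?_
    obtain ⟨j, hj⟩ := mem_zpowers_iff.mp (h1.symm ▸ mem_zpowers F.y : F.y ∈ zpowers ((p * q) ^ N))
    rw [← hj, ← conj_zpow, ← conj_pow, hinv, inv_pow, inv_zpow, hj]
    exact inv_mem (mem_zpowers _)
  -- sums of the character
  haveI : Fintype F.L := Fintype.ofFinite _
  let eK : K ≃ F.L :=
    { toFun := toL
      invFun := fun l => ⟨⟨l, F.L_le_NY l.2⟩, l.2⟩
      left_inv := fun _ => rfl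
      right_inv := fun _ => rfl }
  have hsum : ∀ ψ : F.L →* ℂ, ψ ⟨F.y, F.y_mem_L⟩ ≠ 1 → ∑ l : F.L, ψ l = 0 := by
    intro ψ hψ
    have e : ψ ⟨F.y, F.y_mem_L⟩ * ∑ l : F.L, ψ l = ∑ l : F.L, ψ l := by
      rw [Finset.mul_sum]
      exact Fintype.sum_equiv (Equiv.mulLeft (⟨F.y, F.y_mem_L⟩ : F.L)) _ _ fun l => (map_mul ψ _ l).symm
    exact (mul_left_eq_self₀.mp e).resolve_left hψ
  have hy5 : χ ⟨F.y, F.y_mem_L⟩ ^ 5 = 1 := by
    rw [← map_pow, show (⟨F.y, F.y_mem_L⟩ : F.L) ^ 5 = 1 from Subtype.ext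
      (show F.y ^ 5 = 1 from F.hy ▸ pow_orderOf_eq_one _), map_one]
  have hy2 : χ ⟨F.y, F.y_mem_L⟩ ^ 2 ≠ 1 := fun h => hχy (by
    calc χ ⟨F.y, F.y_mem_L⟩ = χ ⟨F.y, F.y_mem_L⟩ * (χ ⟨F.y, F.y_mem_L⟩ ^ 2) ^ 2 := by rw [h, one_pow, mul_one]
      _ = χ ⟨F.y, F.y_mem_L⟩ ^ 5 := by ring
      _ = 1 := hy5)
  have s1 : ∑ l : F.L, χ l = 0 := hsum χ hχy
  have s1' : ∑ l : F.L, conj (χ l) = 0 := by rw [← map_sum, s1, map_zero]
  have s2 : ∑ l : F.L, χ l * χ l = 0 := hsum (χ * χ) (by rw [MonoidHom.mul_apply, ← pow_two]; exact hy2)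
  have s2' : ∑ l : F.L, conj (χ l) * conj (χ l) = 0 := by
    rw [show ∑ l : F.L, conj (χ l) * conj (χ l) = conj (∑ l : F.L, χ l * χ l) by simp [map_sum, map_mul], s2, map_zero]
  have hNcard : (Nat.card F.NY : ℂ) = 2 * (Fintype.card F.L : ℂ) := by
    have h := K.card_mul_index
    rw [F.index_L, Nat.card_congr eK, Nat.card_eq_fintype_card] at h
    rw [← h]
    push_cast
    ring
  have hLne : (Fintype.card F.L : ℂ) ≠ 0 := Nat.cast_ne_zero.2 Fintype.card_ne_zero
  have hsplit : ∀ f : F.NY → ℂ, (∀ h : F.NY, (h : G) ∉ F.L → f h = 0) →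
      ∑ h : F.NY, f h = ∑ l : F.L, f ⟨l, F.L_le_NY l.2⟩ := by
    intro f hf
    rw [← Finset.sum_filter_of_ne (p := fun h : F.NY => h ∈ K) (fun h _ hne => by
      by_contra hK'
      exact hne (hf h hK'))]
    exact (Finset.sum_subtype _ (fun h => by simp) f).trans (Fintype.sum_equiv eK _ _ fun _ => rfl)
  have hvalL : ∀ l : F.L, θ ⟨l, F.L_le_NY l.2⟩ = 2 - χ l - conj (χ l) := fun l =>
    hval ⟨⟨l, F.L_le_NY l.2⟩, l.2⟩
  have hnorm : classInner θ θ = 3 := by
    rw [classInner, hsplit _ (fun h hh => by rw [hzero h hh, zero_mul]), hNcard,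
      Finset.sum_congr rfl (g := fun l : F.L => (6 : ℂ) - 4 * χ l - 4 * conj (χ l) + χ l * χ l +
        conj (χ l) * conj (χ l)) fun l _ => ?_]
    · rw [Finset.sum_add_distrib, Finset.sum_add_distrib, Finset.sum_sub_distrib, Finset.sum_sub_distrib,
        ← Finset.mul_sum, ← Finset.mul_sum, s1, s1', s2, s2', Finset.sum_const, nsmul_eq_mul, Finset.card_univ]
      field_simp
      ring
    · have hn : χ l * conj (χ l) = 1 := Char.normSq_linear χ l
      rw [hvalL, map_sub, map_sub, Complex.conj_conj, map_ofNat]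
      linear_combination 2 * hn
  have htriv : classInner θ (fun _ => 1) = 1 := by
    rw [classInner, hsplit _ (fun h hh => by rw [hzero h hh, zero_mul]), hNcard,
      Finset.sum_congr rfl (g := fun l : F.L => (2 : ℂ) - χ l - conj (χ l))
        fun l _ => by rw [hvalL, map_one, mul_one],
      Finset.sum_sub_distrib, Finset.sum_sub_distrib, s1, s1', Finset.sum_const, nsmul_eq_mul,
      Finset.card_univ]
    field_simp
    ring
  -- decomposition
  obtain ⟨V, hV, hVc, hVV, hVd⟩ :=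
    Exceptional.NormThree.exists_coords hT1 hTI (fun _ : Unit => θ) (fun _ => hgen) (fun _ => hTθ)
  have h0 : V () (Char.trivialChar G) = 1 := by
    apply Int.cast_injective (α := ℂ)
    rw [hVc]
    simpa [Char.trivialChar_apply] using htriv
  have hn3 : V () ⬝ᵥ V () = 3 := Int.cast_injective (α := ℂ) (by rw [hVV, hnorm]; norm_num)
  obtain ⟨χa, χb, ha0, hb0, hab, hva, hvb, hdeg, hrest⟩ :=
    Exceptional.NormThree.exists_two_entries (d := fun ξ : IrrCharacter G => (charDegree ξ.1 : ℤ)) h0 hn3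
      (fun ξ => Int.natCast_pos.2 (Char.charDegree_pos ξ))
      (by
        have : ((charDegree (Char.trivialChar G).1 : ℤ) : ℂ) = 1 := by
          simp [Char.charDegree_cast, Char.trivialChar_apply]
        exact_mod_cast this) (hVd ())
  have hind : ∀ g : G, indFun F.NY θ g = 1 + χa.1 g - χb.1 g := fun g => by
    have h := Exceptional.NormThree.sum_three h0 ha0 hb0 hab hva hvb hrest (fun ξ : IrrCharacter G => ξ.1 g)
    rw [Char.trivialChar_apply] at h
    rw [hV (), ← h]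
    simp [Finset.sum_apply]
  have hzz : S.z * S.z = 1 := S.zz
  have hvan : indFun F.NY θ S.z = 0 := by
    refine CharInt.indFun_eq_zero_of_support hTθ fun x hx => ?_
    obtain ⟨l, hl, hne⟩ := (hT ▸ hx : x⁻¹ * S.z * x ∈ {g | ∃ l : F.L, (l : G) = g ∧ χ l ≠ 1})
    refine hne (hχ1 l ?_)
    obtain ⟨M, hM⟩ := hNe
    rw [hl, hM, ← two_mul, pow_mul, pow_two, show x⁻¹ * S.z * x * (x⁻¹ * S.z * x) = x⁻¹ * (S.z * S.z) * x by group,
      hzz, mul_one, inv_mul_cancel, one_pow]
  obtain ⟨u, hu⟩ := Exceptional.exists_int_apply_invol (Char.irr_isCharacter χa) hzz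
  have hw : χb.1 S.z = ((u + 1 : ℤ) : ℂ) := by
    rw [hind, hu] at hvan
    push_cast
    linear_combination -hvan
  -- pairs of involutions
  set A := Exceptional.classFinset S.z with hA
  have hconst : ∀ ξ : IrrCharacter G, Exceptional.sumOn A ξ.1 = (A.card : ℂ) * ξ.1 S.z := fun ξ => by
    rw [Exceptional.sumOn, Finset.sum_congr rfl (g := fun _ => ξ.1 S.z) fun g hg =>
      (Char.IsClassFunction.apply_of_isConj (Char.IsCharacter.isClassFunction (Char.irr_isCharacter ξ))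
        (Exceptional.mem_classFinset.mp hg)).symm, Finset.sum_const, nsmul_eq_mul]
  have hpairs := Exceptional.pairOn_indFun (A := A) (B := A) (Exceptional.isConjInv_classFinset _)
    (Exceptional.isConjInv_classFinset _) hTθ hpair
  rw [funext hind] at hpairs
  have hsplit3 : Exceptional.pairOn A A (fun g => 1 + χa.1 g - χb.1 g) =
      (A.card : ℂ) * A.card + Exceptional.pairOn A A χa.1 - Exceptional.pairOn A A χb.1 := by
    simp [Exceptional.pairOn, Finset.sum_add_distrib, Finset.sum_sub_distrib]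
  rw [hsplit3] at hpairs
  -- the pairs inside `N(⟨y⟩)`
  have hm : Exceptional.pairOn (Exceptional.inSub F.NY A) (Exceptional.inSub F.NY A) θ =
      2 * ((5 + Nat.card F.O : ℕ) : ℂ) ^ 2 := by
    set I := Exceptional.inSub F.NY A with hI
    set J := I.filter fun p : F.NY => (p : G) ∉ F.L with hJ
    have hIinv : ∀ p ∈ I, Inv (p : G) := fun p hp => S.mem_class.mp (Exceptional.mem_inSub.mp hp)
    have hLinv : ∀ l : F.L, Inv (l : G) → χ l = 1 := fun l hl => by
      obtain ⟨M, hM⟩ := hNe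
      exact hχ1 l (by rw [hM, ← two_mul, pow_mul, pow_two, hl.1, one_pow])
    have hdrop : ∀ p ∈ I, (p : G) ∈ F.L → ∀ q ∈ I, θ (p * q) = 0 := by
      intro p hp hpL q hq
      by_cases hqL : (q : G) ∈ F.L
      · have e : χ (⟨p, hpL⟩ * ⟨q, hqL⟩) = 1 := by
          rw [map_mul, hLinv _ (hIinv p hp), hLinv _ (hIinv q hq), mul_one]
        have := hvalL (⟨p, hpL⟩ * ⟨q, hqL⟩)
        rw [e, map_one] at this
        exact this.trans (by norm_num)
      · exact hzero _ fun h => hqL ((mul_mem_cancel_left hpL).mp h)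
    have hdrop' : ∀ p ∈ J, ∀ q ∈ I, (q : G) ∈ F.L → θ (p * q) = 0 := fun p hp q hq hqL =>
      hzero _ fun h => (Finset.mem_filter.mp hp).2 ((mul_mem_cancel_right hqL).mp h)
    have hstep : Exceptional.pairOn I I θ = ∑ p ∈ J, ∑ q ∈ J, θ (p * q) := by
      calc Exceptional.pairOn I I θ = ∑ p ∈ J, ∑ q ∈ I, θ (p * q) :=
            (Finset.sum_filter_of_ne (p := fun p : F.NY => (p : G) ∉ F.L) fun p hp hne hpL => hne
              (Finset.sum_eq_zero fun q hq => hdrop p hp hpL q hq)).symm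
        _ = ∑ p ∈ J, ∑ q ∈ J, θ (p * q) := Finset.sum_congr rfl fun p hp =>
            (Finset.sum_filter_of_ne (p := fun q : F.NY => (q : G) ∉ F.L) fun q hq hne hqL => hne (hdrop' p hp q hq hqL)).symm
    have hJs : ∀ p ∈ J, (p : G) * F.s ∈ F.L ∧ F.s * (p : G) ∈ F.L := fun p hp => by
      have h := (F.NY_cases p.2).resolve_left (Finset.mem_filter.mp hp).2
      refine ⟨h, ?_⟩
      have := inv_mem h
      rwa [mul_inv_rev, F.hs.inv_eq, inv_of_sq (hIinv p (Finset.mem_filter.mp hp).1).1] at this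
    let f : F.NY → ℂ := fun p => if h : (p : G) * F.s ∈ F.L then χ ⟨_, h⟩ else 0
    let g : F.NY → ℂ := fun p => if h : F.s * (p : G) ∈ F.L then χ ⟨_, h⟩ else 0
    have hprod : ∀ p ∈ J, ∀ q ∈ J, θ (p * q) = 2 - f p * g q - f q * g p := by
      intro p hp q hq
      obtain ⟨p1, p2⟩ := hJs p hp
      obtain ⟨q1, q2⟩ := hJs q hq
      have hp' := (hIinv p (Finset.mem_filter.mp hp).1).1
      have hq' := (hIinv q (Finset.mem_filter.mp hq).1).1
      have hmem : ((p * q : F.NY) : G) = (p : G) * F.s * (F.s * q) := by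
        rw [Subgroup.coe_mul, mul_assoc, ← mul_assoc F.s, F.hs.sq, one_mul]
      have hv := hvalL (⟨_, p1⟩ * ⟨_, q2⟩)
      rw [show (⟨((⟨_, p1⟩ * ⟨_, q2⟩ : F.L) : G), F.L_le_NY (⟨_, p1⟩ * ⟨_, q2⟩ : F.L).2⟩ : F.NY) = p * q from
        Subtype.ext hmem.symm] at hv
      rw [hv, ← hχinv]
      have einv : ((⟨_, p1⟩ * ⟨_, q2⟩ : F.L))⁻¹ = ⟨_, q1⟩ * ⟨_, p2⟩ := Subtype.ext (by
        push_cast
        simp only [mul_inv_rev, F.hs.inv_eq, inv_of_sq hp', inv_of_sq hq', mul_assoc])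
      rw [einv, map_mul, map_mul]
      simp only [f, g, dif_pos p1, dif_pos q1, dif_pos p2, dif_pos q2]
    rw [hstep, Finset.sum_congr rfl fun p hp => Finset.sum_congr rfl (hprod p hp)]
    simp only [Finset.sum_sub_distrib, Finset.sum_const, nsmul_eq_mul, ← Finset.mul_sum, ← Finset.sum_mul]
    have hf0 : ∑ p ∈ J, f p = 0 := by
      let yN : F.NY := ⟨F.y, F.L_le_NY F.y_mem_L⟩
      have hperm : ∀ x : F.NY, ∀ p ∈ J, (x : G) ∈ F.L → x * p * x⁻¹ ∈ J := by
        intro x p hp hx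
        rw [Finset.mem_filter] at hp ⊢
        refine ⟨Exceptional.mem_inSub.mpr (Exceptional.isConjInv_classFinset _ _ _ (Exceptional.mem_inSub.mp hp.1)),
          fun h => hp.2 ?_⟩
        have := mul_mem (mul_mem (inv_mem hx) h) hx
        simpa [mul_assoc] using this
      have hfy : ∀ p ∈ J, f (yN * p * yN⁻¹) = χ ⟨F.y, F.y_mem_L⟩ ^ 2 * f p := by
        intro p hp
        obtain ⟨p1, -⟩ := hJs p hp
        obtain ⟨p1', -⟩ := hJs _ (hperm yN p hp F.y_mem_L)
        simp only [f, dif_pos p1, dif_pos p1', ← map_pow, ← map_mul]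
        refine congrArg χ (Subtype.ext ?_)
        push_cast
        have hyc : F.y⁻¹ * F.s = F.s * F.y := by
          rw [← F.inv, mul_assoc (F.s * F.y), inv_mul_cancel, mul_one]
        calc F.y * (p : G) * F.y⁻¹ * F.s = F.y * ((p : G) * F.s * F.y) := by rw [mul_assoc _ F.y⁻¹, hyc]; group
          _ = F.y ^ 2 * ((p : G) * F.s) := by rw [mem_cent.mp p1, ← mul_assoc, ← pow_two]
      have e : χ ⟨F.y, F.y_mem_L⟩ ^ 2 * ∑ p ∈ J, f p = ∑ p ∈ J, f p := by
        rw [Finset.mul_sum]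
        refine Finset.sum_bij' (fun p _ => yN * p * yN⁻¹) (fun p _ => yN⁻¹ * p * yN)
          (fun p hp => hperm yN p hp F.y_mem_L)
          (fun p hp => by
            have := hperm yN⁻¹ p hp (inv_mem F.y_mem_L)
            rwa [inv_inv] at this)
          (fun p _ => by group) (fun p _ => by group) (fun p hp => (hfy p hp).symm)
      exact (mul_left_eq_self₀.mp e).resolve_left hy2
    rw [hf0]
    have hJcard : J.card = 5 + Nat.card F.O := by
      rw [← F.card_inverted hM2, ← Nat.card_eq_finsetCard]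
      exact Nat.card_congr
        { toFun := fun p => ⟨⟨_, (hJs p.1 p.2).1⟩, by
            have hp' := (hIinv p.1 (Finset.mem_filter.mp p.2).1).1
            show F.s * ((p.1 : G) * F.s) * F.s = ((p.1 : G) * F.s)⁻¹
            rw [mul_inv_rev, F.hs.inv_eq, inv_of_sq hp', mul_assoc, mul_assoc, F.hs.sq, mul_one]⟩
          invFun := fun l => ⟨⟨(l.1 : G) * F.s, mul_mem (F.L_le_NY l.1.2) F.s_mem_NY⟩, by
            refine Finset.mem_filter.mpr ⟨Exceptional.mem_inSub.mpr (S.mem_class.mpr ⟨?_, fun h => F.s_not_L ?_⟩),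
              fun h => F.s_not_L ((mul_mem_cancel_left l.1.2).mp h)⟩
            · calc (l.1 : G) * F.s * ((l.1 : G) * F.s) = (l.1 : G) * (F.s * (l.1 : G) * F.s) := by group
                _ = 1 := by rw [l.2, mul_inv_cancel]
            · rw [eq_inv_of_mul_eq_one_right h]; exact inv_mem l.1.2⟩
          left_inv := fun p => Subtype.ext (Subtype.ext (by
            show (p.1 : G) * F.s * F.s = p.1
            rw [mul_assoc, F.hs.sq, mul_one]))
          right_inv := fun l => Subtype.ext (Subtype.ext (by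
            show (l.1 : G) * F.s * F.s = l.1
            rw [mul_assoc, F.hs.sq, mul_one])) }
    rw [hJcard]
    ring
  rw [hm] at hpairs
  have ea := Exceptional.apply_one_mul_pairOn (A := A) (B := A) (Exceptional.isConjInv_classFinset _) χa.2
  have eb := Exceptional.apply_one_mul_pairOn (A := A) (B := A) (Exceptional.isConjInv_classFinset _) χb.2
  rw [hconst χa, hu, ← Char.charDegree_cast] at ea
  rw [hconst χb, hw, ← Char.charDegree_cast] at eb
  set d := charDegree χa.1 with hd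
  have hdb : (charDegree χb.1 : ℂ) = (d : ℂ) + 1 := by
    have : charDegree χb.1 = d + 1 := by omega
    rw [this]; push_cast; rfl
  rw [hdb] at eb
  have hdvd : ∀ ξ : IrrCharacter G, charDegree ξ.1 ∣ Nat.card G := fun ξ => by
    rw [Char.charDegree_eq_degree]; exact Char.degree_dvd_natCard ξ
  refine ⟨d, u, ⟨χa, rfl⟩, Char.charDegree_pos χa, hdvd χa, ?_, ?_, ?_⟩
  · have : charDegree χb.1 = d + 1 := by omega
    rw [← this]; exact hdvd χb
  · have e := Char.sum_irr_mul_conj S.z S.z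
    rw [if_pos (IsConj.refl _), show Nat.card ↥(centralizer ({S.z} : Set G)) = 1920 from S.card_C] at e
    have e' : ∑ ξ : IrrCharacter G, Complex.normSq (ξ.1 S.z) = 1920 := by
      have h : ((∑ ξ : IrrCharacter G, Complex.normSq (ξ.1 S.z) : ℝ) : ℂ) = 1920 := by
        push_cast
        simp only [← Complex.mul_conj]
        rw [e]
        norm_num
      exact_mod_cast h
    have hle : ∑ ξ ∈ ({Char.trivialChar G, χa, χb} : Finset (IrrCharacter G)), Complex.normSq (ξ.1 S.z) ≤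
        ∑ ξ : IrrCharacter G, Complex.normSq (ξ.1 S.z) :=
      Finset.sum_le_univ_sum_of_nonneg fun ξ => Complex.normSq_nonneg _
    rw [e', Finset.sum_insert (by simp [ha0.symm, hb0.symm]), Finset.sum_pair hab, hu, hw,
      Char.trivialChar_apply, map_one, Complex.normSq_intCast, Complex.normSq_intCast] at hle
    have : ((u ^ 2 + (u + 1) ^ 2 + 1 : ℤ) : ℝ) ≤ ((1920 : ℤ) : ℝ) := by
      push_cast at hle ⊢
      linarith
    exact_mod_cast this
  · have hG := S.card_invols_mul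
    rw [← hA] at hG
    have hGc : (Nat.card G : ℂ) = (A.card : ℂ) * 1920 := by exact_mod_cast hG.symm
    have hH : Nat.card F.NY = 20 * a := by rw [F.card_NY, F.card_O, ha, hM2]; ring
    have hHc : (Nat.card F.NY : ℂ) = 20 * (a : ℂ) := by exact_mod_cast hH
    rw [F.card_O, ha, hM2, hHc] at hpairs
    have hapos : (a : ℂ) ≠ 0 := by rcases ha' with rfl | rfl <;> norm_num
    have hdne : (d : ℂ) ≠ 0 := Nat.cast_ne_zero.2 (Char.charDegree_pos χa).ne'
    have hd1 : (d : ℂ) + 1 ≠ 0 := by exact_mod_cast Nat.succ_ne_zero d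
    have hAne : (A.card : ℂ) ≠ 0 := by
      intro h
      rw [h, zero_mul] at hGc
      exact Char.card_ne_zero hGc
    have pa : Exceptional.pairOn A A χa.1 = (A.card : ℂ) * u * ((A.card : ℂ) * u) / d :=
      (eq_div_iff hdne).mpr (by rw [mul_comm]; exact ea)
    have pb : Exceptional.pairOn A A χb.1 =
        (A.card : ℂ) * ((u + 1 : ℤ) : ℂ) * ((A.card : ℂ) * ((u + 1 : ℤ) : ℂ)) / ((d : ℂ) + 1) :=
      (eq_div_iff hd1).mpr (by rw [mul_comm]; exact eb)
    rw [pa, pb, hGc] at hpairs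
    have key : ((Nat.card G : ℤ) * ((d : ℤ) - u) ^ 2 * (20 * a) : ℤ) =
        1920 ^ 2 * (50 * (1 + (a : ℤ)) ^ 2) * ((d : ℤ) * (d + 1)) := by
      apply Int.cast_injective (α := ℂ)
      push_cast at hpairs ⊢
      rw [hGc]
      field_simp at hpairs ⊢
      linear_combination 1920 * hpairs
    exact key

end Five

end Cfsg.Agent.J3Order
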