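import Cfsg.Agent.Lib.HallJankoType.Centralizer

/-!
A centraliser `2^{1+4}.A₅` of an involution: the structure of `Q` (after the file of the Hall–Janko type).
-/

set_option autoImplicit false
set_option linter.style.haveILetI false
set_option linter.unusedSectionVars false

namespace Cfsg.Agent.J3Order

open Subgroup HallJankoType
open Cfsg.Agent.JankoOrder (inv_iff_orderOf)

universe u

local notation "A5" => alternatingGroup (Fin 5)
local notation "Inv" => JankoOrder.Inv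

/-- An involution centraliser that is an extension of an extraspecial group of order 32 by `A₅`. -/
structure Frame (G : Type u) [Group G] where
  z : G
  hz : orderOf z = 2
  Q : Subgroup G
  ψ : ↥(Subgroup.centralizer ({z} : Set G)) →* A5
  ψ_surj : Function.Surjective ψ
  ψ_ker : ∀ x, ψ x = 1 ↔ (x : G) ∈ Q
  Q_le : Q ≤ Subgroup.centralizer ({z} : Set G)
  extra : Cfsg.IsExtraspecial 2 ↥Q
  card_Q : Nat.card ↥Q = 32
  self : ∀ x ∈ Subgroup.centralizer ({z} : Set G), (∀ q ∈ Q, x * q = q * x) → x ∈ Q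

namespace Frame

variable {G : Type u} [Group G] (S : Frame G)

/-- The centralizer of `z`. -/
abbrev C : Subgroup G := Subgroup.centralizer ({S.z} : Set G)

/-- Membership in `{1, z}`. -/
abbrev Zp (x : G) : Prop := x = 1 ∨ x = S.z

theorem inv_z : Inv S.z := inv_iff_orderOf.mpr S.hz
theorem zz : S.z * S.z = 1 := S.inv_z.1
theorem z_ne_one : S.z ≠ 1 := S.inv_z.2
theorem z_mem_C : S.z ∈ S.C := mem_cent.mpr rfl
theorem z_comm {x : G} (hx : x ∈ S.C) : x * S.z = S.z * x := mem_cent.mp hx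

theorem z_conj {x : G} (hx : x ∈ S.C) : x * S.z * x⁻¹ = S.z := by
  rw [S.z_comm hx, mul_inv_cancel_right]

theorem z_mem_Q : S.z ∈ S.Q :=
  S.self _ S.z_mem_C fun _ hq => (S.z_comm (S.Q_le hq)).symm

theorem Zp.mem {x : G} (h : S.Zp x) : x ∈ S.Q := by
  rcases h with rfl | rfl
  · exact one_mem _
  · exact S.z_mem_Q

theorem Zp.sq {x : G} (h : S.Zp x) : x * x = 1 := by
  rcases h with rfl | rfl
  · exact mul_one 1
  · exact S.zz

theorem Zp.comm {x y : G} (h : S.Zp x) (hy : y ∈ S.C) : y * x = x * y := by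
  rcases h with rfl | rfl
  · rw [mul_one, one_mul]
  · exact S.z_comm hy

theorem Zp.mul {x y : G} (h : S.Zp x) (h' : S.Zp y) : S.Zp (x * y) := by
  rcases h with rfl | rfl <;> rcases h' with rfl | rfl
  · exact .inl (mul_one 1)
  · exact .inr (one_mul _)
  · exact .inr (mul_one _)
  · exact .inl S.zz

theorem Zp.inv {x : G} (h : S.Zp x) : S.Zp x⁻¹ := by
  rw [inv_of_sq (Zp.sq S h)]; exact h

/-! ### The map to `A₅` -/

theorem ψ_mul {x y : G} (hx : x ∈ S.C) (hy : y ∈ S.C) :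
    S.ψ ⟨x * y, mul_mem hx hy⟩ = S.ψ ⟨x, hx⟩ * S.ψ ⟨y, hy⟩ :=
  map_mul S.ψ ⟨x, hx⟩ ⟨y, hy⟩

theorem mem_Q_iff {x : G} (hx : x ∈ S.C) : x ∈ S.Q ↔ S.ψ ⟨x, hx⟩ = 1 := (S.ψ_ker ⟨x, hx⟩).symm

theorem ψ_eq_iff {x y : G} (hx : x ∈ S.C) (hy : y ∈ S.C) :
    S.ψ ⟨x, hx⟩ = S.ψ ⟨y, hy⟩ ↔ x⁻¹ * y ∈ S.Q := by
  rw [S.mem_Q_iff (mul_mem (inv_mem hx) hy), ← inv_mul_eq_one (a := S.ψ ⟨x, hx⟩), ← map_inv, ← map_mul]
  rfl

theorem conj_mem {c q : G} (hc : c ∈ S.C) (hq : q ∈ S.Q) : c * q * c⁻¹ ∈ S.Q := by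
  rw [S.mem_Q_iff (mul_mem (mul_mem hc (S.Q_le hq)) (inv_mem hc))]
  have h : S.ψ (⟨c, hc⟩ * ⟨q, S.Q_le hq⟩ * ⟨c, hc⟩⁻¹) = 1 := by
    rw [map_mul, map_mul, (S.mem_Q_iff (S.Q_le hq)).mp hq, mul_one, map_inv, mul_inv_cancel]
  exact h

theorem conj_mem' {c q : G} (hc : c ∈ S.C) (hq : q ∈ S.Q) : c⁻¹ * q * c ∈ S.Q := by
  simpa using S.conj_mem (inv_mem hc) hq

variable [Finite G]

theorem card_C : Nat.card ↥S.C = 1920 := by
  have hk : Nat.card ↥S.ψ.ker = 32 := by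
    rw [← S.card_Q, ← Nat.card_congr (Subgroup.subgroupOfEquivOfLe S.Q_le).toEquiv]
    refine Nat.card_congr (Equiv.subtypeEquivRight fun x => ?_)
    rw [MonoidHom.mem_ker, S.ψ_ker, Subgroup.mem_subgroupOf]
  rw [← S.ψ.ker.card_mul_index, Subgroup.index_ker, MonoidHom.range_eq_top.mpr S.ψ_surj,
    Subgroup.card_top, hk, five_card]

/-! ### Structure of `Q` -/

theorem center_cases {x : G} (hx : x ∈ S.Q) (hc : ∀ q ∈ S.Q, x * q = q * x) : S.Zp x := by
  let zq : ↥S.Q := ⟨S.z, S.z_mem_Q⟩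
  have hzq : zq ∈ center ↥S.Q :=
    mem_center_iff.mpr fun q => Subtype.ext (S.z_comm (S.Q_le q.2))
  have hZ : zpowers zq = center ↥S.Q := by
    refine eq_of_le_of_card_ge (zpowers_le.mpr hzq) ?_
    rw [Nat.card_zpowers, ← Subgroup.orderOf_coe, S.hz, S.extra.2]
  have hm : (⟨x, hx⟩ : ↥S.Q) ∈ center ↥S.Q :=
    mem_center_iff.mpr fun q => Subtype.ext (hc q q.2).symm
  rw [← hZ] at hm
  obtain ⟨n, hn⟩ := mem_zpowers_iff.mp hm
  have e : S.z ^ n = x := by simpa [zq] using congrArg Subtype.val hn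
  have h2 : S.z ^ (2 : ℤ) = 1 := by rw [zpow_two]; exact S.zz
  rw [← e]
  rcases Int.even_or_odd n with ⟨j, rfl⟩ | ⟨j, rfl⟩
  · left; rw [← two_mul, zpow_mul, h2, one_zpow]
  · right; rw [zpow_add_one, zpow_mul, h2, one_zpow, one_mul]

theorem zp_of_mem_center {x : ↥S.Q} (h : x ∈ center ↥S.Q) : S.Zp (x : G) :=
  S.center_cases x.2 fun q hq => (congrArg Subtype.val (mem_center_iff.mp h ⟨q, hq⟩)).symm

theorem comm_zp {x y : G} (hx : x ∈ S.Q) (hy : y ∈ S.Q) : S.Zp (x * y * x⁻¹ * y⁻¹) := by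
  have h := Subgroup.commutator_mem_commutator (mem_top (⟨x, hx⟩ : ↥S.Q)) (mem_top (⟨y, hy⟩ : ↥S.Q))
  rw [← commutator_def, S.extra.1.2.2] at h
  exact S.zp_of_mem_center h

theorem sq_zp {x : G} (hx : x ∈ S.Q) : S.Zp (x * x) := by
  have hp : IsPGroup 2 ↥S.Q := IsPGroup.of_card (n := 5) (by rw [S.card_Q]; norm_num)
  haveI : Fact (Nat.Prime 2) := ⟨Nat.prime_two⟩
  have h := PGroup.pow_mem_frattini hp (⟨x, hx⟩ : ↥S.Q)
  rw [S.extra.1.2.1, pow_two] at h
  exact S.zp_of_mem_center h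

theorem conj_in_Q {x y : G} (hx : x ∈ S.Q) (hy : y ∈ S.Q) :
    x * y * x⁻¹ = y ∨ x * y * x⁻¹ = y * S.z := by
  rcases S.comm_zp hx hy with h | h
  · exact .inl (mul_inv_eq_one.mp h)
  · right
    rw [mul_inv_eq_iff_eq_mul.mp h, S.z_comm (S.Q_le hy)]

/-- An element of order five of `C` fixes only `{1, z}` in `Q`. -/
theorem fix_five {g : G} (hg : g ∈ S.C) (h5 : orderOf g = 5) {q : G} (hq : q ∈ S.Q)
    (hc : g * q = q * g) : S.Zp q := by
  haveI : Fact (Nat.Prime 5) := ⟨by decide⟩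
  haveI : Fact (Nat.Prime 2) := ⟨Nat.prime_two⟩
  let P := Subgroup.zpowers (⟨g, hg⟩ : ↥S.C)
  have hP : IsPGroup 5 ↥P := IsPGroup.of_card (n := 1) (by
    rw [Nat.card_zpowers, ← Subgroup.orderOf_coe, pow_one]; exact h5)
  letI : MulAction ↥P ↥S.Q :=
    { smul := fun c x => ⟨((c : ↥S.C) : G) * x * ((c : ↥S.C) : G)⁻¹, S.conj_mem (c : ↥S.C).2 x.2⟩
      one_smul := fun x => Subtype.ext (by show (1 : G) * x * (1 : G)⁻¹ = x; simp)
      mul_smul := fun c d x => Subtype.ext (by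
        show (((c : ↥S.C) : G) * (d : ↥S.C)) * x * (((c : ↥S.C) : G) * (d : ↥S.C))⁻¹ =
          ((c : ↥S.C) : G) * (((d : ↥S.C) : G) * x * ((d : ↥S.C) : G)⁻¹) * ((c : ↥S.C) : G)⁻¹
        group) }
  have hsm : ∀ (c : ↥P) (x : ↥S.Q),
      ((c • x : ↥S.Q) : G) = ((c : ↥S.C) : G) * x * ((c : ↥S.C) : G)⁻¹ := fun _ _ => rfl
  set F : Subgroup G := S.Q ⊓ Subgroup.centralizer ({g} : Set G) with hF
  have hfix : ∀ x : ↥S.Q, x ∈ MulAction.fixedPoints ↥P ↥S.Q ↔ (x : G) ∈ F := by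
    intro x
    rw [hF, Subgroup.mem_inf, mem_cent]
    refine ⟨fun h => ⟨x.2, ?_⟩, fun h c => Subtype.ext ?_⟩
    · have e := congrArg Subtype.val (h ⟨⟨g, hg⟩, mem_zpowers _⟩)
      rw [hsm] at e
      exact (mul_inv_eq_iff_eq_mul.mp e).symm
    · obtain ⟨n, hn⟩ := mem_zpowers_iff.mp c.2
      rw [hsm, ← hn, Subgroup.coe_zpow]
      rw [mul_inv_eq_iff_eq_mul]
      exact (Commute.zpow_right (show Commute (x : G) g from h.2) n).symm.eq
  have hcard := hP.card_modEq_card_fixedPoints ↥S.Q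
  have hFc : Nat.card (MulAction.fixedPoints ↥P ↥S.Q) = Nat.card ↥F :=
    Nat.card_congr
      { toFun := fun x => ⟨(x.1 : G), (hfix x.1).mp x.2⟩
        invFun := fun x => ⟨⟨x.1, x.2.1⟩, (hfix ⟨x.1, x.2.1⟩).mpr x.2⟩
        left_inv := fun _ => rfl
        right_inv := fun _ => rfl }
  rw [hFc, S.card_Q] at hcard
  obtain ⟨i, hi, hFi⟩ := (Nat.dvd_prime_pow Nat.prime_two).mp
    (show Nat.card ↥F ∣ 2 ^ 5 by
      rw [show (2 : ℕ) ^ 5 = Nat.card ↥S.Q by rw [S.card_Q]; norm_num]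
      exact Subgroup.card_dvd_of_le inf_le_left)
  have h1' : 32 % 5 = Nat.card ↥F % 5 := hcard
  have hF2 : Nat.card ↥F = 2 := by
    rw [hFi] at h1' ⊢
    interval_cases i <;> simp_all
    · exfalso
      have hall : F = S.Q := Subgroup.eq_of_le_of_card_ge inf_le_left (by rw [S.card_Q]; exact ge_of_eq (by simpa [hF] using hFi))
      have hgQ := S.self g hg fun q hq => ((mem_cent.mp (hall.symm ▸ hq : q ∈ F).2)).symm
      have h := Subgroup.orderOf_dvd_natCard _ hgQ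
      rw [h5, S.card_Q] at h
      norm_num at h
  have hzF : Subgroup.zpowers S.z = F :=
    Subgroup.eq_of_le_of_card_ge
      (zpowers_le.mpr (Subgroup.mem_inf.mpr ⟨S.z_mem_Q, mem_cent.mpr (S.z_comm hg).symm⟩))
      (by rw [hF2, Nat.card_zpowers, S.hz])
  have hqF : q ∈ Subgroup.zpowers S.z := hzF ▸ Subgroup.mem_inf.mpr ⟨hq, mem_cent.mpr hc.symm⟩
  obtain ⟨n, hn⟩ := mem_zpowers_iff.mp hqF
  have h2 : S.z ^ (2 : ℤ) = 1 := by rw [zpow_two]; exact S.zz
  rw [← hn]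
  rcases Int.even_or_odd n with ⟨j, rfl⟩ | ⟨j, rfl⟩
  · left; rw [← two_mul, zpow_mul, h2, one_zpow]
  · right; rw [zpow_add_one, zpow_mul, h2, one_zpow, one_mul]

theorem exists_five : ∃ g ∈ S.C, orderOf g = 5 := by
  haveI : Fact (Nat.Prime 5) := ⟨by decide⟩
  obtain ⟨g, hg⟩ := exists_prime_orderOf_dvd_card' (G := ↥S.C) 5 (by rw [S.card_C]; norm_num)
  exact ⟨g, g.2, by rwa [Subgroup.orderOf_coe]⟩

/-- The element count of `Q`, and the involutions commuting with a noncentral involution. -/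
theorem involutions_Q {u : G} (hu : u ∈ S.Q) (hu2 : u * u = 1) (huz : ¬ S.Zp u) :
    Nat.card {x : G // x ∈ S.Q ∧ x * x = 1} = 12 ∧
      ∀ x ∈ S.Q, x * x = 1 → x * u = u * x → S.Zp x ∨ S.Zp (x * u) := by
  obtain ⟨g, hg, h5⟩ := S.exists_five
  let φ : ↥S.Q ≃* ↥S.Q :=
    { toFun := fun q => ⟨g * q * g⁻¹, S.conj_mem hg q.2⟩
      invFun := fun q => ⟨g⁻¹ * q * g, S.conj_mem' hg q.2⟩
      left_inv := fun q => Subtype.ext (by show g⁻¹ * (g * q * g⁻¹) * g = q; group)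
      right_inv := fun q => Subtype.ext (by show g * (g⁻¹ * q * g) * g⁻¹ = q; group)
      map_mul' := fun a b => Subtype.ext (by
        show g * (a * b) * g⁻¹ = g * a * g⁻¹ * (g * b * g⁻¹); group) }
  have hφ : ∀ q : ↥S.Q, φ (φ (φ (φ (φ q)))) = q := fun q => Subtype.ext (by
    have h : g ^ 5 = 1 := h5 ▸ pow_orderOf_eq_one g
    show g * (g * (g * (g * (g * q * g⁻¹) * g⁻¹) * g⁻¹) * g⁻¹) * g⁻¹ = q
    calc g * (g * (g * (g * (g * q * g⁻¹) * g⁻¹) * g⁻¹) * g⁻¹) * g⁻¹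
        = g ^ 5 * q * (g ^ 5)⁻¹ := by simp only [pow_succ, pow_zero, one_mul]; group
      _ = q := by rw [h, one_mul, inv_one, mul_one])
  have hne : ∃ q, φ q ≠ q := by
    refine ⟨⟨u, hu⟩, fun e => huz (S.fix_five hg h5 hu ?_)⟩
    exact mul_inv_eq_iff_eq_mul.mp (congrArg Subtype.val e)
  have huc : (⟨u, hu⟩ : ↥S.Q) ∉ center ↥S.Q := fun h => huz (S.zp_of_mem_center h)
  obtain ⟨h12, hc⟩ := JankoOrder.sq_one_count S.extra S.card_Q φ hφ hne
    (u := ⟨u, hu⟩) (Subtype.ext hu2) huc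
  refine ⟨?_, fun x hx hx2 hxu => ?_⟩
  · rw [← h12]
    exact Nat.card_congr
      { toFun := fun x => ⟨⟨x.1, x.2.1⟩, Subtype.ext x.2.2⟩
        invFun := fun x => ⟨(x.1 : G), x.1.2, congrArg Subtype.val x.2⟩
        left_inv := fun _ => rfl
        right_inv := fun _ => rfl }
  · rcases hc ⟨x, hx⟩ (Subtype.ext hx2) (Subtype.ext hxu) with h | h
    · exact .inl (S.zp_of_mem_center h)
    · right
      have e : S.Zp (x * u⁻¹) := S.zp_of_mem_center h
      rwa [inv_of_sq hu2] at e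

/-- A noncentral element of `Q` has two conjugates in `Q`. -/
theorem exists_move {u : G} (hu : u ∈ S.Q) (huz : ¬ S.Zp u) :
    ∃ q ∈ S.Q, q * u * q⁻¹ = u * S.z := by
  by_contra h
  push Not at h
  refine huz (S.center_cases hu fun q hq => ?_)
  rcases S.conj_in_Q hq hu with e | e
  · exact (mul_inv_eq_iff_eq_mul.mp e).symm
  · exact absurd e (h q hq)

theorem card_cent_Q {u : G} (hu : u ∈ S.Q) (huz : ¬ S.Zp u) :
    Nat.card ↥(S.Q ⊓ Subgroup.centralizer ({u} : Set G) : Subgroup G) = 16 := by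
  have h := card_orbit_mul S.Q u
  obtain ⟨q, hq, hqu⟩ := S.exists_move hu huz
  have h2 : Nat.card {v : G // ∃ k ∈ S.Q, k * u * k⁻¹ = v} = 2 := by
    refine Nat.card_eq_two_iff.mpr ⟨⟨u, 1, one_mem _, by simp⟩, ⟨u * S.z, q, hq, hqu⟩, ?_, ?_⟩
    · intro e
      exact S.z_ne_one (left_eq_mul.mp (congrArg Subtype.val e))
    · refine Set.eq_univ_iff_forall.mpr fun v => ?_
      obtain ⟨k, hk, e⟩ := v.2
      rcases S.conj_in_Q hk hu with h' | h'
      · exact .inl (Subtype.ext (e.symm.trans h'))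
      · exact .inr (Set.mem_singleton_iff.mpr (Subtype.ext (e.symm.trans h')))
  rw [h2, S.card_Q] at h
  omega

/-- The `C`-class of a noncentral involution of `Q`. -/
theorem conj_noncentral {u v : G} (hu : u ∈ S.Q) (hu2 : u * u = 1) (huz : ¬ S.Zp u)
    (hv : v ∈ S.Q) (hv2 : v * v = 1) (hvz : ¬ S.Zp v) : ∃ c ∈ S.C, c * u * c⁻¹ = v := by
  classical
  haveI : Fact (Nat.Prime 5) := ⟨by decide⟩
  set O := {w : G // ∃ c ∈ S.C, c * u * c⁻¹ = w} with hO
  set N := {w : G // w ∈ S.Q ∧ w * w = 1 ∧ ¬ S.Zp w} with hN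
  have hmem : ∀ w : O, (w : G) ∈ S.Q ∧ (w : G) * w = 1 ∧ ¬ S.Zp (w : G) := by
    rintro ⟨_, c, hc, rfl⟩
    refine ⟨S.conj_mem hc hu, ?_, fun h => huz ?_⟩
    · calc c * u * c⁻¹ * (c * u * c⁻¹) = c * (u * u) * c⁻¹ := by group
        _ = 1 := by rw [hu2]; group
    · have e : u = c⁻¹ * (c * u * c⁻¹) * c := by group
      rw [e]
      replace h : S.Zp (c * u * c⁻¹) := h
      rcases h with h | h <;> rw [h]
      · exact .inl (by group)
      · exact .inr (by rw [mul_assoc, ← S.z_comm hc, inv_mul_cancel_left])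
  let emb : O → N := fun w => ⟨w.1, hmem w⟩
  have hinj : Function.Injective emb := fun a b e => Subtype.ext (congrArg Subtype.val e :)
  have h10 : Nat.card N = 10 := by
    have h1 := Nat.card_congr
      (Equiv.sumCompl fun w : {x : G // x ∈ S.Q ∧ x * x = 1} => S.Zp (w : G))
    rw [Nat.card_sum, (S.involutions_Q hu hu2 huz).1] at h1
    have e2 : Nat.card {w : {x : G // x ∈ S.Q ∧ x * x = 1} // S.Zp (w : G)} = 2 := by
      refine Nat.card_eq_two_iff.mpr ⟨⟨⟨1, one_mem _, mul_one 1⟩, .inl rfl⟩,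
        ⟨⟨S.z, S.z_mem_Q, S.zz⟩, .inr rfl⟩, ?_, ?_⟩
      · intro e; exact S.z_ne_one (congrArg (fun w => ((w.1 : {x : G // x ∈ S.Q ∧ x * x = 1}) : G)) e).symm
      · refine Set.eq_univ_iff_forall.mpr fun w => ?_
        rcases w.2 with h | h
        · exact .inl (Subtype.ext (Subtype.ext h))
        · exact .inr (Set.mem_singleton_iff.mpr (Subtype.ext (Subtype.ext h)))
    have e3 : Nat.card {w : {x : G // x ∈ S.Q ∧ x * x = 1} // ¬ S.Zp (w : G)} = Nat.card N :=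
      Nat.card_congr
        { toFun := fun w => ⟨w.1.1, w.1.2.1, w.1.2.2, w.2⟩
          invFun := fun w => ⟨⟨w.1, w.2.1, w.2.2.1⟩, w.2.2.2⟩
          left_inv := fun _ => rfl
          right_inv := fun _ => rfl }
    omega
  have hle : Nat.card O ≤ 10 := h10 ▸ Nat.card_le_card_of_injective emb hinj
  have hst := card_orbit_mul S.C u
  rw [S.card_C] at hst
  have h5 : 5 ∣ Nat.card O := by
    have : 5 ∣ Nat.card O * Nat.card ↥(S.C ⊓ Subgroup.centralizer ({u} : Set G) : Subgroup G) :=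
      ⟨384, hst⟩
    rcases (Nat.Prime.dvd_mul (by decide)).mp this with h | h
    · exact h
    · obtain ⟨g, hg⟩ := exists_prime_orderOf_dvd_card'
        (G := ↥(S.C ⊓ Subgroup.centralizer ({u} : Set G) : Subgroup G)) 5 h
      rw [← Subgroup.orderOf_coe] at hg
      exact absurd (S.fix_five g.2.1 hg hu (mem_cent.mp g.2.2)) huz
  -- the orbit is closed under multiplication by `z`
  have hflip : ∀ w : O, ∃ w' : O, (w' : G) = (w : G) * S.z := by
    intro w
    obtain ⟨q, hq, e⟩ := S.exists_move (hmem w).1 (hmem w).2.2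
    obtain ⟨c, hc, ec⟩ := w.2
    refine ⟨⟨(w : G) * S.z, q * c, mul_mem (S.Q_le hq) hc, ?_⟩, rfl⟩
    rw [← e, ← ec]; group
  choose σ hσ using hflip
  have h2 : 2 ∣ Nat.card O := by
    classical
    haveI : Fintype O := Fintype.ofFinite O
    have hinvol : Function.Involutive σ := fun w => Subtype.ext (by
      rw [hσ, hσ, mul_assoc, S.zz, mul_one])
    have hfree : ∀ w, σ w ≠ w := fun w e => S.z_ne_one (by
      have := congrArg Subtype.val e
      rw [hσ] at this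
      exact mul_eq_left.mp this)
    rw [Nat.card_eq_fintype_card, ← even_iff_two_dvd, ← Finset.card_univ]
    refine (ZMod.natCast_eq_zero_iff_even).mp ?_
    rw [Finset.card_eq_sum_ones, Nat.cast_sum]
    exact Finset.sum_involution (fun w _ => σ w) (fun w _ => by decide) (fun w _ _ => hfree w)
      (fun w _ => Finset.mem_univ _) (fun w _ => hinvol w)
  have hO10 : Nat.card O = 10 := by
    have hpos : 0 < Nat.card O := by
      haveI : Nonempty O := ⟨⟨u, 1, one_mem _, by simp⟩⟩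
      exact Nat.card_pos
    omega
  have hbij : Function.Bijective emb :=
    (Nat.bijective_iff_injective_and_card emb).mpr ⟨hinj, hO10.trans h10.symm⟩
  obtain ⟨w, hw⟩ := hbij.2 ⟨v, hv, hv2, hvz⟩
  have e : (w : G) = v := congrArg Subtype.val hw
  exact e ▸ w.2

theorem exists_noncentral : ∃ u ∈ S.Q, u * u = 1 ∧ ¬ S.Zp u := by
  obtain ⟨x, hx, hxz⟩ : ∃ x ∈ S.Q, ¬ S.Zp x := by
    by_contra h
    push Not at h
    have hle : S.Q ≤ zpowers S.z := fun x hx => by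
      rcases h x hx with e | e <;> rw [e]
      · exact one_mem _
      · exact mem_zpowers _
    have := Subgroup.card_le_of_le hle
    rw [S.card_Q, Nat.card_zpowers, S.hz] at this
    omega
  have h16 := S.card_cent_Q hx hxz
  by_contra hne
  push Not at hne
  have hsq : ∀ w ∈ S.Q, ¬ S.Zp w → w * w = S.z := fun w hw hwz =>
    (S.sq_zp hw).resolve_left fun e => hwz (hne w hw e)
  -- everything commuting with `x` lies in `⟨x⟩`
  have hle : S.Q ⊓ centralizer ({x} : Set G) ≤ zpowers x := by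
    rintro w ⟨hw, hwx⟩
    have hwx' : w * x = x * w := mem_cent.mp hwx
    have hxx : x * x = S.z := hsq x hx hxz
    have hzx : S.z ∈ zpowers x := hxx ▸ mul_mem (mem_zpowers x) (mem_zpowers x)
    by_cases hwz : S.Zp w
    · rcases hwz with e | e <;> rw [e]
      · exact one_mem _
      · exact hzx
    have h2 : w * x * (w * x) = 1 := by
      calc w * x * (w * x) = w * (x * w) * x := by group
        _ = w * w * (x * x) := by rw [← hwx']; group
        _ = 1 := by rw [hsq w hw hwz, hxx, S.zz]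
    have h3 := hne (w * x) (mul_mem hw hx) h2
    have e : w = w * x * x⁻¹ := by group
    rw [e]
    refine mul_mem ?_ (inv_mem (mem_zpowers x))
    rcases h3 with k | k <;> rw [k]
    · exact one_mem _
    · exact hzx
  have h4 : Nat.card ↥(zpowers x) ≤ 4 := by
    rw [Nat.card_zpowers]
    refine orderOf_le_of_pow_eq_one (by norm_num) ?_
    rw [show (4 : ℕ) = 2 * 2 from rfl, pow_mul, pow_two, pow_two, hsq x hx hxz, S.zz]
  have := Subgroup.card_le_of_le hle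
  omega

end Frame

end Cfsg.Agent.J3Order
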