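import Cfsg.Agent.Lib.J3Order.Rank
import Cfsg.Agent.Lib.Transfer.Burnside

/-!
One class of involutions: elements of order three and five with even centralisers are fused, and the
odd core `O` of the centraliser of an element `y` of order five of `C` has order `5 a b` with
`a, b ∈ {1, 3, 5}` the orders of the fixed subgroups of two involutions inverting `y`.
-/

set_option autoImplicit false
set_option linter.style.haveILetI false
set_option linter.unusedSectionVars false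

namespace Cfsg.Agent.J3Order

open Subgroup HallJankoType
open Cfsg.Agent.JankoOrder (inv_iff_orderOf)

universe u

local notation "A5" => alternatingGroup (Fin 5)
local notation "Inv" => JankoOrder.Inv

theorem exists_conj_mem_zpowers {H : Type*} [Group H] [Finite H] {p : ℕ} [Fact p.Prime]
    (hp : ¬ p ^ 2 ∣ Nat.card H) {w y : H} (hw : orderOf w = p) (hy : orderOf y = p) :
    ∃ h : H, h * w * h⁻¹ ∈ zpowers y := by
  have hc : ∀ x : H, orderOf x = p → ∃ P : Sylow p H, (P : Subgroup H) = zpowers x := by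
    intro x hx
    obtain ⟨P, hP⟩ := (IsPGroup.of_card (n := 1) (G := zpowers x)
      (by rw [Nat.card_zpowers, hx, pow_one])).exists_le_sylow
    obtain ⟨n, hn⟩ := IsPGroup.iff_card.mp P.isPGroup'
    refine ⟨P, (eq_of_le_of_card_ge hP ?_).symm⟩
    have hn1 : n ≤ 1 := by
      by_contra h
      exact hp ((pow_dvd_pow p (show 2 ≤ n by omega)).trans (hn ▸ card_subgroup_dvd_card _))
    rw [hn, Nat.card_zpowers, hx]
    exact (Nat.pow_le_pow_right (Fact.out : p.Prime).pos hn1).trans (by rw [pow_one])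
  obtain ⟨P, hP⟩ := hc w hw
  obtain ⟨R, hR⟩ := hc y hy
  obtain ⟨h, hh⟩ := MulAction.exists_smul_eq H P R
  refine ⟨h, ?_⟩
  rw [← hR, ← hh, Sylow.coe_subgroup_smul]
  exact Subgroup.smul_mem_pointwise_smul w (MulAut.conj h) _ (hP.symm ▸ mem_zpowers w)

/-- A fixed-point-free involutory automorphism inverts. -/
theorem inverts_of_fpf {G : Type*} [Group G] [Finite G] {z : G} (hz : z * z = 1) {M : Subgroup G}
    (hM : ∀ g ∈ M, z * g * z ∈ M) (hfix : ∀ g ∈ M, z * g = g * z → g = 1) :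
    (∀ g ∈ M, z * g * z = g⁻¹) ∧ ∀ g ∈ M, ∀ h ∈ M, g * h = h * g := by
  have hz' : z⁻¹ = z := inv_eq_of_mul_eq_one_right hz
  let f : M → M := fun g => ⟨(g : G)⁻¹ * (z * g * z), mul_mem (inv_mem g.2) (hM g g.2)⟩
  have hinj : Function.Injective f := by
    intro g h e
    have e' : (g : G)⁻¹ * (z * g * z) = (h : G)⁻¹ * (z * h * z) := congrArg Subtype.val e
    have hfix' : z * ((h : G) * (g : G)⁻¹) = (h : G) * (g : G)⁻¹ * z := by
      calc z * ((h : G) * (g : G)⁻¹) = (z * h * z) * (z * g * z)⁻¹ * z := by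
            rw [mul_inv_rev, mul_inv_rev, hz']; simp [mul_assoc, hz, ← mul_assoc z z]
        _ = (h : G) * ((g : G)⁻¹ * (z * g * z)) * (z * g * z)⁻¹ * z := by rw [e']; group
        _ = (h : G) * (g : G)⁻¹ * z := by group
    have := hfix _ (mul_mem h.2 (inv_mem g.2)) hfix'
    exact Subtype.ext (mul_inv_eq_one.mp this).symm
  have hsurj := Finite.surjective_of_injective hinj
  have hinv : ∀ g ∈ M, z * g * z = g⁻¹ := by
    intro g hg
    obtain ⟨h, hh⟩ := hsurj ⟨g, hg⟩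
    have e : (h : G)⁻¹ * (z * h * z) = g := congrArg Subtype.val hh
    rw [← e, mul_inv_rev, mul_inv_rev, mul_inv_rev, hz', inv_inv]
    calc z * ((h : G)⁻¹ * (z * h * z)) * z = z * (h : G)⁻¹ * z * h * (z * z) := by group
      _ = z * ((h : G)⁻¹ * z) * h := by rw [hz]; group
  refine ⟨hinv, fun g hg h hh => inv_injective ?_⟩
  calc (g * h)⁻¹ = z * (g * h) * z := (hinv _ (mul_mem hg hh)).symm
    _ = (z * g * z) * (z * h * z) := by simp [mul_assoc, ← mul_assoc z z, hz]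
    _ = g⁻¹ * h⁻¹ := by rw [hinv g hg, hinv h hh]
    _ = (h * g)⁻¹ := (mul_inv_rev h g).symm

variable {G : Type u} [Group G] [Finite G] (S : One G)

namespace One

theorem isConj {i : G} (hi : Inv i) : IsConj S.z i := S.one i hi.1 hi.2

include S in
theorem card_cent_inv {i : G} (hi : Inv i) : Nat.card ↥(centralizer ({i} : Set G)) = 1920 := by
  obtain ⟨g, rfl⟩ := isConj_iff.mp (S.isConj hi)
  rw [← S.card_C]
  refine (Nat.card_congr (Equiv.subtypeEquiv (MulAut.conj g).toEquiv fun x => ?_)).symm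
  show x ∈ centralizer ({S.z} : Set G) ↔ g * x * g⁻¹ ∈ centralizer ({g * S.z * g⁻¹} : Set G)
  rw [mem_cent, mem_cent]
  refine ⟨fun h => by rw [show g * x * g⁻¹ * (g * S.z * g⁻¹) = g * (x * S.z) * g⁻¹ by group, h]; group,
    fun h => ?_⟩
  calc x * S.z = g⁻¹ * (g * x * g⁻¹ * (g * S.z * g⁻¹)) * g := by group
    _ = S.z * x := by rw [h]; group

include S in
theorem conj_into_C {w i : G} (hi : Inv i) (hc : w * i = i * w) :
    ∃ g : G, g * i * g⁻¹ = S.z ∧ g * w * g⁻¹ ∈ S.C := by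
  obtain ⟨g, hg⟩ := isConj_iff.mp (S.isConj hi).symm
  refine ⟨g, hg, mem_cent.mpr ?_⟩
  rw [← hg]
  calc g * w * g⁻¹ * (g * i * g⁻¹) = g * (w * i) * g⁻¹ := by group
    _ = g * (i * w) * g⁻¹ := by rw [hc]
    _ = g * i * g⁻¹ * (g * w * g⁻¹) := by group

include S in
/-- Elements of prime order `p ∈ {3, 5}` commuting with involutions are fused up to powers. -/
theorem even_conj {p : ℕ} (hp : p = 3 ∨ p = 5) {w i : G} (hw : orderOf w = p) (hi : Inv i)
    (hc : w * i = i * w) {y : G} (hy : y ∈ S.C) (hyp : orderOf y = p) :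
    ∃ g : G, g * w * g⁻¹ ∈ zpowers y := by
  haveI : Fact p.Prime := ⟨by rcases hp with rfl | rfl <;> decide⟩
  obtain ⟨g, -, hg⟩ := S.conj_into_C hi hc
  obtain ⟨⟨c, hcC⟩, hc'⟩ := exists_conj_mem_zpowers (H := ↥S.C) (p := p)
    (by rw [S.card_C]; rcases hp with rfl | rfl <;> norm_num)
    (w := ⟨g * w * g⁻¹, hg⟩) (y := ⟨y, hy⟩)
    (by rw [Subgroup.orderOf_mk, ← MulAut.conj_apply, MulEquiv.orderOf_eq, hw])
    (by rw [Subgroup.orderOf_mk, hyp])
  obtain ⟨k, hk⟩ := mem_zpowers_iff.mp hc'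
  refine ⟨c * g, mem_zpowers_iff.mpr ⟨k, ?_⟩⟩
  have e := congrArg (fun t : ↥S.C => (t : G)) hk
  simp only [SubgroupClass.coe_zpow, Subgroup.coe_mul, Subgroup.coe_inv] at e
  rw [e]; group

include S in
/-- An odd abelian group centralising an involution has order one, three or five. -/
theorem card_odd_abelian {i : G} (hi : Inv i) {A : Subgroup G} (hA : A ≤ centralizer ({i} : Set G))
    (hodd : Odd (Nat.card A)) (hab : ∀ g ∈ A, ∀ h ∈ A, g * h = h * g) :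
    Nat.card A = 1 ∨ Nat.card A = 3 ∨ Nat.card A = 5 := by
  obtain ⟨g, hg⟩ := isConj_iff.mp (S.isConj hi).symm
  have hm : ∀ x ∈ A, g * x * g⁻¹ ∈ S.C := fun x hx => mem_cent.mpr (by
    rw [← hg]
    calc g * x * g⁻¹ * (g * i * g⁻¹) = g * (x * i) * g⁻¹ := by group
      _ = g * (i * x) * g⁻¹ := by rw [mem_cent.mp (hA hx)]
      _ = g * i * g⁻¹ * (g * x * g⁻¹) := by group)
  let f : A →* A5 := MonoidHom.mk' (fun x => S.ψ ⟨g * x * g⁻¹, hm x x.2⟩) fun x y => by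
    rw [← S.ψ_mul]
    congr 1
    exact Subtype.ext (by push_cast; group)
  have hinj : Function.Injective f := (injective_iff_map_eq_one f).mpr fun x hx => by
    have hQ : g * x * g⁻¹ ∈ S.Q := (S.mem_Q_iff (hm x x.2)).mpr hx
    have h1 : orderOf (x : G) ∣ 32 := by
      have := Subgroup.orderOf_dvd_natCard _ hQ
      rwa [← MulAut.conj_apply, MulEquiv.orderOf_eq, S.card_Q] at this
    have h2 : orderOf (x : G) ∣ Nat.card A := Subgroup.orderOf_dvd_natCard _ x.2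
    have hco : Nat.Coprime 32 (Nat.card A) := by
      rw [show 32 = 2 ^ 5 by norm_num]
      exact (Nat.coprime_two_left.mpr hodd).pow_left 5
    exact Subtype.ext (orderOf_eq_one_iff.mp (Nat.eq_one_of_dvd_coprimes hco h1 h2))
  have h60 : Nat.card A ∣ 60 := by
    rw [Nat.card_congr (MonoidHom.ofInjective hinj).toEquiv, ← five_card]
    exact card_subgroup_dvd_card _
  have hle : Nat.card A ≤ 60 := Nat.le_of_dvd (by norm_num) h60
  have h15 : Nat.card A ≠ 15 := fun h => by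
    haveI : Fact (Nat.Prime 5) := ⟨by decide⟩
    haveI : Fact (Nat.Prime 3) := ⟨by decide⟩
    obtain ⟨r, hr⟩ := exists_prime_orderOf_dvd_card' (G := A) 5 (by rw [h]; norm_num)
    obtain ⟨w, hw⟩ := exists_prime_orderOf_dvd_card' (G := A) 3 (by rw [h]; norm_num)
    have hr' : orderOf (f r) = 5 := by rw [orderOf_injective f hinj, hr]
    have hw' : orderOf (f w) = 3 := by rw [orderOf_injective f hinj, hw]
    have h5 := five_cent_five (f r) ⟨orderOf_dvd_iff_pow_eq_one.mp (by rw [hr']),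
      fun e => by rw [e, orderOf_one] at hr'; omega⟩
    have hcard : Nat.card ↥(centralizer ({f r} : Set A5)) = 5 := by
      exact (Nat.card_congr (Equiv.subtypeEquivRight fun x => mem_cent)).trans
        (Nat.card_eq_fintype_card.trans h5)
    have := Subgroup.orderOf_dvd_natCard (centralizer ({f r} : Set A5)) (x := f w) (mem_cent.mpr (by
      rw [← map_mul, ← map_mul]; exact congrArg f (Subtype.ext (hab _ w.2 _ r.2))))
    rw [hw', hcard] at this
    norm_num at this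
  obtain ⟨j, hj⟩ := hodd
  have : Nat.card A ∈ Nat.divisors 60 := Nat.mem_divisors.mpr ⟨h60, by norm_num⟩
  rw [show Nat.divisors 60 = {1, 2, 3, 4, 5, 6, 10, 12, 15, 20, 30, 60} by decide] at this
  simp only [Finset.mem_insert, Finset.mem_singleton] at this
  omega

/-- An element of order five of `C` inverted by an involution outside `Q`. -/
theorem exists_five_inverted [IsSimpleGroup G] :
    ∃ y s : G, y ∈ S.C ∧ orderOf y = 5 ∧ S.Outside s ∧ s * y * s⁻¹ = y⁻¹ := by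
  obtain ⟨a, ha⟩ := exists_outside S.toFrame S.one
  obtain ⟨x, hx5, hx1⟩ := five_inv_product _ ha.ψ_inv
  obtain ⟨⟨c, hc⟩, rfl⟩ := S.ψ_surj x
  have hb := ha.conj S.toFrame hc
  set h := a * (c * a * c⁻¹) with hh
  have hhC : h ∈ S.C := mul_mem ha.mem hb.mem
  have hψh : orderOf (S.ψ ⟨h, hhC⟩) = 5 := by
    haveI : Fact (Nat.Prime 5) := ⟨by decide⟩
    have e : S.ψ ⟨h, hhC⟩ = S.ψ ⟨a, ha.mem⟩ * (S.ψ ⟨c, hc⟩ * S.ψ ⟨a, ha.mem⟩ * (S.ψ ⟨c, hc⟩)⁻¹) := by
      rw [← map_inv, ← map_mul, ← map_mul, ← map_mul]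
      rfl
    rw [e]
    exact orderOf_eq_prime hx5 hx1
  have hdvd : 5 ∣ orderOf h := by
    rw [← hψh, ← Subgroup.orderOf_mk h hhC]
    exact orderOf_map_dvd S.ψ _
  refine ⟨h ^ (orderOf h / 5), a, pow_mem hhC _, orderOf_pow_orderOf_div (orderOf_pos h).ne' hdvd, ha, ?_⟩
  have hinv : a * h * a⁻¹ = h⁻¹ := by
    rw [hh, mul_inv_rev, hb.inv_eq, ← mul_assoc a a, ha.sq, one_mul, ha.inv_eq]
  rw [← conj_pow, hinv, inv_pow]

end One

/-- An element of order five of `C` and an involution inverting it. -/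
structure Five (S : One G) where
  y : G
  s : G
  mem : y ∈ S.C
  hy : orderOf y = 5
  hs : S.Outside s
  inv : s * y * s⁻¹ = y⁻¹

namespace Five

variable {S} (F : Five S)

/-- The centralizer of `y`. -/
abbrev L : Subgroup G := centralizer ({F.y} : Set G)

theorem y_comm_z : F.y * S.z = S.z * F.y := mem_cent.mp F.mem
theorem z_mem_L : S.z ∈ F.L := mem_cent.mpr F.y_comm_z.symm
theorem y_mem_L : F.y ∈ F.L := mem_cent.mpr rfl
theorem s_comm_z : F.s * S.z = S.z * F.s := mem_cent.mp F.hs.mem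

/-- The second inverting involution. -/
abbrev s' : G := F.s * S.z

theorem s'_inv : Inv F.s' := by
  refine ⟨?_, fun h => F.hs.notMem ?_⟩
  · show F.s * S.z * (F.s * S.z) = 1
    rw [mul_assoc, ← mul_assoc S.z, ← F.s_comm_z, mul_assoc, S.zz, mul_one, F.hs.sq]
  · rw [eq_inv_of_mul_eq_one_left h, inv_of_sq S.zz]
    exact S.z_mem_Q

theorem s'_conj_y : F.s' * F.y * F.s'⁻¹ = F.y⁻¹ := by
  show F.s * S.z * F.y * (F.s * S.z)⁻¹ = _
  rw [mul_inv_rev, mul_assoc F.s, ← F.y_comm_z, show F.s * (F.y * S.z) * (S.z⁻¹ * F.s⁻¹) =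
    F.s * F.y * F.s⁻¹ by group, F.inv]

theorem card_L_inf_C : Nat.card ↥(S.C ⊓ F.L : Subgroup G) = 10 :=
  S.card_cent_five F.mem F.hy

theorem sylow_two_L (P : Sylow 2 ↥F.L) : Nat.card (P : Subgroup ↥F.L) = 2 := by
  haveI : Fact (Nat.Prime 2) := ⟨Nat.prime_two⟩
  let zL : ↥F.L := ⟨S.z, F.z_mem_L⟩
  have hz2 : orderOf zL = 2 := by rw [← Subgroup.orderOf_coe]; exact S.hz
  obtain ⟨R, hR⟩ := (IsPGroup.of_card (n := 1) (G := zpowers zL)
    (by rw [Nat.card_zpowers, hz2, pow_one])).exists_le_sylow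
  rw [Sylow.card_eq_multiplicity, ← Sylow.card_eq_multiplicity R]
  by_contra hne
  have hlt : (zpowers zL).subgroupOf R < ⊤ := by
    refine lt_top_iff_ne_top.mpr fun h => hne ?_
    rw [le_antisymm (Subgroup.subgroupOf_eq_top.mp h) hR, Nat.card_zpowers, hz2]
  haveI : Group.IsNilpotent (R : Subgroup ↥F.L) := R.isPGroup'.isNilpotent
  obtain ⟨n, hnN, hnz⟩ :=
    SetLike.exists_of_lt (Group.normalizerCondition_of_isNilpotent _ hlt)
  -- `n` centralises `z`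
  have hn : (n : ↥F.L) * zL * (n : ↥F.L)⁻¹ = zL := by
    have h := Subgroup.mem_subgroupOf.mp ((Subgroup.mem_normalizer_iff.mp hnN ⟨zL, hR (mem_zpowers zL)⟩).mp
      (Subgroup.mem_subgroupOf.mpr (mem_zpowers zL)))
    obtain ⟨k, hk⟩ := mem_zpowers_iff.mp h
    have hk' : zL ^ k = (n : ↥F.L) * zL * (n : ↥F.L)⁻¹ := hk
    rcases Int.even_or_odd k with ⟨j, rfl⟩ | ⟨j, rfl⟩
    · exfalso
      rw [← two_mul, zpow_mul, show zL ^ (2 : ℤ) = 1 from orderOf_dvd_iff_zpow_eq_one.mp (by rw [hz2]; norm_num),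
        one_zpow] at hk'
      have e := conj_eq_one_iff.mp hk'.symm
      rw [e, orderOf_one] at hz2
      omega
    · rw [zpow_add_one, zpow_mul, show zL ^ (2 : ℤ) = 1 from orderOf_dvd_iff_zpow_eq_one.mp (by rw [hz2]; norm_num),
        one_zpow, one_mul] at hk'
      exact hk'.symm
  let T : Subgroup ↥F.L := zpowers zL ⊔ zpowers (n : ↥F.L)
  have hT : T ≤ (R : Subgroup ↥F.L) := sup_le hR (zpowers_le.mpr n.2)
  have hTC : T.map F.L.subtype ≤ S.C ⊓ F.L := by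
    rintro _ ⟨t, ht, rfl⟩
    refine ⟨?_, t.2⟩
    have : T ≤ S.C.subgroupOf F.L := sup_le (zpowers_le.mpr (mem_subgroupOf.mpr (mem_cent.mpr rfl)))
      (zpowers_le.mpr (mem_subgroupOf.mpr (mem_cent.mpr
        (congrArg Subtype.val (mul_inv_eq_iff_eq_mul.mp hn :)))))
    exact mem_subgroupOf.mp (this ht)
  obtain ⟨k, hk⟩ := IsPGroup.iff_card.mp (R.isPGroup'.to_le hT)
  have hd : Nat.card T ∣ 10 := by
    rw [← Subgroup.card_map_of_injective F.L.subtype_injective (K := T), ← F.card_L_inf_C]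
    exact card_dvd_of_le hTC
  have hk1 : k ≤ 1 := by
    by_contra h
    have : 2 ^ 2 ∣ 10 := (pow_dvd_pow 2 (show 2 ≤ k by omega)).trans (hk ▸ hd)
    norm_num at this
  have hle : zpowers zL = T := eq_of_le_of_card_ge le_sup_left (by
    rw [hk, Nat.card_zpowers, hz2]
    exact (Nat.pow_le_pow_right (by norm_num) hk1))
  exact hnz (mem_subgroupOf.mpr (hle ▸ (le_sup_right : zpowers (n : ↥F.L) ≤ T) (mem_zpowers _)))

theorem exists_core : ∃ O : Subgroup G, O ≤ F.L ∧ Nat.card ↥F.L = 2 * Nat.card O ∧ Odd (Nat.card O) ∧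
    ∀ g ∈ F.L, (g ∈ O ↔ Odd (orderOf g)) := by
  haveI : Fact (Nat.Prime 2) := ⟨Nat.prime_two⟩
  obtain ⟨P⟩ := (inferInstance : Nonempty (Sylow 2 ↥F.L))
  have h2 := F.sylow_two_L P
  have hnc : normalizer (P : Set ↥F.L) ≤ centralizer (P : Set ↥F.L) := by
    intro n hn
    refine mem_centralizer_iff.mpr fun p hp => ?_
    obtain ⟨a, b, -, hu⟩ := Nat.card_eq_two_iff.mp h2
    have hall : ∀ w : (P : Subgroup ↥F.L), w = a ∨ w = b := fun w => by
      have : w ∈ ({a, b} : Set (P : Subgroup ↥F.L)) := hu ▸ Set.mem_univ w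
      simpa using this
    by_cases hp1 : p = 1
    · rw [hp1, one_mul, mul_one]
    have hq : n * p * n⁻¹ ∈ (P : Subgroup ↥F.L) := (mem_normalizer_iff.mp hn p).mp hp
    have hne : n * p * n⁻¹ ≠ 1 := fun h => hp1 (conj_eq_one_iff.mp h)
    have e : n * p * n⁻¹ = p := by
      rcases hall 1 with k1 | k1 <;> rcases hall ⟨p, hp⟩ with k2 | k2 <;> rcases hall ⟨_, hq⟩ with k3 | k3 <;>
        first
          | exact congrArg Subtype.val (k3.trans k2.symm)
          | exact absurd (congrArg Subtype.val (k2.trans k1.symm)) hp1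
          | exact absurd (congrArg Subtype.val (k3.trans k1.symm)) hne
    exact (mul_inv_eq_iff_eq_mul.mp e).symm
  obtain ⟨R, N, hN, hcomp⟩ := Transfer.hasNormalPComplement_of_normalizer_le_centralizer P hnc
  haveI := hN
  have hR : Nat.card (R : Subgroup ↥F.L) = 2 := F.sylow_two_L R
  have hidx : N.index = 2 := by rw [hcomp.symm.index_eq_card, hR]
  have hodd : Odd (Nat.card N) := by
    rw [← Nat.not_even_iff_odd, even_iff_two_dvd]
    intro h
    have := hcomp.card_mul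
    have h4 : 2 ^ 2 ∣ Nat.card ↥F.L := by rw [← this, hR, pow_two]; exact Nat.mul_dvd_mul h dvd_rfl
    have h5 := R.pow_dvd_card_of_pow_dvd_card h4
    rw [hR] at h5
    norm_num at h5
  refine ⟨N.map F.L.subtype, map_subtype_le N, ?_, ?_, fun g hg => ⟨fun h => ?_, fun h => ?_⟩⟩
  · rw [Subgroup.card_map_of_injective F.L.subtype_injective, mul_comm, ← hidx, N.card_mul_index]
  · rwa [Subgroup.card_map_of_injective F.L.subtype_injective]
  · refine Odd.of_dvd_nat ?_ (Subgroup.orderOf_dvd_natCard _ h)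
    rwa [Subgroup.card_map_of_injective F.L.subtype_injective]
  · refine ⟨⟨g, hg⟩, ?_, rfl⟩
    obtain ⟨j, hj⟩ := h
    have hsq : (⟨g, hg⟩ : ↥F.L) * ⟨g, hg⟩ ∈ N := mul_self_mem_of_index_two hidx _
    have e : (⟨g, hg⟩ : ↥F.L) = (⟨g, hg⟩ * ⟨g, hg⟩) ^ (j + 1) := by
      rw [← pow_two, ← pow_mul, show 2 * (j + 1) = orderOf g + 1 by omega, pow_succ]
      have : (⟨g, hg⟩ : ↥F.L) ^ orderOf g = 1 := Subtype.ext (by simp [pow_orderOf_eq_one])
      rw [this, one_mul]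
    show (⟨g, hg⟩ : ↥F.L) ∈ N
    rw [e]
    exact pow_mem hsq _

/-- The odd core of `L`. -/
noncomputable def O : Subgroup G := F.exists_core.choose

theorem O_le : F.O ≤ F.L := F.exists_core.choose_spec.1
theorem card_L : Nat.card ↥F.L = 2 * Nat.card F.O := F.exists_core.choose_spec.2.1
theorem odd_O : Odd (Nat.card F.O) := F.exists_core.choose_spec.2.2.1

theorem mem_O {g : G} : g ∈ F.O ↔ g * F.y = F.y * g ∧ Odd (orderOf g) :=
  ⟨fun h => ⟨mem_cent.mp (F.O_le h), (F.exists_core.choose_spec.2.2.2 g (F.O_le h)).mp h⟩,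
    fun h => (F.exists_core.choose_spec.2.2.2 g (mem_cent.mpr h.1)).mpr h.2⟩

theorem y_mem_O : F.y ∈ F.O := F.mem_O.mpr ⟨rfl, by rw [F.hy]; decide⟩

theorem y_central {g : G} (hg : g ∈ F.O) : g * F.y = F.y * g := (F.mem_O.mp hg).1

/-- `O` is invariant under elements sending `y` to a power of itself. -/
theorem conj_O {c g : G} (hc : c * F.y * c⁻¹ ∈ zpowers F.y) (hg : g ∈ F.O) : c * g * c⁻¹ ∈ F.O := by
  obtain ⟨h1, h2⟩ := F.mem_O.mp hg
  refine F.mem_O.mpr ⟨?_, by rwa [← MulAut.conj_apply, MulEquiv.orderOf_eq]⟩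
  -- `y` is a power of its image
  have hle : zpowers (c * F.y * c⁻¹) = zpowers F.y := eq_of_le_of_card_ge (zpowers_le.mpr hc) (by
    rw [Nat.card_zpowers, Nat.card_zpowers, ← MulAut.conj_apply, MulEquiv.orderOf_eq])
  obtain ⟨k, hk⟩ := mem_zpowers_iff.mp (hle.symm ▸ mem_zpowers F.y : F.y ∈ zpowers (c * F.y * c⁻¹))
  rw [← hk, conj_zpow]
  have : Commute g (F.y ^ k) := (show Commute g F.y from h1).zpow_right k
  calc c * g * c⁻¹ * (c * F.y ^ k * c⁻¹) = c * (g * F.y ^ k) * c⁻¹ := by group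
    _ = c * (F.y ^ k * g) * c⁻¹ := by rw [this.eq]
    _ = c * F.y ^ k * c⁻¹ * (c * g * c⁻¹) := by group

theorem z_conj_O {g : G} (hg : g ∈ F.O) : S.z * g * S.z ∈ F.O := by
  have h := F.conj_O (c := S.z) (g := g) (by
    rw [← F.y_comm_z, mul_inv_cancel_right]; exact mem_zpowers _) hg
  rwa [inv_of_sq S.zz] at h

theorem s_conj_O {g : G} (hg : g ∈ F.O) : F.s * g * F.s ∈ F.O := by
  have h := F.conj_O (c := F.s) (g := g) (by rw [F.inv]; exact inv_mem (mem_zpowers _)) hg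
  rwa [F.hs.inv_eq] at h

theorem fixed_z {g : G} (hg : g ∈ F.O) (h : S.z * g = g * S.z) : g ∈ zpowers F.y := by
  have hmem : g ∈ (S.C ⊓ F.L : Subgroup G) := ⟨mem_cent.mpr h.symm, F.O_le hg⟩
  have hy : zpowers F.y ≤ (S.C ⊓ F.L : Subgroup G) ⊓ F.O :=
    zpowers_le.mpr ⟨⟨F.mem, F.y_mem_L⟩, F.y_mem_O⟩
  have hd : Nat.card ↥((S.C ⊓ F.L : Subgroup G) ⊓ F.O : Subgroup G) ∣ 10 :=
    F.card_L_inf_C ▸ card_dvd_of_le inf_le_left
  have hodd : Odd (Nat.card ↥((S.C ⊓ F.L : Subgroup G) ⊓ F.O : Subgroup G)) :=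
    F.odd_O.of_dvd_nat (card_dvd_of_le inf_le_right)
  have h5 : Nat.card ↥((S.C ⊓ F.L : Subgroup G) ⊓ F.O : Subgroup G) ∣ 5 := by
    refine (Nat.Coprime.dvd_mul_left ?_).mp (show _ ∣ 2 * 5 from hd)
    exact Nat.coprime_two_right.mpr hodd
  rw [eq_of_le_of_card_ge hy (by rw [Nat.card_zpowers, F.hy]; exact Nat.le_of_dvd (by norm_num) h5)]
  exact ⟨hmem, hg⟩

theorem y_pow_comm_z {c : G} (hc : c ∈ zpowers F.y) : c * S.z = S.z * c :=
  mem_cent.mp ((zpowers_le.mpr F.mem) hc)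

/-- The part of `O` fixed by `s`. -/
noncomputable abbrev M₁ : Subgroup G := F.O ⊓ centralizer ({F.s} : Set G)
/-- The part of `O` fixed by `s z`. -/
noncomputable abbrev M₂ : Subgroup G := F.O ⊓ centralizer ({F.s'} : Set G)

theorem inv_eq_self {i c : G} (hi : i * c * i⁻¹ = c⁻¹) (hc : c * i = i * c) : c * c = 1 := by
  rw [← hc, mul_inv_cancel_right] at hi
  nth_rw 1 [hi]
  exact inv_mul_cancel c

theorem zpow_inverted {i : G} (hi : i * F.y * i⁻¹ = F.y⁻¹) {c : G} (hc : c ∈ zpowers F.y) :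
    i * c * i⁻¹ = c⁻¹ := by
  obtain ⟨k, rfl⟩ := mem_zpowers_iff.mp hc
  rw [← conj_zpow, hi, inv_zpow]

theorem y_pow_odd {c : G} (hc : c ∈ zpowers F.y) (h2 : c * c = 1) : c = 1 := by
  have h1 : orderOf c ∣ 5 := by
    have := orderOf_dvd_natCard (⟨c, hc⟩ : zpowers F.y)
    rwa [Nat.card_zpowers, F.hy, ← Subgroup.orderOf_coe] at this
  have h2' : orderOf c ∣ 2 := orderOf_dvd_of_pow_eq_one (by rw [pow_two]; exact h2)
  exact orderOf_eq_one_iff.mp (Nat.eq_one_of_dvd_coprimes (by norm_num) h1 h2')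

theorem inv_M {i : G} (hiz : i * S.z = S.z * i) (hi : i * F.y * i⁻¹ = F.y⁻¹) :
    (∀ g ∈ F.O ⊓ centralizer ({i} : Set G), S.z * g * S.z = g⁻¹) ∧
      ∀ g ∈ F.O ⊓ centralizer ({i} : Set G), ∀ h ∈ F.O ⊓ centralizer ({i} : Set G), g * h = h * g := by
  refine inverts_of_fpf S.zz (fun g hg => ⟨F.z_conj_O hg.1, mem_cent.mpr ?_⟩) fun g hg hgz => ?_
  · have hgi := mem_cent.mp hg.2
    calc S.z * g * S.z * i = S.z * g * (S.z * i) := mul_assoc _ _ _
      _ = S.z * (g * i) * S.z := by rw [← hiz]; group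
      _ = S.z * i * (g * S.z) := by rw [hgi]; group
      _ = i * (S.z * g * S.z) := by rw [← hiz]; group
  · exact F.y_pow_odd (F.fixed_z hg.1 hgz)
      (inv_eq_self (F.zpow_inverted hi (F.fixed_z hg.1 hgz)) (mem_cent.mp hg.2))

theorem s'_comm_z : F.s' * S.z = S.z * F.s' := by
  show F.s * S.z * S.z = S.z * (F.s * S.z)
  rw [← mul_assoc, F.s_comm_z]

theorem card_M₁ : Nat.card F.M₁ = 1 ∨ Nat.card F.M₁ = 3 ∨ Nat.card F.M₁ = 5 :=
  S.card_odd_abelian (Frame.Outside.isInv S.toFrame F.hs) inf_le_right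
    (F.odd_O.of_dvd_nat (card_dvd_of_le inf_le_left)) (F.inv_M F.s_comm_z F.inv).2

theorem card_M₂ : Nat.card F.M₂ = 1 ∨ Nat.card F.M₂ = 3 ∨ Nat.card F.M₂ = 5 :=
  S.card_odd_abelian F.s'_inv inf_le_right
    (F.odd_O.of_dvd_nat (card_dvd_of_le inf_le_left)) (F.inv_M F.s'_comm_z F.s'_conj_y).2

theorem half_zpowers {d : G} (hd : d ∈ zpowers F.y) : ∃ c ∈ zpowers F.y, c * c = d := by
  have h : d ^ 6 = d := by
    have h5 : d ^ 5 = 1 := by
      have := pow_card_eq_one' (x := (⟨d, hd⟩ : zpowers F.y))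
      rw [Nat.card_zpowers, F.hy] at this
      exact congrArg Subtype.val this
    rw [pow_succ, h5, one_mul]
  exact ⟨d ^ 3, pow_mem hd 3, by rw [← pow_add]; exact h⟩

theorem y_pow_central {c g : G} (hc : c ∈ zpowers F.y) (hg : g ∈ F.O) : g * c = c * g := by
  obtain ⟨k, rfl⟩ := mem_zpowers_iff.mp hc
  exact ((show Commute g F.y from F.y_central hg).zpow_right k).eq

/-- `g^z = g⁻¹` modulo `⟨y⟩` on `O`. -/
theorem z_inverts_mod {g : G} (hg : g ∈ F.O) : S.z * g * S.z * g ∈ zpowers F.y := by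
  have hzy : ∀ c ∈ zpowers F.y, S.z * c * S.z = c := fun c hc => by
    rw [← F.y_pow_comm_z hc, mul_assoc, S.zz, mul_one]
  have hcon : ∀ c ∈ zpowers F.y, ∀ a ∈ F.O, a * c * a⁻¹ = c := fun c hc a ha => by
    rw [F.y_pow_central hc ha, mul_inv_cancel_right]
  -- injective modulo `⟨y⟩`
  haveI hn : ((zpowers F.y).subgroupOf F.O).Normal := ⟨fun n hn a => by
    rw [mem_subgroupOf] at hn ⊢
    push_cast
    rw [hcon _ hn _ a.2]
    exact hn⟩
  let θ : F.O →* F.O := MonoidHom.mk' (fun a => ⟨S.z * a * S.z, F.z_conj_O a.2⟩) fun a b => Subtype.ext (by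
    show S.z * (a * b : G) * S.z = S.z * a * S.z * (S.z * b * S.z)
    calc S.z * (a * b : G) * S.z = S.z * a * (S.z * S.z) * b * S.z := by rw [S.zz]; group
      _ = _ := by group)
  let K := (zpowers F.y).subgroupOf F.O
  let θ' : F.O ⧸ K →* F.O ⧸ K := QuotientGroup.map K K θ fun a ha => by
    rw [mem_comap, mem_subgroupOf]
    show S.z * (a : G) * S.z ∈ zpowers F.y
    rw [hzy _ (mem_subgroupOf.mp ha)]
    exact mem_subgroupOf.mp ha
  let f : F.O ⧸ K → F.O ⧸ K := fun a => a⁻¹ * θ' a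
  have hfix : ∀ a, θ' a = a → a = 1 := by
    intro a
    induction a using QuotientGroup.induction_on with
    | _ a =>
      intro h
      rw [QuotientGroup.map_mk, QuotientGroup.eq, mem_subgroupOf] at h
      have h' : (S.z * (a : G) * S.z)⁻¹ * a ∈ zpowers F.y := h
      set d := (S.z * (a : G) * S.z)⁻¹ * a
      have e : S.z * (a : G) * S.z = a * d⁻¹ := by simp only [d]; group
      -- apply `z` twice
      have e2 : (a : G) = a * d⁻¹ * d⁻¹ := by
        calc (a : G) = S.z * (S.z * a * S.z) * S.z := by simp [mul_assoc, ← mul_assoc S.z S.z, S.zz]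
          _ = S.z * (a * d⁻¹) * S.z := by rw [e]
          _ = S.z * a * S.z * (S.z * d⁻¹ * S.z) := by simp [mul_assoc, ← mul_assoc S.z S.z, S.zz]
          _ = _ := by rw [e, hzy _ (inv_mem h')]
      have hd2 : d * d = 1 := by
        rw [mul_assoc] at e2
        have := (mul_eq_left.mp e2.symm)
        rwa [← mul_inv_rev, inv_eq_one] at this
      rw [F.y_pow_odd h' hd2, inv_one, mul_one] at e
      refine (QuotientGroup.eq_one_iff a).mpr (mem_subgroupOf.mpr (F.fixed_z a.2 ?_))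
      calc S.z * a = S.z * a * S.z * S.z := by rw [mul_assoc, S.zz, mul_one]
        _ = a * S.z := by rw [e]
  have hθθ : ∀ a, θ' (θ' a) = a := by
    intro a
    induction a using QuotientGroup.induction_on with
    | _ a =>
      rw [QuotientGroup.map_mk, QuotientGroup.map_mk]
      congr 1
      exact Subtype.ext (show S.z * (S.z * a * S.z) * S.z = (a : G) by
        simp [mul_assoc, ← mul_assoc S.z S.z, S.zz])
  have hinj : Function.Injective f := by
    intro a b e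
    have e' : θ' (b * a⁻¹) = b * a⁻¹ := by
      rw [map_mul, map_inv]
      have e0 : a⁻¹ * θ' a = b⁻¹ * θ' b := e
      have e1 : θ' a = a * (b⁻¹ * θ' b) := by rw [← e0]; group
      rw [e1]; group
    exact (mul_inv_eq_one.mp (hfix _ e')).symm
  obtain ⟨b, hb⟩ := Finite.surjective_of_injective hinj (QuotientGroup.mk ⟨g, hg⟩ : F.O ⧸ K)
  have key : θ' (QuotientGroup.mk ⟨g, hg⟩) * QuotientGroup.mk ⟨g, hg⟩ = 1 := by
    rw [← hb]
    show θ' (b⁻¹ * θ' b) * (b⁻¹ * θ' b) = 1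
    rw [map_mul, map_inv, hθθ]
    group
  rw [QuotientGroup.map_mk, ← QuotientGroup.mk_mul, QuotientGroup.eq_one_iff, mem_subgroupOf] at key
  exact key

/-- Every element of `O` is a product `c m₁ m₂`. -/
theorem decomp {g : G} (hg : g ∈ F.O) :
    ∃ c ∈ zpowers F.y, ∃ m₁ ∈ F.M₁, ∃ m₂ ∈ F.M₂, g = c * m₁ * m₂ := by
  -- squaring is onto
  obtain ⟨k, hk⟩ := F.odd_O
  have hsq : ∃ h ∈ F.O, h * h = g := by
    refine ⟨g ^ (k + 1), pow_mem hg _, ?_⟩
    rw [← pow_add, show k + 1 + (k + 1) = Nat.card F.O + 1 by omega, pow_succ]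
    have := congrArg Subtype.val (pow_card_eq_one' (x := (⟨g, hg⟩ : F.O)))
    rw [SubmonoidClass.coe_pow] at this
    rw [show g ^ Nat.card F.O = 1 from this, one_mul]
  obtain ⟨h, hh, hhg⟩ := hsq
  have hss : ∀ a : G, F.s * (F.s * a * F.s) * F.s = a := fun a => by
    simp [mul_assoc, ← mul_assoc F.s F.s, F.hs.sq]
  have hs'O : ∀ a ∈ F.O, F.s' * a * F.s'⁻¹ ∈ F.O := fun a ha =>
    F.conj_O (by rw [F.s'_conj_y]; exact inv_mem (mem_zpowers _)) ha
  -- the product of `h` with its image, corrected into the fixed group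
  have hpart : ∀ i : G, i * i = 1 → i * F.y * i⁻¹ = F.y⁻¹ → (∀ a ∈ F.O, i * a * i⁻¹ ∈ F.O) →
      ∀ w ∈ F.O, i * w * i⁻¹ * w⁻¹ ∈ zpowers F.y →
      ∃ c ∈ zpowers F.y, w * c ∈ F.O ⊓ centralizer ({i} : Set G) := by
    intro i hi2 hiy hiO w hw hd
    obtain ⟨c, hc, hcc⟩ := F.half_zpowers hd
    refine ⟨c, hc, mul_mem hw ((zpowers_le.mpr F.y_mem_O) hc), mem_cent.mpr (mul_inv_eq_iff_eq_mul.mp ?_).symm⟩
    have e1 : i * c * i⁻¹ = c⁻¹ := F.zpow_inverted hiy hc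
    calc i * (w * c) * i⁻¹ = (i * w * i⁻¹ * w⁻¹) * w * (i * c * i⁻¹) := by group
      _ = c * c * w * c⁻¹ := by rw [e1, hcc]
      _ = c * (c * w) * c⁻¹ := by group
      _ = w * c := by
        rw [← F.y_pow_central hc hw]
        calc c * (w * c) * c⁻¹ = c * w := by group
          _ = w * c := (F.y_pow_central hc hw).symm
  have hmod : ∀ a ∈ F.O, ∀ b ∈ F.O, a * b * a⁻¹ * b⁻¹ ∈ zpowers F.y := by
    -- `z` inverts modulo `⟨y⟩`
    intro a ha b hb
    obtain ⟨p, hp, ea⟩ : ∃ p ∈ zpowers F.y, S.z * a * S.z = p * a⁻¹ :=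
      ⟨_, F.z_inverts_mod ha, by group⟩
    obtain ⟨q, hq, eb⟩ : ∃ q ∈ zpowers F.y, S.z * b * S.z = q * b⁻¹ :=
      ⟨_, F.z_inverts_mod hb, by group⟩
    obtain ⟨r, hr, eab⟩ : ∃ r ∈ zpowers F.y, S.z * (a * b) * S.z = r * (a * b)⁻¹ :=
      ⟨_, F.z_inverts_mod (mul_mem ha hb), by group⟩
    have e : r * (a * b)⁻¹ = p * a⁻¹ * (q * b⁻¹) := by
      rw [← eab, ← ea, ← eb]
      simp [mul_assoc, ← mul_assoc S.z S.z, S.zz]
    have e' : r⁻¹ * p * q = (a * b)⁻¹ * (b * a) := by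
      have h1 : p * a⁻¹ * (q * b⁻¹) = p * q * (a⁻¹ * b⁻¹) := by
        rw [show p * a⁻¹ * (q * b⁻¹) = p * (a⁻¹ * q) * b⁻¹ by group,
          F.y_pow_central hq (inv_mem ha)]
        group
      rw [h1] at e
      calc r⁻¹ * p * q = r⁻¹ * (p * q * (a⁻¹ * b⁻¹)) * (b * a) := by group
        _ = (a * b)⁻¹ * (b * a) := by rw [← e]; group
    have hm : (a * b)⁻¹ * (b * a) ∈ zpowers F.y := e' ▸ mul_mem (mul_mem (inv_mem hr) hp) hq
    set d := (a * b)⁻¹ * (b * a) with hd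
    have e2 : a * b * a⁻¹ * b⁻¹ = a * b * d⁻¹ * (a * b)⁻¹ := by rw [hd]; group
    rw [e2, F.y_pow_central (inv_mem hm) (mul_mem ha hb), mul_inv_cancel_right]
    exact inv_mem hm
  have hs1 : F.s * h * F.s ∈ F.O := F.s_conj_O hh
  have hsi : ∀ a ∈ F.O, F.s * a * F.s⁻¹ ∈ F.O := fun a ha => by rw [F.hs.inv_eq]; exact F.s_conj_O ha
  obtain ⟨c₁, hc₁, hm₁⟩ := hpart F.s F.hs.sq F.inv hsi (h * (F.s * h * F.s)) (mul_mem hh hs1) (by
    have e : F.s * (h * (F.s * h * F.s)) * F.s⁻¹ = F.s * h * F.s * h := by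
      rw [F.hs.inv_eq]
      calc F.s * (h * (F.s * h * F.s)) * F.s = F.s * h * F.s * (h * (F.s * F.s)) := by group
        _ = _ := by rw [F.hs.sq, mul_one]
    rw [e, mul_inv_rev, show F.s * h * F.s * h * ((F.s * h * F.s)⁻¹ * h⁻¹) =
      F.s * h * F.s * h * (F.s * h * F.s)⁻¹ * h⁻¹ by group]
    exact hmod _ hs1 _ hh)
  have hs2 : h * (F.s * h * F.s)⁻¹ ∈ F.O := mul_mem hh (inv_mem hs1)
  obtain ⟨c₂, hc₂, hm₂⟩ := hpart F.s' F.s'_inv.1 F.s'_conj_y hs'O (h * (F.s * h * F.s)⁻¹) hs2 (by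
    set w := h * (F.s * h * F.s)⁻¹ with hw
    obtain ⟨p, hp, ep⟩ : ∃ p ∈ zpowers F.y, S.z * w * S.z = p * w⁻¹ :=
      ⟨_, F.z_inverts_mod hs2, by group⟩
    have hsw : F.s * w * F.s⁻¹ = w⁻¹ := by
      rw [hw, mul_inv_rev (h : G), inv_inv, mul_inv_rev, mul_inv_rev, F.hs.inv_eq]
      simp [mul_assoc, ← mul_assoc F.s F.s, F.hs.sq]
    have e : F.s' * w * F.s'⁻¹ = p⁻¹ * w := by
      calc F.s' * w * F.s'⁻¹ = F.s * (S.z * w * S.z) * F.s⁻¹ := by
            show F.s * S.z * w * (F.s * S.z)⁻¹ = _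
            rw [mul_inv_rev, inv_of_sq S.zz]; group
        _ = (F.s * p * F.s⁻¹) * (F.s * w * F.s⁻¹)⁻¹ := by rw [ep]; group
        _ = p⁻¹ * w := by rw [F.zpow_inverted F.inv hp, hsw, inv_inv]
    rw [e, mul_inv_cancel_right]
    exact inv_mem hp)
  -- recombine
  set σ := F.s * h * F.s with hσ
  have hcm : σ * h * σ⁻¹ * h⁻¹ ∈ zpowers F.y := hmod _ hs1 _ hh
  set d := σ * h * σ⁻¹ * h⁻¹ with hd
  refine ⟨d⁻¹ * (c₁ * c₂)⁻¹, mul_mem (inv_mem hcm) (inv_mem (mul_mem hc₁ hc₂)), _, hm₁, _, hm₂, ?_⟩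
  have e : h * σ * (h * σ⁻¹) = d * (h * h) := by
    calc h * σ * (h * σ⁻¹) = h * d * h := by rw [hd]; group
      _ = d * (h * h) := by rw [F.y_pow_central hcm hh, mul_assoc]
  have k1 : (h * σ⁻¹) * c₁ = c₁ * (h * σ⁻¹) := F.y_pow_central hc₁ hs2
  have k2 : (c₁ * c₂) * d = d * (c₁ * c₂) :=
    (F.y_pow_central (mul_mem hc₁ hc₂) ((zpowers_le.mpr F.y_mem_O) hcm)).symm
  have k3 : h * h * (c₁ * c₂) = c₁ * c₂ * (h * h) :=
    F.y_pow_central (mul_mem hc₁ hc₂) (mul_mem hh hh)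
  calc g = d⁻¹ * (c₁ * c₂)⁻¹ * ((c₁ * c₂) * d * (h * h)) := by rw [← hhg]; group
    _ = d⁻¹ * (c₁ * c₂)⁻¹ * (d * (h * h) * (c₁ * c₂)) := by rw [k2, mul_assoc d, ← k3]; group
    _ = d⁻¹ * (c₁ * c₂)⁻¹ * (h * σ * ((h * σ⁻¹) * c₁) * c₂) := by rw [← e]; group
    _ = d⁻¹ * (c₁ * c₂)⁻¹ * (h * σ * c₁) * (h * σ⁻¹ * c₂) := by rw [k1]; group

theorem M_inter {a : G} (ha₁ : a ∈ F.M₁) {b : G} (hb₂ : b ∈ F.M₂) {c : G} (hc : c ∈ zpowers F.y)
    (h : c * a = b) : c = 1 ∧ a = 1 ∧ b = 1 := by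
  have i1 := (F.inv_M F.s_comm_z F.inv).1 a ha₁
  have i2 := (F.inv_M F.s'_comm_z F.s'_conj_y).1 b hb₂
  have e1 : S.z * b * S.z = c * a⁻¹ := by
    rw [← h]
    calc S.z * (c * a) * S.z = (S.z * c) * a * S.z := by group
      _ = c * (S.z * a * S.z) := by rw [← F.y_pow_comm_z hc]; group
      _ = _ := by rw [i1]
  have hcb : c * a⁻¹ = a⁻¹ * c⁻¹ := by rw [← e1, i2, ← h, mul_inv_rev]
  rw [← F.y_pow_central hc (inv_mem ha₁.1)] at hcb
  have hc1 : c = 1 := F.y_pow_odd hc (mul_eq_one_iff_eq_inv.mpr (mul_left_cancel hcb))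
  rw [hc1, one_mul] at h
  subst h
  have : a * a = 1 := by
    refine mul_eq_one_iff_eq_inv.mpr ?_
    -- `z` commutes with an element fixed by `s` and `s z`
    have hz : S.z * a * S.z = a := by
      have e' : a * (F.s * S.z) = F.s * S.z * a := mem_cent.mp hb₂.2
      have e'' : a * F.s = F.s * a := mem_cent.mp ha₁.2
      rw [← mul_assoc, e'', mul_assoc, mul_assoc] at e'
      rw [← mul_left_cancel e', mul_assoc, S.zz, mul_one]
    exact (hz.symm.trans i1)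
  obtain ⟨k, hk⟩ := F.odd_O
  have hpow : a ^ Nat.card F.O = 1 :=
    congrArg Subtype.val (pow_card_eq_one' (x := (⟨a, ha₁.1⟩ : F.O)))
  rw [hk, pow_succ, pow_mul, pow_two, this, one_pow, one_mul] at hpow
  exact ⟨hc1, hpow, hpow⟩

theorem card_O : Nat.card F.O = 5 * (Nat.card F.M₁ * Nat.card F.M₂) := by
  rw [← F.hy, ← Nat.card_zpowers, ← Nat.card_prod, ← Nat.card_prod]
  refine (Nat.card_eq_of_bijective (fun p : zpowers F.y × (F.M₁ × F.M₂) =>
    (⟨(p.1 : G) * p.2.1 * p.2.2, mul_mem (mul_mem ((zpowers_le.mpr F.y_mem_O) p.1.2) p.2.1.2.1) p.2.2.2.1⟩ : F.O))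
    ⟨?_, ?_⟩).symm
  · rintro ⟨⟨c, hc⟩, ⟨a, ha⟩, ⟨b, hb⟩⟩ ⟨⟨c', hc'⟩, ⟨a', ha'⟩, ⟨b', hb'⟩⟩ e
    have e' : c * a * b = c' * a' * b' := congrArg Subtype.val e
    have k : a' * a⁻¹ * (a * b) = a' * b := by group
    have hcomm : a'⁻¹ * (c'⁻¹ * c) = c'⁻¹ * c * a'⁻¹ :=
      F.y_pow_central (mul_mem (inv_mem hc') hc) (inv_mem ha'.1)
    have e2 : (c'⁻¹ * c) * (a'⁻¹ * a) = b' * b⁻¹ := by
      calc (c'⁻¹ * c) * (a'⁻¹ * a) = (a'⁻¹ * (c'⁻¹ * c)) * a := by rw [hcomm]; group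
        _ = a'⁻¹ * c'⁻¹ * (c * a * b) * b⁻¹ := by group
        _ = b' * b⁻¹ := by rw [e']; group
    obtain ⟨h1, h2, h3⟩ := F.M_inter (mul_mem (inv_mem ha') ha) (mul_mem hb' (inv_mem hb))
      (mul_mem (inv_mem hc') hc) e2
    rw [inv_mul_eq_one] at h1 h2
    rw [mul_inv_eq_one] at h3
    exact Prod.ext (Subtype.ext h1.symm) (Prod.ext (Subtype.ext h2.symm) (Subtype.ext h3.symm))
  · rintro ⟨g, hg⟩
    obtain ⟨c, hc, a, ha, b, hb, rfl⟩ := F.decomp hg
    exact ⟨(⟨c, hc⟩, ⟨a, ha⟩, ⟨b, hb⟩), rfl⟩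

end Five

end Cfsg.Agent.J3Order
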