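import Cfsg.Agent.Lib.J3Order.Final
import Cfsg.Agent.Lib.Blocks.PrimePowerDegree
import Cfsg.Agent.Lib.CharInt.Kazarin

/-!
The normalizers of the Sylow subgroups of orders 17 and 19.
-/

set_option autoImplicit false
set_option linter.style.haveILetI false
set_option linter.unusedSectionVars false

namespace Cfsg.Agent.J3Order

open Subgroup HallJankoType Cfsg
open Cfsg.Agent.JankoOrder (inv_iff_orderOf)
open scoped ComplexConjugate

universe u

local notation "A5" => alternatingGroup (Fin 5)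
local notation "Inv" => JankoOrder.Inv

set_option maxRecDepth 8000 in
theorem five_two_power : ∀ g : A5, g ^ 16 = 1 → g ^ 2 = 1 := by decide +kernel

set_option maxRecDepth 20000 in
theorem small17 : ∀ j : Fin 1750, (j : ℕ) ∣ 2954880 → (j : ℕ) % 17 = 1 →
    (j : ℕ) = 1 ∨ 5 ∣ 50232960 / (j : ℕ) ∨ 16 ∣ 50232960 / (j : ℕ) ∨
      (j : ℕ) = 2160 ∨ (j : ℕ) = 38880 ∨ (j : ℕ) = 369360 := by decide +kernel

set_option maxRecDepth 20000 in
theorem large17 : ∀ j : Fin 1750, (j : ℕ) ∣ 2954880 → 2954880 / (j : ℕ) % 17 = 1 →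
    2954880 / (j : ℕ) = 1 ∨ 5 ∣ 50232960 / (2954880 / (j : ℕ)) ∨ 16 ∣ 50232960 / (2954880 / (j : ℕ)) ∨
      2954880 / (j : ℕ) = 2160 ∨ 2954880 / (j : ℕ) = 38880 ∨ 2954880 / (j : ℕ) = 369360 := by decide +kernel

set_option maxRecDepth 20000 in
theorem small19 : ∀ j : Fin 1750, (j : ℕ) ∣ 2643840 → (j : ℕ) % 19 = 1 →
    (j : ℕ) = 1 ∨ 5 ∣ 50232960 / (j : ℕ) ∨ 4 ∣ 50232960 / (j : ℕ) ∨
      (j : ℕ) = 1920 ∨ (j : ℕ) = 293760 := by decide +kernel

set_option maxRecDepth 20000 in
theorem large19 : ∀ j : Fin 1750, (j : ℕ) ∣ 2643840 → 2643840 / (j : ℕ) % 19 = 1 →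
    2643840 / (j : ℕ) = 1 ∨ 5 ∣ 50232960 / (2643840 / (j : ℕ)) ∨ 4 ∣ 50232960 / (2643840 / (j : ℕ)) ∨
      2643840 / (j : ℕ) = 1920 ∨ 2643840 / (j : ℕ) = 293760 := by decide +kernel

theorem options17 {n : ℕ} (hd : n ∣ 2954880) (hn : n % 17 = 1) (h1 : n ≠ 1) (h5 : ¬ 5 ∣ 50232960 / n)
    (h16 : ¬ 16 ∣ 50232960 / n) : n = 2160 ∨ n = 38880 ∨ n = 369360 := by
  by_cases hs : n < 1750
  · rcases small17 ⟨n, hs⟩ hd hn with h | h | h | h
    exacts [absurd h h1, absurd h h5, absurd h h16, h]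
  · obtain ⟨m, hm⟩ := hd
    have hm0 : 0 < m := Nat.pos_of_ne_zero fun h0 => by simp [h0] at hm
    have hms : m < 1750 := by nlinarith
    have e : 2954880 / m = n := by rw [hm, Nat.mul_div_cancel _ hm0]
    have h := large17 ⟨m, hms⟩ ⟨n, by show 2954880 = m * n; rw [hm, mul_comm]⟩
      (by show 2954880 / m % 17 = 1; rw [e]; exact hn)
    simp only [e] at h
    rcases h with h | h | h | h
    exacts [absurd h h1, absurd h h5, absurd h h16, h]

theorem options19 {n : ℕ} (hd : n ∣ 2643840) (hn : n % 19 = 1) (h1 : n ≠ 1) (h5 : ¬ 5 ∣ 50232960 / n)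
    (h4 : ¬ 4 ∣ 50232960 / n) : n = 1920 ∨ n = 293760 := by
  by_cases hs : n < 1750
  · rcases small19 ⟨n, hs⟩ hd hn with h | h | h | h
    exacts [absurd h h1, absurd h h5, absurd h h4, h]
  · obtain ⟨m, hm⟩ := hd
    have hm0 : 0 < m := Nat.pos_of_ne_zero fun h0 => by simp [h0] at hm
    have hms : m < 1750 := by nlinarith
    have e : 2643840 / m = n := by rw [hm, Nat.mul_div_cancel _ hm0]
    have h := large19 ⟨m, hms⟩ ⟨n, by show 2643840 = m * n; rw [hm, mul_comm]⟩
      (by show 2643840 / m % 19 = 1; rw [e]; exact hn)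
    simp only [e] at h
    rcases h with h | h | h | h
    exacts [absurd h h1, absurd h h5, absurd h h4, h]

theorem odd_five_bound {c : ℕ} (hc : c ∣ 50232960) (h2 : ¬ 2 ∣ c) (h5 : ¬ 5 ∣ c) : c ∣ 17 * 19 * 243 := by
  have e : c.Coprime (2 ^ 7 * 5) := Nat.Coprime.mul_right
    (((Nat.prime_two.coprime_iff_not_dvd).mpr h2).symm.pow_right 7)
    (((show Nat.Prime 5 by norm_num).coprime_iff_not_dvd).mpr h5).symm
  exact e.dvd_of_dvd_mul_left (show c ∣ 2 ^ 7 * 5 * (17 * 19 * 243) by simpa using hc)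

variable {G : Type u} [Group G] [Finite G]

/-- A subgroup of order `p` of `H` normal in `H`. -/
theorem normal_in {H X M : Subgroup G} {p k : ℕ} [Fact p.Prime] (hp : ¬ p ^ 2 ∣ Nat.card H)
    (hX : Nat.card X = p) (hXH : X ≤ H) (hMH : M ≤ H) (hM : M ≤ normalizer (X : Set G))
    (hk : Nat.card H ∣ Nat.card M * k) (hone : ∀ n, n ∣ k → n % p = 1 → n = 1) :
    H ≤ normalizer (X : Set G) := by
  have hXc : Nat.card (X.subgroupOf H) = p := by
    rw [Nat.card_congr (Subgroup.subgroupOfEquivOfLe hXH).toEquiv, hX]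
  obtain ⟨P, hP⟩ := (IsPGroup.of_card (n := 1) (G := X.subgroupOf H) (by rw [hXc, pow_one])).exists_le_sylow
  obtain ⟨i, hi⟩ := IsPGroup.iff_card.mp P.isPGroup'
  have hPe : X.subgroupOf H = (P : Subgroup H) := eq_of_le_of_card_ge hP (by
    rw [hXc, hi]
    have : i ≤ 1 := by
      by_contra h
      exact hp ((pow_dvd_pow p (show 2 ≤ i by omega)).trans (hi ▸ card_subgroup_dvd_card _))
    exact (Nat.pow_le_pow_right (Fact.out : p.Prime).pos this).trans (by rw [pow_one]))
  have hn := card_sylow_modEq_one p H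
  rw [Sylow.card_eq_index_normalizer P] at hn
  set N := normalizer ((P : Subgroup H) : Set H) with hN
  have hMN : M.subgroupOf H ≤ N := fun m hm => mem_normalizer_iff.mpr fun g => by
    show g ∈ (P : Subgroup H) ↔ m * g * m⁻¹ ∈ (P : Subgroup H)
    rw [← hPe, mem_subgroupOf, mem_subgroupOf]
    exact mem_normalizer_iff.mp (hM (mem_subgroupOf.mp hm)) (g : G)
  have hd : N.index ∣ k := by
    have h1 : Nat.card M ∣ Nat.card N := by
      rw [← Nat.card_congr (Subgroup.subgroupOfEquivOfLe hMH).toEquiv]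
      exact card_dvd_of_le hMN
    obtain ⟨j, hj⟩ := h1
    obtain ⟨i', hi'⟩ := hk
    have h := N.card_mul_index
    rw [hj] at h
    refine ⟨j * i', Nat.eq_of_mul_eq_mul_left (Nat.card_pos (α := M)) ?_⟩
    rw [hi', ← h]
    ring
  have h1 := hone _ hd (by
    exact (show N.index % p = 1 % p from hn).trans (Nat.mod_eq_of_lt (Fact.out : p.Prime).one_lt))
  intro h hh
  refine mem_normalizer_iff.mpr fun g => ?_
  show g ∈ X ↔ h * g * h⁻¹ ∈ X
  have hhN : (⟨h, hh⟩ : H) ∈ N := (Subgroup.index_eq_one.mp h1) ▸ mem_top _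
  constructor
  · intro hg
    have := (mem_normalizer_iff.mp hhN ⟨g, hXH hg⟩).mp (hPe ▸ mem_subgroupOf.mpr hg : _ ∈ (P : Subgroup H))
    exact mem_subgroupOf.mp (hPe.symm ▸ this : _ ∈ X.subgroupOf H)
  · intro hg
    have hgH : g ∈ H := by
      have := mul_mem (mul_mem (inv_mem hh) (hXH hg)) hh
      simpa [mul_assoc] using this
    have := (mem_normalizer_iff.mp hhN ⟨g, hgH⟩).mpr (hPe ▸ mem_subgroupOf.mpr hg : _ ∈ (P : Subgroup H))
    exact mem_subgroupOf.mp (hPe.symm ▸ this : _ ∈ X.subgroupOf H)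

/-- A Sylow subgroup of prime order, its centralizer and its automiser. -/
structure SylowNum (P : Subgroup G) (p : ℕ) (n c e : ℕ) : Prop where
  card : Nat.card P = p
  index : (normalizer (P : Set G)).index = n
  cent : Nat.card ↥(centralizer (P : Set G)) = c
  range : Nat.card (Subgroup.normalizerMonoidHom P).range = e
  total : Nat.card G = n * (c * e)
  normal_card : Nat.card ↥(normalizer (P : Set G)) = c * e

theorem sylow_num {p R : ℕ} [hpf : Fact p.Prime] (hG : Nat.card G = p * R) (hpR : ¬ p ∣ R) [IsSimpleGroup G]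
    (hR : 1 < R) (P : Sylow p G) : ∃ n c e : ℕ, SylowNum (P : Subgroup G) p n c e ∧ n % p = 1 ∧ n ∣ R ∧ n ≠ 1 ∧
      e ∣ p - 1 ∧ IsCyclic (Subgroup.normalizerMonoidHom (P : Subgroup G)).range := by
  have hp : p.Prime := hpf.out
  have hP : Nat.card (P : Subgroup G) = p := by
    rw [Sylow.card_eq_multiplicity, hG, Nat.factorization_mul hp.ne_zero (by omega), Finsupp.add_apply,
      hp.factorization_self, Nat.factorization_eq_zero_of_not_dvd hpR, pow_one]
  have hn : (normalizer ((P : Subgroup G) : Set G)).index % p = 1 := by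
    have := card_sylow_modEq_one p G
    rw [Sylow.card_eq_index_normalizer P] at this
    exact (show (normalizer ((P : Subgroup G) : Set G)).index % p = 1 % p from this).trans
      (Nat.mod_eq_of_lt hp.one_lt)
  set f := Subgroup.normalizerMonoidHom (P : Subgroup G) with hf
  have hc : Nat.card f.ker = Nat.card ↥(centralizer ((P : Subgroup G) : Set G)) := by
    rw [hf, normalizerMonoidHom_ker]
    exact Nat.card_congr (Subgroup.subgroupOfEquivOfLe (centralizer_le_normalizer _)).toEquiv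
  have hmul : Nat.card ↥(normalizer ((P : Subgroup G) : Set G)) =
      Nat.card ↥(centralizer ((P : Subgroup G) : Set G)) * Nat.card f.range := by
    rw [← hc, ← Subgroup.index_ker, f.ker.card_mul_index]
  haveI : IsCyclic (P : Subgroup G) := isCyclic_of_prime_card hP
  haveI hcyc : IsCyclic (MulAut (P : Subgroup G)) := by
    haveI : Fact (Nat.card (P : Subgroup G)).Prime := ⟨hP.symm ▸ hp⟩
    exact isCyclic_of_surjective _ (IsCyclic.mulAutMulEquiv (P : Subgroup G)).symm.surjective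
  refine ⟨_, _, _, ⟨hP, rfl, rfl, rfl, ?_, hmul⟩, hn, ?_, ?_, ?_, inferInstance⟩
  · rw [← hmul, mul_comm, Subgroup.card_mul_index]
  · have h1 : p ∣ Nat.card ↥(normalizer ((P : Subgroup G) : Set G)) := by
      have h := card_dvd_of_le (le_normalizer (H := (P : Subgroup G)))
      rwa [hP] at h
    obtain ⟨k, hk⟩ := h1
    have := (normalizer ((P : Subgroup G) : Set G)).card_mul_index
    rw [hG, hk, mul_assoc] at this
    exact ⟨k, by rw [← Nat.eq_of_mul_eq_mul_left hp.pos this]; ring⟩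
  · intro h1
    have hnorm : (P : Subgroup G).Normal := normalizer_eq_top_iff.mp (Subgroup.index_eq_one.mp h1)
    rcases hnorm.eq_bot_or_eq_top with h | h
    · rw [h, Subgroup.card_bot] at hP
      exact hp.one_lt.ne hP
    · rw [h, Subgroup.card_top, hG] at hP
      have := hp.pos
      nlinarith
  · refine (card_subgroup_dvd_card f.range).trans ?_
    rw [IsCyclic.card_mulAut, hP, Nat.totient_prime hp]

/-- No element has order 16. -/
theorem One.no_sixteen (S : One G) (g : G) : orderOf g ≠ 16 := by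
  intro hg
  have hi : Inv (g ^ 8) := inv_iff_orderOf.mpr (by rw [orderOf_pow, hg]; norm_num)
  obtain ⟨c, -, hC⟩ := S.conj_into_C (w := g) hi (by rw [← pow_succ, ← pow_succ'])
  have ho : orderOf (c * g * c⁻¹) = 16 := by rw [orderOf_conj_eq, hg]
  have h2 : (S.ψ ⟨c * g * c⁻¹, hC⟩) ^ 2 = 1 := five_two_power _ (by
    rw [← map_pow]
    convert map_one S.ψ using 2
    exact Subtype.ext (show (c * g * c⁻¹) ^ 16 = 1 by rw [← ho, pow_orderOf_eq_one]))
  have hQ : (c * g * c⁻¹) ^ 2 ∈ S.Q := by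
    rw [← map_pow] at h2
    exact (S.ψ_ker _).mp h2
  have h8 : (c * g * c⁻¹) ^ 8 = 1 := by
    have := Frame.Zp.sq S.toFrame (S.toFrame.sq_zp hQ)
    rw [← this]
    simp only [← pow_add]
  have := orderOf_dvd_of_pow_eq_one h8
  rw [ho] at this
  norm_num at this

namespace Five

variable {S : One G} (F : Five S) (hO : Nat.card F.O = 15) (hM2 : Nat.card F.M₂ = 1)
  (hG : ¬ 25 ∣ Nat.card G)
include hG

theorem exists_conj_y {v : G} (hv : orderOf v = 5) : ∃ g : G, zpowers (g * v * g⁻¹) = zpowers F.y := by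
  haveI : Fact (Nat.Prime 5) := ⟨by norm_num⟩
  obtain ⟨g, hg⟩ := exists_conj_mem_zpowers (H := G) (p := 5) hG hv F.hy
  exact ⟨g, gen_of_mem hg (by rw [orderOf_conj_eq, hv, F.hy])⟩

include hO

theorem card_cent_five_any {v : G} (hv : orderOf v = 5) : Nat.card ↥(centralizer ({v} : Set G)) = 30 := by
  obtain ⟨g, hg⟩ := F.exists_conj_y hG hv
  rw [← card_cent_conj g v, cent_eq_of_zpowers_eq hg, show Nat.card ↥(centralizer ({F.y} : Set G)) = 30 from
    F.card_L.trans (by rw [hO])]

include hM2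

theorem three_five_inv {w v : G} (hw : orderOf w = 3) (hv : orderOf v = 5) (hwv : w * v = v * w) :
    ∃ i, Inv i ∧ w * i = i * w := by
  obtain ⟨g, hg⟩ := F.exists_conj_y hG hv
  have hwO : g * w * g⁻¹ ∈ F.O := F.conj_mem_O hg hwv (by rw [hw]; decide)
  obtain ⟨c, hc, a, ha, b, hb, e⟩ := F.decomp hwO
  rw [Subgroup.eq_bot_of_card_eq _ hM2, mem_bot] at hb
  subst hb
  rw [mul_one] at e
  have ha3 : a ^ 3 = 1 := by
    have h := F.card_O
    rw [hO, hM2, mul_one] at h
    rw [show (3 : ℕ) = Nat.card F.M₁ by omega]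
    exact congrArg Subtype.val (pow_card_eq_one' (x := (⟨a, ha⟩ : F.M₁)))
  have hc1 : c = 1 := by
    have h : (c * a) ^ 3 = 1 := by
      rw [← e, conj_pow, ← hw, pow_orderOf_eq_one, mul_one, mul_inv_cancel]
    rw [(show Commute c a from (F.y_pow_central hc ha.1).symm).mul_pow, ha3, mul_one] at h
    calc c = (c ^ 3) ^ 2 * (c ^ 5)⁻¹ := by group
      _ = 1 := by rw [h, F.pow_five hc, one_pow, inv_one, one_mul]
  rw [hc1, one_mul] at e
  refine ⟨g⁻¹ * F.s * g, ⟨?_, fun h => F.hs.notMem ?_⟩, ?_⟩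
  · calc g⁻¹ * F.s * g * (g⁻¹ * F.s * g) = g⁻¹ * (F.s * F.s) * g := by group
      _ = 1 := by rw [F.hs.sq, mul_one, inv_mul_cancel]
  · rw [show F.s = g * (g⁻¹ * F.s * g) * g⁻¹ by group, h, mul_one, mul_inv_cancel]
    exact one_mem _
  · calc w * (g⁻¹ * F.s * g) = g⁻¹ * ((g * w * g⁻¹) * F.s) * g := by group
      _ = g⁻¹ * (F.s * (g * w * g⁻¹)) * g := by rw [e, F.comm_s ha]
      _ = g⁻¹ * F.s * g * w := by group

end Five

variable [IsSimpleGroup G] {S : One G}

theorem One.no_involution_three (S : One G) {w i : G} (hw : orderOf w = 3) (hi : Inv i) (hc : w * i = i * w)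
    {p : ℕ} (hp : p = 17 ∨ p = 19) : ¬ p ∣ Nat.card ↥(centralizer ({w} : Set G)) := by
  obtain ⟨T⟩ := exists_tri S
  rw [T.card_cent_three hw hi hc]
  rcases T.cases with ⟨⟨e⟩⟩ | ⟨⟨e⟩⟩
  · rw [T.card_H_seven e]; rcases hp with rfl | rfl <;> norm_num
  · rw [T.card_H_six e]; rcases hp with rfl | rfl <;> norm_num

/-- The counting facts used below. -/
structure Facts (S : One G) : Prop where
  card : Nat.card G = 50232960
  five : ∀ v : G, orderOf v = 5 → Nat.card ↥(centralizer ({v} : Set G)) = 30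
  three : ∀ w v : G, orderOf w = 3 → orderOf v = 5 → w * v = v * w → ∃ i, Inv i ∧ w * i = i * w

theorem One.facts [Fintype G] (S : One G) : Facts S := by
  obtain ⟨hG, ⟨F, hO, hM2⟩, -⟩ := S.main
  have h25 : ¬ 25 ∣ Nat.card G := by rw [hG]; norm_num
  exact ⟨hG, fun v hv => F.card_cent_five_any hO h25 hv, fun w v hw hv h => F.three_five_inv hO hM2 h25 hw hv h⟩

theorem Facts.cent_bound (hF : Facts S) {P : Subgroup G} {p : ℕ} (hp : p = 17 ∨ p = 19) (hP : Nat.card P = p) :
    Nat.card ↥(centralizer (P : Set G)) ∣ 17 * 19 * 243 := by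
  have hp' : p.Prime := by rcases hp with rfl | rfl <;> norm_num
  refine odd_five_bound (hF.card ▸ card_subgroup_dvd_card _) (fun h => ?_) fun h => ?_
  · obtain ⟨w, hw, hd⟩ := exists_comm_of_dvd hp' Nat.prime_two hP h
    rw [S.card_cent_inv (inv_iff_orderOf.mpr hw)] at hd
    rcases hp with rfl | rfl <;> norm_num at hd
  · obtain ⟨w, hw, hd⟩ := exists_comm_of_dvd hp' (by norm_num : Nat.Prime 5) hP h
    rw [hF.five w hw] at hd
    rcases hp with rfl | rfl <;> norm_num at hd

theorem num_parts {c e q : ℕ} (hc : c ∣ 17 * 19 * 243) (h : q ∣ c * e) (hq : Nat.Coprime q (17 * 19 * 243)) :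
    q ∣ e :=
  (Nat.Coprime.dvd_mul_left (hq.coprime_dvd_right hc)).mp h

/-- The normalizer of a Sylow 19-subgroup has odd order. -/
theorem Facts.nineteen (hF : Facts S) (X : Sylow 19 G) :
    ∃ n c e, SylowNum (X : Subgroup G) 19 n c e ∧ (n = 1920 ∨ n = 293760) ∧ e ∣ 18 ∧
      IsCyclic (Subgroup.normalizerMonoidHom (X : Subgroup G)).range := by
  haveI : Fact (Nat.Prime 19) := ⟨by norm_num⟩
  obtain ⟨n, c, e, hN, hn, hnR, hn1, he, hcyc⟩ :=
    sylow_num (p := 19) (R := 2643840) (by rw [hF.card]) (by norm_num) (by norm_num) X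
  have hc : c ∣ 17 * 19 * 243 := hN.cent ▸ hF.cent_bound (.inr rfl) hN.card
  have hnpos : 0 < n := Nat.pos_of_ne_zero fun h => by rw [h] at hn; norm_num at hn
  have hq : 50232960 / n = c * e := by rw [← hF.card, hN.total, Nat.mul_div_cancel_left _ hnpos]
  refine ⟨n, c, e, hN, options19 hnR hn hn1 (fun h => ?_) (fun h => ?_), he, hcyc⟩
  · have := (num_parts hc (hq ▸ h) (by norm_num)).trans he
    norm_num at this
  · have := (num_parts hc (hq ▸ h) (by norm_num)).trans he
    norm_num at this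

theorem Facts.nineteen_odd (hF : Facts S) (X : Sylow 19 G) :
    ¬ 2 ∣ Nat.card ↥(normalizer ((X : Subgroup G) : Set G)) := by
  obtain ⟨n, c, e, hN, hn, -, -⟩ := hF.nineteen X
  rw [hN.normal_card]
  have := hN.total
  rw [hF.card] at this
  rcases hn with rfl | rfl <;> omega

/-- A Sylow 17-subgroup is self-centralizing with automiser of order 8. -/
theorem Facts.seventeen (hF : Facts S) (Y : Sylow 17 G) :
    Nat.card ↥(centralizer ((Y : Subgroup G) : Set G)) = 17 ∧ Nat.card (Y : Subgroup G) = 17 ∧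
      Nat.card (Subgroup.normalizerMonoidHom (Y : Subgroup G)).range = 8 ∧
      IsCyclic (Subgroup.normalizerMonoidHom (Y : Subgroup G)).range := by
  haveI : Fact (Nat.Prime 17) := ⟨by norm_num⟩
  haveI : Fact (Nat.Prime 19) := ⟨by norm_num⟩
  obtain ⟨n, c, e, hN, hn, hnR, hn1, he, hcyc⟩ :=
    sylow_num (p := 17) (R := 2954880) (by rw [hF.card]) (by norm_num) (by norm_num) Y
  have hc : c ∣ 17 * 19 * 243 := hN.cent ▸ hF.cent_bound (.inl rfl) hN.card
  have hnpos : 0 < n := Nat.pos_of_ne_zero fun h => by rw [h] at hn; norm_num at hn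
  have hq : 50232960 / n = c * e := by rw [← hF.card, hN.total, Nat.mul_div_cancel_left _ hnpos]
  have hopt := options17 hnR hn hn1 (fun h => by
      have := (num_parts hc (hq ▸ h) (by norm_num)).trans he
      norm_num at this)
    (fun h => by
      have he16 : e = 16 := Nat.dvd_antisymm he (num_parts hc (hq ▸ h) (by norm_num))
      obtain ⟨g, hg⟩ := IsCyclic.exists_ofOrder_eq_natCard (α := (Subgroup.normalizerMonoidHom (Y : Subgroup G)).range)
      rw [hN.range, he16] at hg
      obtain ⟨h0, hh0⟩ := g.2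
      have hd : 16 ∣ orderOf h0 := by
        rw [← hg, ← Subgroup.orderOf_coe, ← hh0]
        exact orderOf_map_dvd _ _
      exact S.no_sixteen ((h0 : G) ^ (orderOf h0 / 16)) (by
        rw [← Subgroup.coe_pow, Subgroup.orderOf_coe]
        exact orderOf_pow_orderOf_div (orderOf_pos h0).ne' hd))
  obtain ⟨hce, hc19⟩ : c * e = 50232960 / n ∧ ¬ 19 ∣ c := by
    refine ⟨hq.symm, fun h19 => ?_⟩
    obtain ⟨⟨x, hx⟩, ho⟩ := exists_prime_orderOf_dvd_card' (G := ↥(centralizer ((Y : Subgroup G) : Set G))) 19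
      (hN.cent.symm ▸ h19)
    rw [Subgroup.orderOf_mk] at ho
    obtain ⟨X, hX⟩ := (IsPGroup.of_card (n := 1) (G := zpowers x)
      (by rw [Nat.card_zpowers, ho, pow_one])).exists_le_sylow
    obtain ⟨n', c', e', hX', -⟩ := hF.nineteen X
    have hXz : zpowers x = (X : Subgroup G) := eq_of_le_of_card_ge hX (by rw [hX'.card, Nat.card_zpowers, ho])
    set C := centralizer ((Y : Subgroup G) : Set G) with hC
    have hYc : (Y : Subgroup G) ≤ C := by
      obtain ⟨⟨t, htY⟩, hto⟩ := exists_prime_orderOf_dvd_card' (G := (Y : Subgroup G)) 17 (by rw [hN.card])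
      rw [Subgroup.orderOf_mk] at hto
      have hY : zpowers t = (Y : Subgroup G) := eq_of_le_of_card_ge (zpowers_le.mpr htY) (by
        rw [hN.card, Nat.card_zpowers, hto])
      intro v hv
      refine mem_centralizer_iff.mpr fun w hw => ?_
      rw [← hY] at hv
      have hw' : w ∈ zpowers t := hY ▸ hw
      exact commute_of_mem_zpowers hv (commute_of_mem_zpowers hw' rfl).symm
    set M := C ⊓ centralizer ({x} : Set G) with hM
    have hM323 : 17 * 19 ∣ Nat.card M := Nat.Coprime.mul_dvd_of_dvd_of_dvd (by norm_num)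
      (hN.card ▸ card_dvd_of_le fun v hv => ⟨hYc hv, mem_cent.mpr (mem_centralizer_iff.mp hx v hv)⟩)
      (ho ▸ Subgroup.orderOf_dvd_natCard M ⟨hx, mem_cent.mpr rfl⟩)
    have hn19 : ∀ m, m ∣ 243 → m % 19 = 1 → m = 1 := fun m hm h => by
      obtain ⟨i, hi, rfl⟩ := (Nat.dvd_prime_pow (by norm_num : Nat.Prime 3)).mp (show m ∣ 3 ^ 5 from hm)
      interval_cases i <;> simp_all
    have hle := normal_in (p := 19) (H := C) (X := zpowers x) (M := M) (k := 243)
      (fun h => by
        have := h.trans (hN.cent.symm ▸ hc)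
        norm_num at this)
      (by rw [Nat.card_zpowers, ho]) (zpowers_le.mpr hx) inf_le_left
      (fun v hv => mem_normalizer_iff.mpr fun g => by
        show g ∈ zpowers x ↔ v * g * v⁻¹ ∈ zpowers x
        have hvx : Commute v x := mem_cent.mp hv.2
        constructor
        · intro hg
          rw [commute_of_mem_zpowers hg hvx.eq, mul_inv_cancel_right]
          exact hg
        · intro hg
          have := commute_of_mem_zpowers hg hvx.eq
          rw [show g = v⁻¹ * (v * g * v⁻¹ * v) by group, ← this, inv_mul_cancel_left]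
          exact hg)
      ((hN.cent.symm ▸ hc).trans (Nat.mul_dvd_mul_right hM323 243)) hn19
    have hle' : normalizer ((Y : Subgroup G) : Set G) ≤ normalizer ((X : Subgroup G) : Set G) := by
      intro v hv
      rw [← hXz]
      refine mem_normalizer_iff.mpr fun g => ?_
      show g ∈ zpowers x ↔ v * g * v⁻¹ ∈ zpowers x
      have hvxC : v * x * v⁻¹ ∈ C := by
        refine mem_centralizer_iff.mpr fun w hw => ?_
        have hw' : v⁻¹ * w * v ∈ (Y : Subgroup G) := (mem_normalizer_iff.mp hv _).mpr (by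
          rw [show v * (v⁻¹ * w * v) * v⁻¹ = w by group]; exact hw)
        have e := mem_centralizer_iff.mp hx _ hw'
        calc w * (v * x * v⁻¹) = v * ((v⁻¹ * w * v) * x) * v⁻¹ := by group
          _ = v * x * v⁻¹ * w := by rw [e]; group
      have hvx : v * x * v⁻¹ ∈ zpowers x := by
        haveI hnX : ((zpowers x).subgroupOf C).Normal := Subgroup.normal_subgroupOf_iff_le_normalizer
          (zpowers_le.mpr hx) |>.mpr hle
        obtain ⟨R, hR⟩ := (IsPGroup.of_card (n := 1) (G := (zpowers x).subgroupOf C) (p := 19) (by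
          rw [Nat.card_congr (Subgroup.subgroupOfEquivOfLe (zpowers_le.mpr hx)).toEquiv, Nat.card_zpowers, ho,
            pow_one])).exists_le_sylow
        obtain ⟨h, hh⟩ := exists_conj_mem_zpowers (H := ↥C) (p := 19) (fun h => by
          have := h.trans (hN.cent.symm ▸ hc)
          norm_num at this) (w := ⟨v * x * v⁻¹, hvxC⟩) (y := ⟨x, hx⟩)
          (by rw [Subgroup.orderOf_mk, orderOf_conj_eq, ho]) (by rw [Subgroup.orderOf_mk, ho])
        have hh' : h * ⟨v * x * v⁻¹, hvxC⟩ * h⁻¹ ∈ (zpowers x).subgroupOf C := by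
          obtain ⟨i, hi⟩ := mem_zpowers_iff.mp hh
          rw [mem_subgroupOf, ← hi, SubgroupClass.coe_zpow]
          exact zpow_mem (mem_zpowers x) i
        have := hnX.conj_mem' _ hh' h
        rw [show h⁻¹ * (h * ⟨v * x * v⁻¹, hvxC⟩ * h⁻¹) * h = (⟨v * x * v⁻¹, hvxC⟩ : ↥C) by group] at this
        exact mem_subgroupOf.mp this
      have hgen := gen_of_mem hvx (orderOf_conj_eq v x)
      constructor
      · intro hg
        obtain ⟨i, rfl⟩ := mem_zpowers_iff.mp hg
        rw [← conj_zpow]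
        exact zpow_mem hvx i
      · intro hg
        rw [← hgen] at hg
        obtain ⟨i, hi⟩ := mem_zpowers_iff.mp hg
        rw [conj_zpow, mul_right_cancel_iff, mul_left_cancel_iff] at hi
        exact hi ▸ zpow_mem (mem_zpowers _) i
    refine hF.nineteen_odd X (dvd_trans ?_ (card_dvd_of_le hle'))
    rw [hN.normal_card, ← hq]
    rcases hopt with rfl | rfl | rfl <;> norm_num
  have he' : e ∣ 16 := he
  rcases hopt with rfl | rfl | rfl
  · exfalso
    refine hc19 ((Nat.Coprime.dvd_mul_right ?_).mp (by rw [hce]; norm_num : 19 ∣ c * e))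
    exact (show Nat.Coprime 19 16 by norm_num).coprime_dvd_right he'
  · exfalso
    refine hc19 ((Nat.Coprime.dvd_mul_right ?_).mp (by rw [hce]; norm_num : 19 ∣ c * e))
    exact (show Nat.Coprime 19 16 by norm_num).coprime_dvd_right he'
  · norm_num at hce
    have h8 : 8 ∣ e := num_parts hc (by rw [hce]; norm_num) (by norm_num)
    have h17 : 17 ∣ c := (Nat.Coprime.dvd_mul_right
      ((show Nat.Coprime 17 16 by norm_num).coprime_dvd_right he')).mp (by rw [hce]; norm_num)
    obtain ⟨a, rfl⟩ := h8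
    obtain ⟨b, rfl⟩ := h17
    have hab : a * b = 1 := by nlinarith [hce]
    rw [Nat.eq_one_of_mul_eq_one_left hab] at hN
    rw [Nat.eq_one_of_mul_eq_one_right hab] at hN
    exact ⟨hN.cent, hN.card, hN.range, hcyc⟩

end Cfsg.Agent.J3Order
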