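import Cfsg.Agent.Lib.J3Order.NineSeventeen

/-!
A Sylow 19-subgroup is self-centralizing: the character of degree 323 has defect zero at 19, so its
restriction to a cyclic group of order 57 would have multiplicities of sum 17 all equal to 6.
-/

set_option autoImplicit false
set_option linter.style.haveILetI false
set_option linter.unusedSectionVars false

namespace Cfsg.Agent.J3Order

open Subgroup HallJankoType Cfsg
open Cfsg.Agent.JankoOrder (inv_iff_orderOf)
open scoped ComplexConjugate Classical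

universe u

local notation "Inv" => JankoOrder.Inv

theorem factorization_of_eq {p m n : ℕ} (hp : p.Prime) (h : n = p * m) (hm : ¬ p ∣ m) :
    n.factorization p = 1 := by
  have hm0 : m ≠ 0 := fun h0 => hm (h0 ▸ dvd_zero p)
  rw [h, Nat.factorization_mul hp.ne_zero hm0, Finsupp.add_apply, hp.factorization_self,
    Nat.factorization_eq_zero_of_not_dvd hm]

variable {G : Type u} [Group G] [Finite G] [IsSimpleGroup G] {S : One G}

theorem Facts.no_seventeen_nineteen (hF : Facts S) {y x : G} (hy : orderOf y = 17)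
    (hc : x * y = y * x) : orderOf x ∣ 17 := by
  haveI : Fact (Nat.Prime 17) := ⟨by norm_num⟩
  obtain ⟨Y, hY⟩ := (IsPGroup.of_card (n := 1) (G := zpowers y)
    (by rw [Nat.card_zpowers, hy, pow_one])).exists_le_sylow
  obtain ⟨h1, h2, -, -⟩ := hF.seventeen Y
  have hYe : zpowers y = (Y : Subgroup G) := eq_of_le_of_card_ge hY (by rw [h2, Nat.card_zpowers, hy])
  rw [← h1]
  refine Subgroup.orderOf_dvd_natCard _ (mem_centralizer_iff.mpr fun v hv => ?_)
  rw [← hYe] at hv
  exact (commute_of_mem_zpowers hv hc).symm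

/-- The normalizer of a Sylow 19-subgroup has order 171. -/
theorem Facts.nineteen_171 (hF : Facts S) (X : Sylow 19 G) :
    ∃ n c e, SylowNum (X : Subgroup G) 19 n c e ∧ c * e = 171 ∧ e ∣ 18 ∧
      IsCyclic (Subgroup.normalizerMonoidHom (X : Subgroup G)).range := by
  haveI : Fact (Nat.Prime 19) := ⟨by norm_num⟩
  obtain ⟨n, c, e, hN, hn, he, hcyc⟩ := hF.nineteen X
  refine ⟨n, c, e, hN, ?_, he, hcyc⟩
  have htot := hN.total
  rw [hF.card] at htot
  rcases hn with rfl | rfl
  · exfalso
    have hce : c * e = 26163 := by omega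
    have h17c : 17 ∣ c := (Nat.Coprime.dvd_mul_right
      ((show Nat.Coprime 17 18 by norm_num).coprime_dvd_right he)).mp (by rw [hce]; norm_num)
    haveI : Fact (Nat.Prime 17) := ⟨by norm_num⟩
    obtain ⟨⟨v, hv⟩, ho⟩ := exists_prime_orderOf_dvd_card'
      (G := ↥(centralizer ((X : Subgroup G) : Set G))) 17 (hN.cent.symm ▸ h17c)
    rw [Subgroup.orderOf_mk] at ho
    obtain ⟨⟨x, hx⟩, hox⟩ := exists_prime_orderOf_dvd_card' (G := (X : Subgroup G)) 19 (by rw [hN.card])
    rw [Subgroup.orderOf_mk] at hox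
    have := hF.no_seventeen_nineteen ho (mem_centralizer_iff.mp hv x hx)
    rw [hox] at this
    norm_num at this
  · omega

/-- The centralizer of an element of order three commuting with an element of order 19. -/
theorem Facts.cent_three_le (hF : Facts S) (X : Sylow 19 G) {w : G} (hw : orderOf w = 3)
    (hwX : w ∈ centralizer ((X : Subgroup G) : Set G)) :
    Nat.card ↥(centralizer ({w} : Set G)) ∣ 171 := by
  haveI : Fact (Nat.Prime 19) := ⟨by norm_num⟩
  obtain ⟨n, c, e, hN, hce, -, -⟩ := hF.nineteen_171 X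
  have hXle : (X : Subgroup G) ≤ centralizer ({w} : Set G) := fun v hv =>
    mem_cent.mpr (mem_centralizer_iff.mp hwX v hv)
  set H := centralizer ({w} : Set G) with hH
  have h19 : 19 ∣ Nat.card H := hN.card ▸ card_dvd_of_le hXle
  have h2 : ¬ 2 ∣ Nat.card H := fun h => by
    haveI : Fact (Nat.Prime 2) := ⟨Nat.prime_two⟩
    obtain ⟨⟨i, hi⟩, ho⟩ := exists_prime_orderOf_dvd_card' (G := H) 2 h
    rw [Subgroup.orderOf_mk] at ho
    exact S.no_involution_three hw (inv_iff_orderOf.mpr ho) (mem_cent.mp hi).symm (.inr rfl) h19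
  have h5 : ¬ 5 ∣ Nat.card H := fun h => by
    haveI : Fact (Nat.Prime 5) := ⟨by norm_num⟩
    obtain ⟨⟨v, hv⟩, ho⟩ := exists_prime_orderOf_dvd_card' (G := H) 5 h
    rw [Subgroup.orderOf_mk] at ho
    obtain ⟨i, hi, hic⟩ := hF.three w v hw ho (mem_cent.mp hv).symm
    exact S.no_involution_three hw hi hic (.inr rfl) h19
  have h17 : ¬ 17 ∣ Nat.card H := fun h => by
    haveI : Fact (Nat.Prime 17) := ⟨by norm_num⟩
    obtain ⟨⟨v, hv⟩, ho⟩ := exists_prime_orderOf_dvd_card' (G := H) 17 h
    rw [Subgroup.orderOf_mk] at ho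
    have := hF.no_seventeen_nineteen ho (mem_cent.mp hv).symm
    rw [hw] at this
    norm_num at this
  have hd : Nat.card H ∣ Nat.card (X : Subgroup G) * 243 := by
    have h := odd_five_bound (hF.card ▸ card_subgroup_dvd_card H) h2 h5
    rw [mul_assoc] at h
    rw [hN.card]
    exact (((show Nat.Prime 17 by norm_num).coprime_iff_not_dvd.mpr h17).symm).dvd_of_dvd_mul_left h
  have hle := normal_in (p := 19) (X := (X : Subgroup G)) (M := (X : Subgroup G)) (k := 243)
    (fun h => by
      have := h.trans hd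
      rw [hN.card] at this
      norm_num at this) hN.card hXle hXle le_normalizer hd (fun m hm h => by
      obtain ⟨i, hi, rfl⟩ := (Nat.dvd_prime_pow (by norm_num : Nat.Prime 3)).mp (show m ∣ 3 ^ 5 from hm)
      interval_cases i <;> simp_all)
  have hdN := card_dvd_of_le hle
  rw [hN.normal_card] at hdN
  rwa [hce] at hdN

/-- No element of order three centralises a Sylow 19-subgroup. -/
theorem Facts.no_three (hF : Facts S) [Fintype G] (ξ : IrrCharacter G) (hξ : charDegree ξ.1 = 323)
    (X : Sylow 19 G) {w : G} (hw : orderOf w = 3) : w ∉ centralizer ((X : Subgroup G) : Set G) := by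
  intro hwX
  haveI : Fact (Nat.Prime 19) := ⟨by norm_num⟩
  haveI : Fact (Nat.Prime 3) := ⟨Nat.prime_three⟩
  obtain ⟨n, c, e, hN, -⟩ := hF.nineteen X
  obtain ⟨⟨x, hx⟩, hox⟩ := exists_prime_orderOf_dvd_card' (G := (X : Subgroup G)) 19 (by rw [hN.card])
  rw [Subgroup.orderOf_mk] at hox
  have hwx : Commute w x := (mem_centralizer_iff.mp hwX x hx).symm
  obtain ⟨g, hg⟩ : ∃ g, g = w * x := ⟨_, rfl⟩
  have hgo : orderOf g = 57 := by
    rw [hg, hwx.orderOf_mul_eq_mul_orderOf_of_coprime (by rw [hw, hox]; norm_num), hw, hox]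
  haveI : Fintype (zpowers g) := Fintype.ofFinite _
  have hKcard : Nat.card (zpowers g) = 57 := by rw [Nat.card_zpowers, hgo]
  have hwg : w = g ^ 19 := by
    rw [hg, hwx.mul_pow, show x ^ 19 = 1 from hox ▸ pow_orderOf_eq_one x, mul_one]
    rw [show 19 = 3 * 6 + 1 from rfl, pow_succ, pow_mul, ← hw, pow_orderOf_eq_one, one_pow, one_mul]
  -- the vanishing
  obtain ⟨M, hM⟩ := CharInt.exists_isPModular_of_prime (q := 19) (by norm_num)
  haveI := hM.2.1
  have hvan : ∀ k : G, 19 ∣ orderOf k → ξ.1 k = 0 := fun k hk =>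
    Blocks.apply_eq_zero_of_defect_zero hM.2.2 ξ (by
      rw [show Char.degree ξ = 323 from (Char.charDegree_eq_degree ξ).symm.trans hξ,
        factorization_of_eq (p := 19) (m := 17) (by norm_num) (by norm_num) (by norm_num), hF.card,
        factorization_of_eq (p := 19) (m := 2643840) (by norm_num) (by norm_num) (by norm_num)])
      (fun h => h hk)
  -- the linear character
  haveI : IsCyclic (zpowers w) := Subgroup.isCyclic_zpowers w
  haveI : NeZero (3 : ℕ) := ⟨by norm_num⟩
  let ε : ↥(zpowers w) ≃* ↥(rootsOfUnity 3 ℂ) := mulEquivOfCyclicCardEq (by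
    rw [Nat.card_zpowers, hw, Complex.card_rootsOfUnity])
  let π : zpowers g →* zpowers w := MonoidHom.mk' (fun k => ⟨(k : G) ^ 19, by
      obtain ⟨j, hj⟩ := mem_zpowers_iff.mp k.2
      refine mem_zpowers_iff.mpr ⟨j, ?_⟩
      rw [hwg, ← hj, ← zpow_natCast, ← zpow_natCast, zpow_comm]⟩) fun a b => Subtype.ext (by
    show ((a : G) * b) ^ 19 = (a : G) ^ 19 * (b : G) ^ 19
    exact Commute.mul_pow (commute_of_mem_zpowers b.2 (commute_of_mem_zpowers a.2 rfl).symm) 19)
  let μ : zpowers g →* ℂ := ((Units.coeHom ℂ).comp ((rootsOfUnity 3 ℂ).subtype)).comp (ε.toMonoidHom.comp π)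
  have hμ3 : ∀ k, μ k ^ 3 = 1 := fun k => by
    have h := (mem_rootsOfUnity 3 ((ε (π k) : ↥(rootsOfUnity 3 ℂ)) : ℂˣ)).mp (ε (π k)).2
    have := congrArg Units.val h
    rw [Units.val_pow_eq_pow_val, Units.val_one] at this
    exact this
  have hμne : ∀ k : zpowers g, (k : G) ^ 3 = 1 → k ≠ 1 → μ k ≠ 1 := by
    intro k hk hk1 h
    have h1 : π k = 1 := ε.injective (by rw [map_one]; exact Subtype.ext (Units.ext h))
    have h2 : (k : G) ^ 19 = 1 := congrArg Subtype.val h1
    rw [show 19 = 3 * 6 + 1 from rfl, pow_succ, pow_mul, hk, one_pow, one_mul] at h2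
    exact hk1 (Subtype.ext h2)
  let μi : ℕ → zpowers g →* ℂ := fun i => (powMonoidHom i).comp μ
  set T : Finset (zpowers g) := Finset.univ.filter fun k => (k : G) ^ 3 = 1 ∧ k ≠ 1 with hT
  have hTcard : T.card ≤ 2 := by
    have h3 : (Finset.univ.filter fun k : zpowers g => k ^ 3 = 1).card ≤ 3 :=
      IsCyclic.card_pow_eq_one_le (by norm_num)
    have hsub : T ⊆ (Finset.univ.filter fun k : zpowers g => k ^ 3 = 1).erase 1 := fun k hk => by
      rw [hT, Finset.mem_filter] at hk
      exact Finset.mem_erase.mpr ⟨hk.2.2, Finset.mem_filter.mpr ⟨Finset.mem_univ _, Subtype.ext hk.2.1⟩⟩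
    have := Finset.card_le_card hsub
    rw [Finset.card_erase_of_mem (by simp)] at this
    omega
  have hsum : ∀ i, ∑ k : zpowers g, ξ.1 k * conj (μi i k) = 323 + ∑ k ∈ T, ξ.1 k * conj (μi i k) := by
    intro i
    rw [← Finset.add_sum_erase _ _ (Finset.mem_univ (1 : zpowers g))]
    congr 1
    · rw [Subgroup.coe_one, ← Char.charDegree_cast, hξ, map_one, map_one, mul_one]
      norm_num
    · refine (Finset.sum_subset ?_ ?_).symm
      · intro k hk
        exact Finset.mem_erase.mpr ⟨(Finset.mem_filter.mp hk).2.2, Finset.mem_univ _⟩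
      · intro k hk hkT
        rw [hvan _ ?_, zero_mul]
        have hd : orderOf (k : G) ∣ 57 := by
          rw [Subgroup.orderOf_coe, ← hKcard]
          exact orderOf_dvd_natCard k
        by_contra h19
        refine hkT (Finset.mem_filter.mpr ⟨Finset.mem_univ _, ?_, (Finset.mem_erase.mp hk).1⟩)
        exact orderOf_dvd_iff_pow_eq_one.mp
          (((show Nat.Prime 19 by norm_num).coprime_iff_not_dvd.mpr h19).symm.dvd_of_dvd_mul_left
            (show orderOf (k : G) ∣ 19 * 3 from hd))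
  have hbound : ∀ k ∈ T, ‖ξ.1 k‖ ≤ 14 := by
    intro k hk
    obtain ⟨hk3, hk1⟩ := (Finset.mem_filter.mp hk).2
    have hko : orderOf (k : G) = 3 := orderOf_eq_prime hk3 fun h => hk1 (Subtype.ext h)
    have hkX : (k : G) ∈ centralizer ((X : Subgroup G) : Set G) := by
      obtain ⟨j, hj⟩ := mem_zpowers_iff.mp k.2
      have hgX : g ∈ centralizer ((X : Subgroup G) : Set G) := by
        rw [hg]
        refine mul_mem hwX (mem_centralizer_iff.mpr fun v hv => ?_)
        have hXe : zpowers x = (X : Subgroup G) := eq_of_le_of_card_ge (zpowers_le.mpr hx)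
          (by rw [hN.card, Nat.card_zpowers, hox])
        rw [← hXe] at hv
        exact (commute_of_mem_zpowers hv rfl).symm
      rw [← hj]
      exact zpow_mem hgX j
    have h171 := Nat.le_of_dvd (by norm_num) (hF.cent_three_le X hko hkX)
    have e := Char.sum_irr_mul_conj (k : G) (k : G)
    rw [if_pos (IsConj.refl _)] at e
    have e' : ∑ χ : IrrCharacter G, Complex.normSq (χ.1 k) =
        (Nat.card ↥(centralizer ({(k : G)} : Set G)) : ℝ) := by
      apply Complex.ofReal_injective
      push_cast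
      simp only [← Complex.mul_conj]
      rw [e]
    have hle : Complex.normSq (ξ.1 k) ≤ 171 := by
      refine le_trans (Finset.single_le_sum (f := fun χ : IrrCharacter G => Complex.normSq (χ.1 k))
        (fun χ _ => Complex.normSq_nonneg _) (Finset.mem_univ ξ)) ?_
      rw [e']
      exact_mod_cast h171
    rw [Complex.normSq_eq_norm_sq] at hle
    nlinarith [norm_nonneg (ξ.1 k)]
  have hmult : ∀ i, ∃ m : ℕ, ((m : ℂ) * 57 - 323 = ∑ k ∈ T, ξ.1 k * conj (μi i k)) ∧ m = 6 := by
    intro i
    obtain ⟨m, hm⟩ := Char.IsCharacter.exists_nat_classInner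
      (Char.IsCharacter.restrict (Char.irr_isCharacter ξ) (zpowers g))
      (Char.irr_isCharacter (Char.linIrr (μi i)))
    rw [classInner, hKcard] at hm
    simp only [Char.linIrr_apply] at hm
    rw [hsum] at hm
    refine ⟨m, by rw [← hm]; push_cast; field_simp; ring, ?_⟩
    have he : ((m : ℂ) * 57 - 323) = ∑ k ∈ T, ξ.1 k * conj (μi i k) := by
      rw [← hm]; push_cast; field_simp; ring
    have hnorm : ‖((m : ℂ) * 57 - 323)‖ ≤ 28 := by
      rw [he]
      refine (norm_sum_le _ _).trans ((Finset.sum_le_card_nsmul _ _ 14 fun k hk => ?_).trans ?_)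
      · rw [norm_mul, Complex.norm_conj]
        have h1 : ‖μi i k‖ = 1 := by
          have hi : (μi i k) ^ 3 = 1 := by
            show (μ k ^ i) ^ 3 = 1
            rw [← pow_mul, mul_comm, pow_mul, hμ3, one_pow]
          exact Complex.norm_eq_one_of_pow_eq_one hi (by norm_num)
        rw [h1, mul_one]
        exact hbound k hk
      · rw [nsmul_eq_mul]
        have : (T.card : ℝ) ≤ 2 := by exact_mod_cast hTcard
        nlinarith
    have hreal : ‖((m : ℂ) * 57 - 323)‖ = |(m : ℝ) * 57 - 323| := by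
      rw [← Real.norm_eq_abs, ← Complex.norm_real]
      push_cast
      rfl
    rw [hreal, abs_le] at hnorm
    obtain ⟨l1, l2⟩ := hnorm
    have a1 : (5 : ℝ) < m := by linarith
    have a2 : (m : ℝ) < 7 := by linarith
    have b1 : 5 < m := by exact_mod_cast a1
    have b2 : m < 7 := by exact_mod_cast a2
    omega
  obtain ⟨m0, e0, rfl⟩ := hmult 0
  obtain ⟨m1, e1, rfl⟩ := hmult 1
  obtain ⟨m2, e2, rfl⟩ := hmult 2
  have hz : ∑ k ∈ T, ξ.1 k * conj (μi 0 k) + ∑ k ∈ T, ξ.1 k * conj (μi 1 k) +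
      ∑ k ∈ T, ξ.1 k * conj (μi 2 k) = 0 := by
    rw [← Finset.sum_add_distrib, ← Finset.sum_add_distrib]
    refine Finset.sum_eq_zero fun k hk => ?_
    have hne := hμne k (Finset.mem_filter.mp hk).2.1 (Finset.mem_filter.mp hk).2.2
    have h3 : (μ k - 1) * (μ k ^ 0 + μ k ^ 1 + μ k ^ 2) = 0 := by linear_combination hμ3 k
    have h4 := (mul_eq_zero.mp h3).resolve_left (sub_ne_zero.mpr hne)
    rw [← mul_add, ← mul_add, ← map_add, ← map_add]
    show ξ.1 k * conj (μ k ^ 0 + μ k ^ 1 + μ k ^ 2) = 0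
    rw [h4, map_zero, mul_zero]
  rw [← e0, ← e1, ← e2] at hz
  norm_num at hz

/-- A Sylow 19-subgroup is self-centralizing with cyclic automiser of order nine. -/
theorem Facts.nineteen_final (hF : Facts S) [Fintype G] (ξ : IrrCharacter G) (hξ : charDegree ξ.1 = 323)
    (X : Sylow 19 G) :
    Nat.card ↥(centralizer ((X : Subgroup G) : Set G)) = 19 ∧ Nat.card (X : Subgroup G) = 19 ∧
      Nat.card (Subgroup.normalizerMonoidHom (X : Subgroup G)).range = 9 ∧
      IsCyclic (Subgroup.normalizerMonoidHom (X : Subgroup G)).range := by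
  haveI : Fact (Nat.Prime 19) := ⟨by norm_num⟩
  haveI : Fact (Nat.Prime 3) := ⟨Nat.prime_three⟩
  obtain ⟨n, c, e, hN, hce, he, hcyc⟩ := hF.nineteen_171 X
  have h19 : 19 ∣ c := (Nat.Coprime.dvd_mul_right
    ((show Nat.Coprime 19 18 by norm_num).coprime_dvd_right he)).mp (by rw [hce]; norm_num)
  have h3 : ¬ 3 ∣ c := fun h => by
    obtain ⟨⟨w, hw⟩, ho⟩ := exists_prime_orderOf_dvd_card'
      (G := ↥(centralizer ((X : Subgroup G) : Set G))) 3 (hN.cent.symm ▸ h)
    rw [Subgroup.orderOf_mk] at ho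
    exact hF.no_three ξ hξ X ho hw
  have hc19 : c = 19 := by
    have hd : c ∣ 9 * 19 := ⟨e, by rw [hce]⟩
    have h := (((Nat.prime_three.coprime_iff_not_dvd).mpr h3).symm.pow_right 2).dvd_of_dvd_mul_left hd
    exact Nat.dvd_antisymm h h19
  subst hc19
  refine ⟨hN.cent, hN.card, ?_, hcyc⟩
  rw [hN.range]
  omega

end Cfsg.Agent.J3Order
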