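import Cfsg.Agent.Lib.J3Order.Fives
import Cfsg.Agent.Lib.Char.Linear

/-!
The normalizer of `⟨y⟩` and a linear character of the centralizer of `y` separating the powers of `y`.
-/

set_option autoImplicit false
set_option linter.style.haveILetI false
set_option linter.unusedSectionVars false

namespace Cfsg.Agent.J3Order

open Subgroup HallJankoType Cfsg
open Cfsg.Agent.JankoOrder (inv_iff_orderOf)
open scoped ComplexConjugate

universe u

local notation "Inv" => JankoOrder.Inv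

variable {G : Type u} [Group G] [Finite G] {S : One G}

namespace Five

variable (F : Five S)

/-- The normalizer of `⟨y⟩`. -/
abbrev NY : Subgroup G := Subgroup.normalizer ((zpowers F.y : Subgroup G) : Set G)

theorem mem_NY {n : G} : n ∈ F.NY ↔ n * F.y * n⁻¹ ∈ zpowers F.y := by
  refine ⟨fun h => (mem_normalizer_iff.mp h F.y).mp (mem_zpowers _), fun h => mem_normalizer_iff.mpr fun g => ?_⟩
  show g ∈ zpowers F.y ↔ n * g * n⁻¹ ∈ zpowers F.y
  have hgen := gen_of_mem h (orderOf_conj_eq n F.y)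
  constructor
  · intro hg
    obtain ⟨i, rfl⟩ := mem_zpowers_iff.mp hg
    rw [← conj_zpow]
    exact zpow_mem h i
  · intro hg
    rw [← hgen] at hg
    obtain ⟨i, hi⟩ := mem_zpowers_iff.mp hg
    rw [conj_zpow, mul_right_cancel_iff, mul_left_cancel_iff] at hi
    exact hi ▸ zpow_mem (mem_zpowers _) i

theorem L_le_NY : F.L ≤ F.NY := fun n hn => F.mem_NY.mpr (by
  rw [mem_cent.mp hn, mul_inv_cancel_right]; exact mem_zpowers _)

theorem s_mem_NY : F.s ∈ F.NY := F.mem_NY.mpr (by rw [F.inv]; exact inv_mem (mem_zpowers _))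

theorem s_not_L : F.s ∉ F.L := fun h => by
  have e := F.inv
  rw [mem_cent.mp h, mul_inv_cancel_right] at e
  exact F.y_ne_one (eq_inv_self_of_odd (by rw [F.hy]; decide) e.symm)

theorem NY_cases {n : G} (hn : n ∈ F.NY) : n ∈ F.L ∨ n * F.s ∈ F.L := by
  rcases F.norm_pm (F.mem_NY.mp hn) with h | h
  · exact .inl (mem_cent.mpr (mul_inv_eq_iff_eq_mul.mp h))
  · refine .inr (mem_cent.mpr (mul_inv_eq_iff_eq_mul.mp ?_))
    calc n * F.s * F.y * (n * F.s)⁻¹ = n * (F.s * F.y * F.s⁻¹) * n⁻¹ := by group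
      _ = (n * F.y * n⁻¹)⁻¹ := by rw [F.inv]; group
      _ = F.y := by rw [h, inv_inv]

theorem index_L : (F.L.subgroupOf F.NY).index = 2 := by
  refine Subgroup.index_eq_two_iff.mpr ⟨⟨F.s, F.s_mem_NY⟩, fun b => ?_⟩
  rw [xor_iff_not_iff, mem_subgroupOf, mem_subgroupOf]
  rcases F.NY_cases b.2 with h | h
  · exact fun e => F.s_not_L ((mul_mem_cancel_left h).mp (e.mpr h))
  · refine fun e => F.s_not_L ?_
    exact (mul_mem_cancel_left (e.mp h)).mp h

theorem card_NY : Nat.card ↥F.NY = 4 * Nat.card F.O := by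
  rw [← (F.L.subgroupOf F.NY).card_mul_index, F.index_L,
    Nat.card_congr (Subgroup.subgroupOfEquivOfLe F.L_le_NY).toEquiv, F.card_L]
  ring

/-- A linear character of `L` nontrivial on `y`, factoring through a power map into `⟨y⟩`. -/
theorem exists_lin (h5 : ¬ 5 ∣ Nat.card F.M₁ * Nat.card F.M₂) :
    ∃ (N : ℕ) (χ : ↥F.L →* ℂ), Even N ∧ χ ⟨F.y, F.y_mem_L⟩ ≠ 1 ∧
      (∀ l : ↥F.L, (l : G) ^ N ∈ zpowers F.y) ∧ (∀ l l' : ↥F.L, (l : G) ^ N = (l' : G) ^ N → χ l = χ l') := by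
  haveI : Fact (Nat.Prime 5) := ⟨by norm_num⟩
  set Y : Subgroup ↥F.L := (zpowers F.y).subgroupOf F.L with hY
  have hle : zpowers F.y ≤ F.L := zpowers_le.mpr F.y_mem_L
  have hYcard : Nat.card Y = 5 := by
    rw [hY, Nat.card_congr (Subgroup.subgroupOfEquivOfLe hle).toEquiv, Nat.card_zpowers, F.hy]
  haveI hYn : Y.Normal := ⟨fun n hn g => by
    rw [hY, mem_subgroupOf] at hn ⊢
    push_cast
    rw [commute_of_mem_zpowers hn (mem_cent.mp g.2), mul_inv_cancel_right]
    exact hn⟩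
  set k := Y.index with hk
  have hk2 : k = 2 * (Nat.card F.M₁ * Nat.card F.M₂) := by
    have := Y.card_mul_index
    rw [hYcard, F.card_L, F.card_O, ← hk] at this
    omega
  have hmemk : ∀ l : ↥F.L, l ^ k ∈ Y := fun l => Y.pow_index_mem l
  set n := (center ↥F.L).index with hn
  have hn5 : ¬ 5 ∣ n := by
    have hYZ : Y ≤ center ↥F.L := fun c hc => mem_center_iff.mpr fun g =>
      Subtype.ext (commute_of_mem_zpowers (mem_subgroupOf.mp hc) (mem_cent.mp g.2))
    intro h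
    have h' := h.trans (Subgroup.index_dvd_of_le hYZ)
    rw [← hk, hk2] at h'
    exact h5 ((Nat.Coprime.dvd_mul_left (by norm_num)).mp h')
  let π : ↥F.L →* ↥Y :=
    { toFun := fun l => ⟨(l ^ n) ^ k, hmemk _⟩
      map_one' := Subtype.ext (by simp)
      map_mul' := fun a b => Subtype.ext (by
        show ((a * b) ^ n) ^ k = (a ^ n) ^ k * (b ^ n) ^ k
        have h := congrArg Subtype.val (map_mul (MonoidHom.transferCenterPow ↥F.L) a b)
        simp only [MonoidHom.transferCenterPow_apply, Subgroup.coe_mul] at h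
        rw [h]
        have hc : Commute (a ^ n) (b ^ n) := by
          have ha : a ^ n ∈ center ↥F.L := by
            have := (MonoidHom.transferCenterPow ↥F.L a).2
            rwa [MonoidHom.transferCenterPow_apply] at this
          exact (mem_center_iff.mp ha (b ^ n)).symm
        exact hc.mul_pow k) }
  haveI : IsCyclic ↥Y := isCyclic_of_prime_card (p := 5) hYcard
  haveI : NeZero (5 : ℕ) := ⟨by norm_num⟩
  let e : ↥Y ≃* ↥(rootsOfUnity 5 ℂ) := mulEquivOfCyclicCardEq (by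
    rw [hYcard, Complex.card_rootsOfUnity])
  let χ : ↥F.L →* ℂ := ((Units.coeHom ℂ).comp ((rootsOfUnity 5 ℂ).subtype)).comp (e.toMonoidHom.comp π)
  refine ⟨n * k, χ, by rw [hk2]; exact Even.mul_left (even_two_mul _) n, fun h => ?_, fun l => ?_, fun l l' h => ?_⟩
  · have h1 : π ⟨F.y, F.y_mem_L⟩ = 1 := by
      apply e.injective
      rw [map_one]
      exact Subtype.ext (Units.ext h)
    have h2 : F.y ^ (n * k) = 1 := by
      rw [pow_mul]
      exact congrArg (fun t : ↥Y => ((t : ↥F.L) : G)) h1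
    have h3 := orderOf_dvd_of_pow_eq_one h2
    rw [F.hy, hk2, Nat.Prime.dvd_mul (by norm_num), Nat.Prime.dvd_mul (by norm_num)] at h3
    rcases h3 with h3 | h3 | h3
    · exact hn5 h3
    · norm_num at h3
    · exact h5 h3
  · rw [pow_mul, ← Subgroup.coe_pow, ← Subgroup.coe_pow]
    exact mem_subgroupOf.mp (hmemk (l ^ n))
  · have : π l = π l' := Subtype.ext (Subtype.ext (by
      show (((l ^ n) ^ k : ↥F.L) : G) = (((l' ^ n) ^ k : ↥F.L) : G)
      rw [pow_mul, pow_mul] at h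
      push_cast
      exact h))
    show ((e (π l) : ℂˣ) : ℂ) = ((e (π l') : ℂˣ) : ℂ)
    rw [this]

variable (hM2 : Nat.card F.M₂ = 1)
include hM2

/-- The elements of `L` inverted by `s` are those of `⟨y⟩` and those outside `O`. -/
theorem inverted_iff {l : G} (hl : l ∈ F.L) :
    F.s * l * F.s = l⁻¹ ↔ l ∈ zpowers F.y ∨ l ∉ F.O := by
  have hdec : ∀ w ∈ F.O, ∃ c ∈ zpowers F.y, ∃ a ∈ F.M₁, w = c * a ∧ F.s * w * F.s = c⁻¹ * a := by
    intro w hw
    obtain ⟨c, hc, a, ha, b, hb, rfl⟩ := F.decomp hw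
    rw [Subgroup.eq_bot_of_card_eq _ hM2, mem_bot] at hb
    subst hb
    refine ⟨c, hc, a, ha, mul_one _, ?_⟩
    have e : F.s * c * F.s⁻¹ = c⁻¹ := F.zpow_inverted F.inv hc
    calc F.s * (c * a * 1) * F.s = (F.s * c * F.s⁻¹) * (F.s * a * F.s) := by group
      _ = c⁻¹ * a := by rw [e, ← F.comm_s ha, mul_assoc, F.hs.sq, mul_one]
  rcases F.L_cases (mem_cent.mp hl) with hO | hO
  · obtain ⟨c, hc, a, ha, rfl, e⟩ := hdec l hO
    rw [e, mul_inv_rev, F.y_pow_central (inv_mem hc) (inv_mem ha.1), mul_right_inj]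
    refine ⟨fun h => ?_, fun h => h.elim (fun h => ?_) fun h => absurd hO h⟩
    · left
      rw [eq_inv_self_of_odd (F.odd_order ha.1) h.symm, mul_one]
      exact hc
    · have ha' : a ∈ zpowers F.y := by
        have := mul_mem (inv_mem hc) h
        rwa [inv_mul_cancel_left] at this
      rw [F.M_y ha ha', inv_one]
  · refine ⟨fun _ => .inr fun h => F.z_not_O ((mul_mem_cancel_left h).mp hO), fun _ => ?_⟩
    obtain ⟨c, hc, a, ha, e1, e2⟩ := hdec _ hO
    have hl' : l = c * a * S.z := by rw [← e1, mul_assoc, S.zz, mul_one]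
    have hz : S.z⁻¹ = S.z := inv_of_sq S.zz
    calc F.s * l * F.s = (F.s * (l * S.z) * F.s) * (F.s⁻¹ * S.z⁻¹ * F.s) := by group
      _ = c⁻¹ * a * S.z := by rw [e2, hz, F.hs.inv_eq, F.s_comm_z, mul_assoc S.z, F.hs.sq, mul_one]
      _ = (c * a * S.z)⁻¹ := by
        rw [eq_inv_iff_mul_eq_one]
        calc c⁻¹ * a * S.z * (c * a * S.z) = c⁻¹ * a * (S.z * c) * a * S.z := by group
          _ = c⁻¹ * (a * c) * (S.z * a * S.z) := by rw [← F.y_pow_comm_z hc]; group
          _ = c⁻¹ * (c * a) * a⁻¹ := by rw [F.y_pow_central hc ha.1, F.z_inv₁ ha]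
          _ = 1 := by group
      _ = l⁻¹ := by rw [hl']

theorem card_inverted : Nat.card {l : ↥F.L // F.s * l * F.s = (l : G)⁻¹} = 5 + Nat.card F.O := by
  conv_rhs => rw [← F.hy, ← Nat.card_zpowers, ← Nat.card_sum]
  let f : zpowers F.y ⊕ F.O → {l : ↥F.L // F.s * l * F.s = (l : G)⁻¹} := Sum.elim
    (fun c => ⟨⟨c, (zpowers_le.mpr F.y_mem_L) c.2⟩,
      (F.inverted_iff hM2 ((zpowers_le.mpr F.y_mem_L) c.2)).mpr (.inl c.2)⟩)
    (fun o => ⟨⟨(o : G) * S.z, mul_mem (F.O_le o.2) F.z_mem_L⟩,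
      (F.inverted_iff hM2 (mul_mem (F.O_le o.2) F.z_mem_L)).mpr
        (.inr fun h => F.z_not_O ((mul_mem_cancel_left o.2).mp h))⟩)
  refine (Nat.card_eq_of_bijective f ⟨?_, ?_⟩).symm
  · rintro (a | a) (b | b) e
    all_goals have e' := congrArg (fun t : {l : ↥F.L // F.s * l * F.s = (l : G)⁻¹} => ((t : ↥F.L) : G)) e
    all_goals simp only [f, Sum.elim_inl, Sum.elim_inr] at e'
    · exact congrArg _ (Subtype.ext e')
    · exact absurd ((zpowers_le.mpr F.y_mem_O) a.2) (fun h => F.z_not_O ((mul_mem_cancel_left b.2).mp (e' ▸ h)))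
    · exact absurd ((zpowers_le.mpr F.y_mem_O) b.2) (fun h => F.z_not_O ((mul_mem_cancel_left a.2).mp (e'.symm ▸ h)))
    · exact congrArg _ (Subtype.ext (mul_right_cancel e'))
  · rintro ⟨⟨l, hl⟩, hinv⟩
    rcases (F.inverted_iff hM2 hl).mp hinv with h | h
    · exact ⟨.inl ⟨l, h⟩, rfl⟩
    · refine ⟨.inr ⟨l * S.z, (F.L_cases (mem_cent.mp hl)).resolve_left h⟩, Subtype.ext (Subtype.ext ?_)⟩
      show l * S.z * S.z = l
      rw [mul_assoc, S.zz, mul_one]

end Five

end Cfsg.Agent.J3Order
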