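import Cfsg.Agent.Lib.J3Order.Frame

/-!
Involutions outside `Q`.
-/

set_option autoImplicit false
set_option linter.style.haveILetI false
set_option linter.unusedSectionVars false

namespace Cfsg.Agent.J3Order

open Subgroup HallJankoType
open Cfsg.Agent.JankoOrder (inv_iff_orderOf)

universe u

local notation "A5" => alternatingGroup (Fin 5)
local notation "Inv" => JankoOrder.Inv

structure Frame.Outside {G : Type u} [Group G] (S : Frame G) (a : G) : Prop where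
  mem : a ∈ S.C
  notMem : a ∉ S.Q
  sq : a * a = 1

namespace Frame

variable {G : Type u} [Group G] (S : Frame G) {a : G}

/-- `{1, z, u, u z}`. -/
abbrev Four (u x : G) : Prop := S.Zp x ∨ S.Zp (x * u)

/-- The preimage in `Q` of the fixed points of `a` on `Q/Z`. -/
def W (_ha : a ∈ S.C) : Subgroup G where
  carrier := {q | q ∈ S.Q ∧ S.Zp (a * q * a⁻¹ * q⁻¹)}
  one_mem' := ⟨one_mem _, .inl (by group)⟩
  mul_mem' := by
    rintro q r ⟨hq, hq'⟩ ⟨hr, hr'⟩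
    refine ⟨mul_mem hq hr, ?_⟩
    have e : a * (q * r) * a⁻¹ * (q * r)⁻¹ =
        (a * q * a⁻¹ * q⁻¹) * (q * (a * r * a⁻¹ * r⁻¹) * q⁻¹) := by group
    rw [e, Zp.comm S hr' (S.Q_le hq), mul_inv_cancel_right]
    exact Zp.mul S hq' hr'
  inv_mem' := by
    rintro q ⟨hq, hq'⟩
    refine ⟨inv_mem hq, ?_⟩
    have e : a * q⁻¹ * a⁻¹ * q⁻¹⁻¹ = q⁻¹ * (a * q * a⁻¹ * q⁻¹)⁻¹ * q := by group
    rw [e, Zp.comm S (Zp.inv S hq') (inv_mem (S.Q_le hq)), inv_mul_cancel_right]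
    exact Zp.inv S hq'

theorem mem_W (ha : a ∈ S.C) {q : G} :
    q ∈ S.W ha ↔ q ∈ S.Q ∧ S.Zp (a * q * a⁻¹ * q⁻¹) := Iff.rfl

theorem Outside.inv_eq (ha : S.Outside a) : a⁻¹ = a := inv_of_sq ha.sq

theorem Outside.isInv (ha : S.Outside a) : Inv a :=
  ⟨ha.sq, fun h => ha.notMem (h ▸ one_mem _)⟩

theorem Outside.ψ_inv (ha : S.Outside a) : Inv (S.ψ ⟨a, ha.mem⟩) := by
  refine ⟨?_, fun h => ha.notMem ((S.mem_Q_iff ha.mem).mpr h)⟩
  rw [← map_mul]
  convert map_one S.ψ using 2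
  exact Subtype.ext ha.sq

theorem Outside.conj (ha : S.Outside a) {c : G} (hc : c ∈ S.C) : S.Outside (c * a * c⁻¹) := by
  refine ⟨mul_mem (mul_mem hc ha.mem) (inv_mem hc), fun h => ha.notMem ?_, ?_⟩
  · have := S.conj_mem' hc h
    rwa [show c⁻¹ * (c * a * c⁻¹) * c = a by group] at this
  · calc c * a * c⁻¹ * (c * a * c⁻¹) = c * (a * a) * c⁻¹ := by group
      _ = 1 := by rw [ha.sq]; group

variable [Finite G]

theorem comm_mem_W {a : G} (ha : S.Outside a) {q : G} (hq : q ∈ S.Q) :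
    a * q * a⁻¹ * q⁻¹ ∈ S.W ha.mem := by
  set w := a * q * a⁻¹ * q⁻¹ with hw
  have hwQ : w ∈ S.Q := mul_mem (S.conj_mem ha.mem hq) (inv_mem hq)
  refine ⟨hwQ, ?_⟩
  have e : a * w * a⁻¹ = w⁻¹ := by
    rw [hw, ha.inv_eq]
    calc a * (a * q * a * q⁻¹) * a = (a * a) * q * a * q⁻¹ * a := by group
      _ = (a * q * a * q⁻¹)⁻¹ := by rw [ha.sq, mul_inv_rev, mul_inv_rev, mul_inv_rev, ha.inv_eq]; group
  rw [e, ← mul_inv_rev]
  exact Zp.inv S (S.sq_zp hwQ)

theorem card_W_lt (ha : S.Outside a) : Nat.card ↥(S.W ha.mem) < 16 := by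
  haveI : Fact (Nat.Prime 5) := ⟨by decide⟩
  by_contra hlt
  push Not at hlt
  obtain ⟨x, hx5, hx1⟩ := five_inv_product _ ha.ψ_inv
  obtain ⟨⟨c, hc⟩, rfl⟩ := S.ψ_surj x
  have hb := ha.conj S hc
  set b := c * a * c⁻¹ with hbdef
  -- the second fixed group has the same order
  have hWb : 16 ≤ Nat.card ↥(S.W hb.mem) := by
    refine hlt.trans (Nat.card_le_card_of_injective
      (fun w : ↥(S.W ha.mem) => (⟨c * w * c⁻¹, S.conj_mem hc w.2.1, ?_⟩ : ↥(S.W hb.mem)))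
      fun w w' e => Subtype.ext (mul_left_cancel (mul_right_cancel (congrArg Subtype.val e :))))
    have e : b * (c * w * c⁻¹) * b⁻¹ * (c * w * c⁻¹)⁻¹ = c * (a * w * a⁻¹ * (w : G)⁻¹) * c⁻¹ := by
      rw [hbdef]; group
    rw [e, Zp.comm S w.2.2 hc, mul_inv_cancel_right]
    exact w.2.2
  set h := a * b with hh
  have hhC : h ∈ S.C := mul_mem ha.mem hb.mem
  -- an element of order five in `⟨h⟩`
  have hψh : orderOf (S.ψ ⟨h, hhC⟩) = 5 := by
    have e : S.ψ ⟨h, hhC⟩ = S.ψ ⟨a, ha.mem⟩ * (S.ψ ⟨c, hc⟩ * S.ψ ⟨a, ha.mem⟩ * (S.ψ ⟨c, hc⟩)⁻¹) := by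
      rw [← map_inv, ← map_mul, ← map_mul, ← map_mul]
      rfl
    rw [e]
    exact orderOf_eq_prime hx5 hx1
  have hdvd : 5 ∣ orderOf h := by
    rw [← hψh, ← Subgroup.orderOf_mk h hhC]
    exact orderOf_map_dvd S.ψ _
  set g := h ^ (orderOf h / 5) with hg
  have hg5 : orderOf g = 5 :=
    orderOf_pow_orderOf_div (orderOf_pos h).ne' hdvd
  have hgC : g ∈ S.C := pow_mem hhC _
  -- elements fixed modulo `Z` by both
  set I := S.W ha.mem ⊓ S.W hb.mem with hI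
  have hI2 : I ≤ Subgroup.zpowers S.z := by
    rintro q ⟨⟨hq, h1⟩, ⟨-, h2⟩⟩
    have hfix : ∀ n : ℕ, S.Zp (h ^ n * q * (h ^ n)⁻¹ * q⁻¹) := by
      intro n
      induction n with
      | zero => exact .inl (by group)
      | succ n ih =>
        have e : h ^ (n + 1) * q * (h ^ (n + 1))⁻¹ * q⁻¹ =
            (a * (b * (h ^ n * q * (h ^ n)⁻¹ * q⁻¹) * b⁻¹) * a⁻¹) *
              ((a * (b * q * b⁻¹ * q⁻¹) * a⁻¹) * (a * q * a⁻¹ * q⁻¹)) := by
          rw [pow_succ']; generalize h ^ n = k; rw [hh]; group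
        rw [e, Zp.comm S ih hb.mem, mul_inv_cancel_right, Zp.comm S ih ha.mem, mul_inv_cancel_right,
          Zp.comm S h2 ha.mem, mul_inv_cancel_right]
        exact Zp.mul S ih (Zp.mul S h2 h1)
    have hgq : S.Zp (g * q * g⁻¹ * q⁻¹) := hfix _
    have hgq' : g * q = q * g := by
      rcases hgq with e | e
      · exact mul_inv_eq_iff_eq_mul.mp (mul_inv_eq_one.mp e)
      · exfalso
        have e1 : g * q * g⁻¹ = S.z * q := mul_inv_eq_iff_eq_mul.mp e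
        have step : ∀ n : ℕ, g ^ n * q * (g ^ n)⁻¹ = S.z ^ n * q := by
          intro n
          induction n with
          | zero => group
          | succ n ih =>
            calc g ^ (n + 1) * q * (g ^ (n + 1))⁻¹ = g * (g ^ n * q * (g ^ n)⁻¹) * g⁻¹ := by
                  rw [pow_succ']; group
              _ = g * (S.z ^ n * q) * g⁻¹ := by rw [ih]
              _ = (g * S.z ^ n * g⁻¹) * (g * q * g⁻¹) := by group
              _ = S.z ^ (n + 1) * q := by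
                  rw [← conj_pow, S.z_conj hgC, e1, ← mul_assoc, ← pow_succ]
        have h5 := step 5
        rw [← hg5, pow_orderOf_eq_one, one_mul, inv_one, mul_one, hg5] at h5
        have e5 : S.z ^ 5 = S.z := by simp [pow_succ, S.zz]
        rw [e5] at h5
        exact S.z_ne_one (right_eq_mul.mp h5)
    rcases S.fix_five hgC hg5 hq hgq' with e | e <;> rw [e]
    · exact one_mem _
    · exact Subgroup.mem_zpowers _
  have hIc : Nat.card ↥I ≤ 2 := (Subgroup.card_le_of_le hI2).trans (by rw [Nat.card_zpowers, S.hz])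
  -- but it has order at least eight
  have hWa_le : S.W ha.mem ≤ S.Q := fun q hq => hq.1
  have hWb_le : S.W hb.mem ≤ S.Q := fun q hq => hq.1
  have h3 : Nat.card ↥(S.W ha.mem) * Nat.card ↥(S.W hb.mem) ≤ Nat.card ↥S.Q * Nat.card ↥I := by
    rw [← Nat.card_prod, ← Nat.card_prod]
    classical
    let f : ↥(S.W ha.mem) × ↥(S.W hb.mem) → ↥S.Q := fun p =>
      ⟨(p.1 : G) * p.2, mul_mem (hWa_le p.1.2) (hWb_le p.2.2)⟩
    let r : ↥S.Q → ↥(S.W ha.mem) × ↥(S.W hb.mem) := Function.invFun f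
    have hr : ∀ p, f (r (f p)) = f p := fun p => Function.apply_invFun_apply
    refine Nat.card_le_card_of_injective
      (fun p => (f p, (⟨((r (f p)).1 : G)⁻¹ * p.1, ?_⟩ : ↥I))) ?_
    · refine Subgroup.mem_inf.mpr ⟨mul_mem (inv_mem (r (f p)).1.2) p.1.2, ?_⟩
      have e : ((r (f p)).1 : G) * (r (f p)).2 = (p.1 : G) * p.2 := congrArg Subtype.val (hr p)
      have e' : ((r (f p)).1 : G)⁻¹ * p.1 = (r (f p)).2 * (p.2 : G)⁻¹ := by
        calc ((r (f p)).1 : G)⁻¹ * p.1 = ((r (f p)).1 : G)⁻¹ * (p.1 * p.2) * (p.2 : G)⁻¹ := by group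
          _ = _ := by rw [← e]; group
      show ((r (f p)).1 : G)⁻¹ * p.1 ∈ S.W hb.mem
      rw [e']
      exact mul_mem (r (f p)).2.2 (inv_mem p.2.2)
    · intro p p' e
      obtain ⟨e1, e2⟩ := Prod.ext_iff.mp e
      have e2' : ((r (f p)).1 : G)⁻¹ * p.1 = ((r (f p')).1 : G)⁻¹ * p'.1 := congrArg Subtype.val e2
      have e1' : f p = f p' := e1
      rw [e1', mul_left_cancel_iff] at e2'
      have e3 : (p.1 : G) * p.2 = (p'.1 : G) * p'.2 := congrArg Subtype.val e1'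
      rw [e2', mul_left_cancel_iff] at e3
      exact Prod.ext (Subtype.ext e2') (Subtype.ext e3)
  rw [S.card_Q] at h3
  have := Nat.mul_le_mul hlt hWb
  have := Nat.mul_le_mul_left 32 hIc
  omega

/-- `q ↦ [a, q]` modulo `Z`. -/
theorem card_W (ha : S.Outside a) : Nat.card ↥(S.W ha.mem) = 8 ∧
    ∀ w ∈ S.W ha.mem, ∃ q ∈ S.Q, S.Zp (w⁻¹ * (a * q * a⁻¹ * q⁻¹)) := by
  set Z : Subgroup ↥(S.W ha.mem) := (Subgroup.zpowers S.z).subgroupOf (S.W ha.mem) with hZ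
  have hzW : Subgroup.zpowers S.z ≤ S.W ha.mem := by
    refine Subgroup.zpowers_le.mpr ⟨S.z_mem_Q, .inl ?_⟩
    rw [S.z_conj ha.mem, mul_inv_cancel]
  have hzp : ∀ x : G, x ∈ Subgroup.zpowers S.z → S.Zp x := by
    intro x hx
    obtain ⟨n, hn⟩ := mem_zpowers_iff.mp hx
    have h2 : S.z ^ (2 : ℤ) = 1 := by rw [zpow_two]; exact S.zz
    rw [← hn]
    rcases Int.even_or_odd n with ⟨j, rfl⟩ | ⟨j, rfl⟩
    · left; rw [← two_mul, zpow_mul, h2, one_zpow]
    · right; rw [zpow_add_one, zpow_mul, h2, one_zpow, one_mul]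
  have hzp' : ∀ x : G, S.Zp x → x ∈ Subgroup.zpowers S.z := fun x hx => by
    rcases hx with rfl | rfl
    · exact one_mem _
    · exact Subgroup.mem_zpowers _
  have hZcard : Nat.card ↥Z = 2 := by
    rw [hZ, Nat.card_congr (Subgroup.subgroupOfEquivOfLe hzW).toEquiv, Nat.card_zpowers, S.hz]
  haveI : Z.Normal := ⟨fun x hx g => by
    rw [hZ, Subgroup.mem_subgroupOf] at hx ⊢
    show (g : G) * x * (g : G)⁻¹ ∈ _
    rw [Zp.comm S (hzp _ hx) (S.Q_le g.2.1), mul_inv_cancel_right]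
    exact hx⟩
  let μ : ↥S.Q →* ↥(S.W ha.mem) ⧸ Z := MonoidHom.mk'
    (fun q => QuotientGroup.mk (⟨a * q * a⁻¹ * (q : G)⁻¹, S.comm_mem_W ha q.2⟩ : ↥(S.W ha.mem)))
    (fun q r => by
      rw [← QuotientGroup.mk_mul, QuotientGroup.eq, hZ, Subgroup.mem_subgroupOf]
      refine hzp' _ ?_
      push_cast
      set v := a * (r : G) * a⁻¹ * (r : G)⁻¹ with hv
      have hvQ : v ∈ S.Q := (S.comm_mem_W ha r.2).1
      have e : (a * ((q : G) * r) * a⁻¹ * ((q : G) * r)⁻¹)⁻¹ * (a * q * a⁻¹ * (q : G)⁻¹ * v) =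
          (q : G) * v⁻¹ * (q : G)⁻¹ * v := by rw [hv]; group
      rw [e]
      simpa using S.comm_zp q.2 (inv_mem hvQ))
  have hker : Nat.card ↥μ.ker = Nat.card ↥(S.W ha.mem) := by
    refine Nat.card_congr
      { toFun := fun q => ⟨((q : ↥S.Q) : G), (q : ↥S.Q).2, hzp _ ?_⟩
        invFun := fun w => ⟨⟨w.1, w.2.1⟩, ?_⟩
        left_inv := fun _ => rfl
        right_inv := fun _ => rfl }
    · have h := q.2
      rw [MonoidHom.mem_ker] at h
      have h' : (QuotientGroup.mk _ : ↥(S.W ha.mem) ⧸ Z) = 1 := h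
      exact Subgroup.mem_subgroupOf.mp ((QuotientGroup.eq_one_iff _).mp h')
    · rw [MonoidHom.mem_ker]
      show (QuotientGroup.mk _ : ↥(S.W ha.mem) ⧸ Z) = 1
      exact (QuotientGroup.eq_one_iff _).mpr (Subgroup.mem_subgroupOf.mpr (hzp' _ w.2.2))
  have hq := Subgroup.card_eq_card_quotient_mul_card_subgroup Z
  rw [hZcard] at hq
  have hk := μ.ker.card_mul_index
  rw [Subgroup.index_ker, hker, S.card_Q] at hk
  have hr : Nat.card ↥μ.range ≤ Nat.card (↥(S.W ha.mem) ⧸ Z) := Subgroup.card_le_card_group _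
  obtain ⟨i, hi, hWi⟩ := (Nat.dvd_prime_pow Nat.prime_two).mp
    (show Nat.card ↥(S.W ha.mem) ∣ 2 ^ 5 from ⟨_, hk.symm⟩)
  have hlt := S.card_W_lt ha
  have hW : Nat.card ↥(S.W ha.mem) = 8 := by
    rw [hWi] at hk hlt hq ⊢
    interval_cases i <;> norm_num at * <;> omega
  refine ⟨hW, fun w hw => ?_⟩
  rw [hW] at hk hq
  have htop : μ.range = ⊤ := Subgroup.eq_top_of_card_eq _ (by omega)
  obtain ⟨q, hq'⟩ := MonoidHom.range_eq_top.mp htop (QuotientGroup.mk ⟨w, hw⟩)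
  refine ⟨q, q.2, hzp _ ?_⟩
  have h' := QuotientGroup.eq.mp hq'.symm
  replace h' := Subgroup.mem_subgroupOf.mp h'
  simpa [mul_assoc] using h'

theorem W_comm (ha : S.Outside a) {v w : G} (hv : v ∈ S.W ha.mem) (hw : w ∈ S.W ha.mem) :
    v * w = w * v := by
  obtain ⟨q, hq, hζ⟩ := (S.card_W ha).2 v hv
  set v' := a * q * a⁻¹ * q⁻¹ with hv'
  suffices h : v' * w = w * v' by
    have e : v = v' * (v⁻¹ * v')⁻¹ := by group
    have hc := Zp.comm S (Zp.inv S hζ) (S.Q_le hw.1)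
    rw [e, mul_assoc, ← hc, ← mul_assoc, h, mul_assoc]
  -- `a q a⁻¹` and `q` act on `w` in the same way
  obtain ⟨ζ, hζ', haw⟩ : ∃ ζ, S.Zp ζ ∧ a⁻¹ * w * a = w * ζ := by
    refine ⟨_, hw.2, ?_⟩
    rw [Zp.comm S hw.2 (S.Q_le hw.1), inv_mul_cancel_right, ha.inv_eq]
  obtain ⟨η, hη, hqw⟩ : ∃ η, S.Zp η ∧ q * w * q⁻¹ = w * η := by
    rcases S.conj_in_Q hq hw.1 with e | e
    · exact ⟨1, .inl rfl, by rw [e, mul_one]⟩
    · exact ⟨S.z, .inr rfl, e⟩
  have hqinv : q⁻¹ * w * q = w * η := by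
    have h1 : q * (w * η) * q⁻¹ = w := by
      calc q * (w * η) * q⁻¹ = (q * w * q⁻¹) * (q * η * q⁻¹) := by group
        _ = w * η * η := by rw [hqw, Zp.comm S hη (S.Q_le hq), mul_inv_cancel_right]
        _ = w := by rw [mul_assoc, Zp.sq S hη, mul_one]
    calc q⁻¹ * w * q = q⁻¹ * (q * (w * η) * q⁻¹) * q := by rw [h1]
      _ = w * η := by group
  have hawa : a * w * a⁻¹ = w * ζ := by rw [← haw, ha.inv_eq]
  have h1 : v' * w * v'⁻¹ = w := by
    calc v' * w * v'⁻¹ = a * (q * (a⁻¹ * (q⁻¹ * w * q) * a) * q⁻¹) * a⁻¹ := by rw [hv']; group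
      _ = a * (q * ((a⁻¹ * w * a) * (a⁻¹ * η * a)) * q⁻¹) * a⁻¹ := by rw [hqinv]; group
      _ = a * (q * (w * ζ * η) * q⁻¹) * a⁻¹ := by
          rw [haw, Zp.comm S hη (inv_mem ha.mem), inv_mul_cancel_right]
      _ = a * ((q * w * q⁻¹) * (q * (ζ * η) * q⁻¹)) * a⁻¹ := by group
      _ = a * (w * η * (ζ * η)) * a⁻¹ := by
          rw [hqw, Zp.comm S (Zp.mul S hζ' hη) (S.Q_le hq), mul_inv_cancel_right]
      _ = a * (w * ζ) * a⁻¹ := by
          rw [mul_assoc w η, ← mul_assoc η ζ, Zp.comm S hζ' (S.Q_le (Zp.mem S hη)), mul_assoc ζ η,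
            Zp.sq S hη, mul_one]
      _ = (a * w * a⁻¹) * (a * ζ * a⁻¹) := by group
      _ = w * ζ * ζ := by rw [hawa, Zp.comm S hζ' ha.mem, mul_inv_cancel_right]
      _ = w := by rw [mul_assoc, Zp.sq S hζ', mul_one]
  exact mul_inv_eq_iff_eq_mul.mp h1

theorem W_inverted (ha : S.Outside a) {w : G} (hw : w ∈ S.W ha.mem) : a * w * a⁻¹ = w⁻¹ := by
  obtain ⟨q, hq, hζ⟩ := (S.card_W ha).2 w hw
  set v := a * q * a⁻¹ * q⁻¹ with hv
  set ζ := w⁻¹ * v with hζdef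
  have hw' : w = v * ζ := by
    calc w = v * (w⁻¹ * v)⁻¹ := by group
      _ = v * ζ := by rw [← hζdef, inv_of_sq (Zp.sq S hζ)]
  have hv1 : a * v * a⁻¹ = v⁻¹ := by
    rw [hv, ha.inv_eq]
    calc a * (a * q * a * q⁻¹) * a = (a * a) * q * a * q⁻¹ * a := by group
      _ = (a * q * a * q⁻¹)⁻¹ := by rw [ha.sq, mul_inv_rev, mul_inv_rev, mul_inv_rev, ha.inv_eq]; group
  rw [hw']
  calc a * (v * ζ) * a⁻¹ = (a * v * a⁻¹) * (a * ζ * a⁻¹) := by group
    _ = v⁻¹ * ζ := by rw [hv1, Zp.comm S hζ ha.mem, mul_inv_cancel_right]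
    _ = (v * ζ)⁻¹ := by
        rw [mul_inv_rev v ζ, inv_of_sq (Zp.sq S hζ),
          Zp.comm S hζ (inv_mem (S.Q_le (S.comm_mem_W ha hq).1))]

theorem exists_core (ha : S.Outside a) : ∃ u, u ∈ S.Q ∧ u * u = 1 ∧ ¬ S.Zp u ∧ u * a = a * u ∧
    ∀ q ∈ S.Q, (q * a = a * q ↔ S.Four u q) := by
  let sq : ↥(S.W ha.mem) →* ↥(S.W ha.mem) := MonoidHom.mk' (fun w => w * w) fun v w => by
    have h : w * v = v * w := Subtype.ext (S.W_comm ha w.2 v.2)
    calc v * w * (v * w) = v * (w * v) * w := by group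
      _ = v * v * (w * w) := by rw [h]; group
  obtain ⟨u, huW, hu2, huz⟩ : ∃ u ∈ S.W ha.mem, u * u = 1 ∧ ¬ S.Zp u := by
    by_contra hne
    push Not at hne
    have hk : Nat.card ↥sq.ker ≤ Nat.card ↥(Subgroup.zpowers S.z) :=
      Nat.card_le_card_of_injective (fun w => ⟨((w : ↥(S.W ha.mem)) : G), by
        have h : ((w : ↥(S.W ha.mem)) : G) * (w : ↥(S.W ha.mem)) = 1 :=
          congrArg Subtype.val (MonoidHom.mem_ker.mp w.2)
        rcases hne _ (w : ↥(S.W ha.mem)).2 h with e | e <;> rw [e]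
        · exact one_mem _
        · exact Subgroup.mem_zpowers _⟩) fun w w' e =>
          Subtype.ext (Subtype.ext (congrArg Subtype.val e :))
    have hr : Nat.card ↥sq.range ≤ Nat.card ↥(Subgroup.zpowers S.z) :=
      Nat.card_le_card_of_injective (fun w => ⟨((w : ↥(S.W ha.mem)) : G), by
        obtain ⟨v, hv⟩ := w.2
        rw [← hv]
        rcases S.sq_zp v.2.1 with e | e
        · show (v : G) * v ∈ _
          rw [e]; exact one_mem _
        · show (v : G) * v ∈ _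
          rw [e]; exact Subgroup.mem_zpowers _⟩) fun w w' e =>
          Subtype.ext (Subtype.ext (congrArg Subtype.val e :))
    have h := sq.ker.card_mul_index
    rw [Subgroup.index_ker, (S.card_W ha).1] at h
    rw [Nat.card_zpowers, S.hz] at hk hr
    have := Nat.mul_le_mul hk hr
    omega
  have hua : a * u * a⁻¹ = u := by rw [S.W_inverted ha huW, inv_of_sq hu2]
  refine ⟨u, huW.1, hu2, huz, (mul_inv_eq_iff_eq_mul.mp hua).symm, fun q hq => ⟨fun hc => ?_, fun hf => ?_⟩⟩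
  · have hfix : a * q * a⁻¹ = q := by rw [← hc, mul_inv_cancel_right]
    have hqW : q ∈ S.W ha.mem := ⟨hq, .inl (by rw [hfix, mul_inv_cancel])⟩
    have hq2 : q * q = 1 := by
      have h := S.W_inverted ha hqW
      rw [hfix] at h
      exact mul_eq_one_iff_eq_inv.mpr h
    exact (S.involutions_Q huW.1 hu2 huz).2 q hq hq2 (S.W_comm ha hqW huW)
  · rcases hf with h | h
    · exact (Zp.comm S h ha.mem).symm
    · have e : q = q * u * u := by rw [mul_assoc, hu2, mul_one]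
      rw [e]
      calc q * u * u * a = q * u * (u * a) := by group
        _ = q * u * (a * u) := by rw [(mul_inv_eq_iff_eq_mul.mp hua).symm]
        _ = q * u * a * u := by group
        _ = a * (q * u) * u := by rw [Zp.comm S h ha.mem]
        _ = a * (q * u * u) := by group

theorem card_cent_Q_outside (ha : S.Outside a) :
    Nat.card ↥(S.Q ⊓ Subgroup.centralizer ({a} : Set G) : Subgroup G) = 4 := by
  classical
  obtain ⟨u, hu, hu2, huz, hua, hiff⟩ := S.exists_core ha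
  have hset : ((S.Q ⊓ Subgroup.centralizer ({a} : Set G) : Subgroup G) : Set G) =
      {x | x = 1 ∨ x = S.z ∨ x = u ∨ x = S.z * u} := by
    ext x
    simp only [SetLike.mem_coe, Subgroup.mem_inf, mem_cent, Set.mem_ofPred_eq]
    constructor
    · rintro ⟨hx, hxa⟩
      rcases (hiff x hx).mp hxa with (h | h) | (h | h)
      · exact .inl h
      · exact .inr (.inl h)
      · exact .inr (.inr (.inl (by rw [eq_inv_of_mul_eq_one_left h, inv_of_sq hu2])))
      · exact .inr (.inr (.inr (by rw [← h, mul_assoc, hu2, mul_one])))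
    · intro h
      have hf : x ∈ S.Q ∧ S.Four u x := by
        rcases h with rfl | rfl | rfl | rfl
        · exact ⟨one_mem _, .inl (.inl rfl)⟩
        · exact ⟨S.z_mem_Q, .inl (.inr rfl)⟩
        · exact ⟨hu, .inr (.inl hu2)⟩
        · exact ⟨mul_mem S.z_mem_Q hu, .inr (.inr (by rw [mul_assoc, hu2, mul_one]))⟩
      exact ⟨hf.1, (hiff x hf.1).mpr hf.2⟩
  show Nat.card ↥((S.Q ⊓ Subgroup.centralizer ({a} : Set G) : Subgroup G) : Set G) = 4
  rw [Nat.card_coe_set_eq, hset]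
  have hu1 : u ≠ 1 := fun h => huz (.inl h)
  have huz' : u ≠ S.z := fun h => huz (.inr h)
  have h4 : S.z * u ≠ 1 := fun h => huz' (by
    rw [eq_inv_of_mul_eq_one_right h, inv_of_sq S.zz])
  have h5 : S.z * u ≠ S.z := fun h => hu1 (mul_eq_left.mp h)
  have h6 : S.z * u ≠ u := fun h => S.z_ne_one (mul_eq_right.mp h)
  have e : {x | x = 1 ∨ x = S.z ∨ x = u ∨ x = S.z * u} = (({1, S.z, u, S.z * u} : Finset G) : Set G) := by
    ext x; simp
  rw [e, Set.ncard_coe_finset, Finset.card_insert_of_notMem (by simp [S.z_ne_one.symm, hu1.symm, h4.symm]),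
    Finset.card_insert_of_notMem (by simp [huz'.symm, h5.symm]), Finset.card_pair h6.symm]

/-- Involutions of a coset `aQ` are `Q`-conjugate. -/
theorem conj_coset {b : G} (ha : S.Outside a) (hb : S.Outside b) (h : b * a⁻¹ ∈ S.Q) :
    ∃ q ∈ S.Q, q * a * q⁻¹ = b := by
  have ho := card_orbit_mul S.Q a
  rw [S.card_cent_Q_outside ha, S.card_Q] at ho
  have h8 : Nat.card {v : G // ∃ k ∈ S.Q, k * a * k⁻¹ = v} = 8 := by omega
  let f : {v : G // ∃ k ∈ S.Q, k * a * k⁻¹ = v} → ↥(S.W ha.mem) := fun v => ⟨v.1 * a⁻¹, by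
    obtain ⟨k, hk, e⟩ := v.2
    have e' : v.1 * a⁻¹ = (a * k * a⁻¹ * k⁻¹)⁻¹ := by rw [← e]; group
    rw [e']
    exact inv_mem (S.comm_mem_W ha hk)⟩
  have hf : Function.Bijective f := (Nat.bijective_iff_injective_and_card f).mpr
    ⟨fun v w e => Subtype.ext (mul_right_cancel (congrArg Subtype.val e :)),
      h8.trans (S.card_W ha).1.symm⟩
  have hbW : b * a⁻¹ ∈ S.W ha.mem := by
    refine ⟨h, ?_⟩
    have e : a * (b * a⁻¹) * a⁻¹ = (b * a⁻¹)⁻¹ := by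
      rw [mul_inv_rev, inv_inv, hb.inv_eq, ha.inv_eq]
      calc a * (b * a) * a = a * b * (a * a) := by group
        _ = a * b := by rw [ha.sq, mul_one]
    rw [e, ← mul_inv_rev]
    exact Zp.inv S (S.sq_zp h)
  obtain ⟨v, hv⟩ := hf.2 ⟨b * a⁻¹, hbW⟩
  have e : (v : G) = b := mul_right_cancel (congrArg Subtype.val hv :)
  exact e ▸ v.2

theorem conj_outside {b : G} (ha : S.Outside a) (hb : S.Outside b) : ∃ c ∈ S.C, c * a * c⁻¹ = b := by
  obtain ⟨x, hx⟩ := five_inv_conj _ _ ha.ψ_inv hb.ψ_inv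
  obtain ⟨⟨c, hc⟩, rfl⟩ := S.ψ_surj x
  have hac := ha.conj S hc
  have h : b * (c * a * c⁻¹)⁻¹ ∈ S.Q := by
    rw [S.mem_Q_iff (mul_mem hb.mem (inv_mem hac.mem))]
    have e : S.ψ ⟨b, hb.mem⟩ * (S.ψ ⟨c, hc⟩ * S.ψ ⟨a, ha.mem⟩ * (S.ψ ⟨c, hc⟩)⁻¹)⁻¹ = 1 := by
      rw [hx, mul_inv_cancel]
    rw [← map_inv, ← map_mul, ← map_mul, ← map_inv, ← map_mul] at e
    exact e
  obtain ⟨q, hq, e⟩ := S.conj_coset hac hb h
  exact ⟨q * c, mul_mem (S.Q_le hq) hc, by rw [← e]; group⟩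

theorem card_cent_C_outside (ha : S.Outside a) :
    Nat.card ↥(S.C ⊓ Subgroup.centralizer ({a} : Set G) : Subgroup G) = 16 := by
  set E := (S.C ⊓ Subgroup.centralizer ({a} : Set G) : Subgroup G) with hE
  let χ : ↥E →* A5 := S.ψ.comp (Subgroup.inclusion inf_le_left)
  have hk : Nat.card ↥χ.ker = 4 := by
    rw [← S.card_cent_Q_outside ha]
    refine Nat.card_congr
      { toFun := fun x => ⟨((x : ↥E) : G), (S.mem_Q_iff (x : ↥E).2.1).mpr x.2, (x : ↥E).2.2⟩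
        invFun := fun x => ⟨⟨x.1, S.Q_le x.2.1, x.2.2⟩, (S.mem_Q_iff (S.Q_le x.2.1)).mp x.2.1⟩
        left_inv := fun _ => rfl
        right_inv := fun _ => rfl }
  have hr : Nat.card ↥χ.range = 4 := by
    rw [← five_inv_cent _ ha.ψ_inv, ← Nat.card_eq_fintype_card]
    refine Nat.card_congr (Equiv.subtypeEquivRight fun x => ⟨?_, fun hx => ?_⟩)
    · rintro ⟨k, rfl⟩
      show S.ψ ⟨(k : G), k.2.1⟩ * S.ψ ⟨a, ha.mem⟩ = S.ψ ⟨a, ha.mem⟩ * S.ψ ⟨(k : G), k.2.1⟩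
      rw [← map_mul, ← map_mul]
      exact congrArg S.ψ (Subtype.ext (mem_cent.mp k.2.2))
    · obtain ⟨⟨c, hc⟩, rfl⟩ := S.ψ_surj x
      have hac := ha.conj S hc
      have h : c * a * c⁻¹ * a⁻¹ ∈ S.Q := by
        rw [S.mem_Q_iff (mul_mem hac.mem (inv_mem ha.mem))]
        have e : S.ψ ⟨c, hc⟩ * S.ψ ⟨a, ha.mem⟩ * (S.ψ ⟨c, hc⟩)⁻¹ * (S.ψ ⟨a, ha.mem⟩)⁻¹ = 1 := by
          rw [hx]; group
        rw [← map_inv, ← map_mul, ← map_mul, ← map_inv, ← map_mul] at e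
        exact e
      obtain ⟨q, hq, e⟩ := S.conj_coset ha hac h
      have hmem : q⁻¹ * c ∈ E := by
        refine Subgroup.mem_inf.mpr ⟨mul_mem (inv_mem (S.Q_le hq)) hc, mem_cent.mpr ?_⟩
        calc q⁻¹ * c * a = q⁻¹ * (c * a * c⁻¹) * c := by group
          _ = q⁻¹ * (q * a * q⁻¹) * c := by rw [e]
          _ = a * (q⁻¹ * c) := by group
      refine ⟨⟨q⁻¹ * c, hmem⟩, ?_⟩
      show S.ψ ⟨q⁻¹ * c, _⟩ = _
      rw [S.ψ_eq_iff (mul_mem (inv_mem (S.Q_le hq)) hc) hc]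
      have e' : (q⁻¹ * c)⁻¹ * c = c⁻¹ * q * c := by group
      rw [e']
      exact S.conj_mem' hc hq
  rw [← χ.ker.card_mul_index, Subgroup.index_ker, hk, hr]

end Frame

end Cfsg.Agent.J3Order
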