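import Cfsg.Agent.Lib.J3Order.Entry
import Cfsg.Agent.S0516
import Cfsg.Agent.Lib.Forms.HermCenter
import Mathlib.FieldTheory.Finite.GaloisField

/-!
With one class of involutions: the Sylow 2-subgroups have order 128, and there is an involution of
`C` outside `Q` (otherwise the 2-rank would be two).
-/

set_option autoImplicit false
set_option linter.style.haveILetI false
set_option linter.unusedSectionVars false

namespace Cfsg.Agent.J3Order

open Subgroup HallJankoType
open Cfsg.Agent.JankoOrder (inv_iff_orderOf)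

universe u

local notation "A5" => alternatingGroup (Fin 5)
local notation "Inv" => JankoOrder.Inv

variable {G : Type u} [Group G] [Finite G]

/-- A Frame with a single class of involutions. -/
structure One (G : Type u) [Group G] extends Frame G where
  one : ∀ x : G, x * x = 1 → x ≠ 1 → IsConj z x

theorem two_part {S : Frame G} (hone : ∀ x : G, x * x = 1 → x ≠ 1 → IsConj S.z x) (P : Sylow 2 G) :
    Nat.card (P : Subgroup G) = 128 := by
  haveI : Fact (Nat.Prime 2) := ⟨Nat.prime_two⟩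
  have h128 : 2 ^ 7 ∣ Nat.card (P : Subgroup G) := by
    refine P.pow_dvd_card_of_pow_dvd_card ?_
    exact (show 2 ^ 7 ∣ 1920 by norm_num).trans (S.card_C ▸ card_subgroup_dvd_card S.C)
  haveI : Nontrivial (P : Subgroup G) := Finite.one_lt_card_iff_nontrivial.mp
    (lt_of_lt_of_le (by norm_num : 1 < 2 ^ 7) (Nat.le_of_dvd Nat.card_pos h128))
  haveI := P.isPGroup'.center_nontrivial
  obtain ⟨c, hc⟩ := exists_prime_orderOf_dvd_card' (G := center (P : Subgroup G)) 2
    (P.isPGroup'.to_subgroup (center (P : Subgroup G)) |>.exists_card_eq |> fun ⟨n, hn⟩ => by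
      rw [hn]
      have : 1 < Nat.card (center (P : Subgroup G)) := Finite.one_lt_card
      refine dvd_pow_self 2 fun h0 => ?_
      rw [hn, h0] at this
      norm_num at this)
  set i : G := ((c : (P : Subgroup G)) : G) with hi
  have hio : orderOf i = 2 := by rw [hi, Subgroup.orderOf_coe, Subgroup.orderOf_coe, hc]
  have hii := inv_iff_orderOf.mpr hio
  obtain ⟨g, hg⟩ := isConj_iff.mp (hone i hii.1 hii.2)
  have hle : (P : Subgroup G) ≤ S.C.map (MulAut.conj g).toMonoidHom := by
    intro p hp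
    refine ⟨g⁻¹ * p * g, mem_cent.mpr ?_, ?_⟩
    · have e : p * i = i * p := congrArg Subtype.val (mem_center_iff.mp c.2 ⟨p, hp⟩)
      rw [← hg] at e
      calc g⁻¹ * p * g * S.z = g⁻¹ * (p * (g * S.z * g⁻¹)) * g := by group
        _ = g⁻¹ * ((g * S.z * g⁻¹) * p) * g := by rw [e]
        _ = S.z * (g⁻¹ * p * g) := by group
    · show g * (g⁻¹ * p * g) * g⁻¹ = p
      group
  have hd : Nat.card (P : Subgroup G) ∣ 1920 := by
    refine (Subgroup.card_dvd_of_le hle).trans ?_
    rw [Subgroup.card_map_of_injective (MulAut.conj g).injective, S.card_C]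
  obtain ⟨n, hn⟩ := IsPGroup.iff_card.mp P.isPGroup'
  rw [hn] at hd h128 ⊢
  have h7 : 7 ≤ n := (Nat.pow_dvd_pow_iff_le_right (by norm_num : 1 < 2)).mp h128
  have h8 : n < 8 := by
    by_contra h
    have : 2 ^ 8 ∣ 1920 := (pow_dvd_pow 2 (show 8 ≤ n by omega)).trans hd
    norm_num at this
  rw [show n = 7 by omega]
  norm_num

/-- An abelian subgroup of index at most two does not fit an extraspecial group of order 32. -/
theorem abelian_index_two_false {P : Type*} [Group P] [Finite P] {A Q : Subgroup P}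
    (hA : A.index = 2) (hab : ∀ a ∈ A, ∀ b ∈ A, a * b = b * a) (hQ : Cfsg.IsExtraspecial 2 ↥Q)
    (hcard : Nat.card ↥Q = 32) : False := by
  have h16 : ∀ B : Subgroup ↥Q, (∀ a ∈ B, ∀ b ∈ B, a * b = b * a) → Nat.card B ≠ 16 := fun B hB h => by
    obtain ⟨a, ha, b, hb, hne⟩ := exists_noncomm_of_large hQ hcard h
    exact hne (hB a ha b hb)
  haveI := Subgroup.normal_of_index_eq_two hA
  have hd : (A.subgroupOf Q).index ≤ 2 :=
    Nat.le_of_dvd (by norm_num) (hA ▸ Subgroup.relIndex_dvd_index_of_normal A Q)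
  have hB : ∀ a ∈ A.subgroupOf Q, ∀ b ∈ A.subgroupOf Q, a * b = b * a := fun a ha b hb =>
    Subtype.ext (hab _ (mem_subgroupOf.mp ha) _ (mem_subgroupOf.mp hb))
  have hm := (A.subgroupOf Q).card_mul_index
  rw [hcard] at hm
  rcases Nat.le_one_iff_eq_zero_or_eq_one.mp (show (A.subgroupOf Q).index - 1 ≤ 1 by omega) with h | h
  · have h1 : (A.subgroupOf Q).index = 1 := by
      have : (A.subgroupOf Q).index ≠ 0 := Subgroup.index_ne_zero_of_finite
      omega
    have htop := Subgroup.index_eq_one.mp h1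
    have hc := hQ.2
    have : center ↥Q = ⊤ := eq_top_iff.mpr fun x _ => mem_center_iff.mpr fun y =>
      hB y (htop ▸ mem_top y) x (htop ▸ mem_top x)
    rw [this, card_top, hcard] at hc
    omega
  · have h1 : (A.subgroupOf Q).index = 2 := by omega
    rw [h1] at hm
    exact h16 _ hB (by omega)

theorem abelian_of_wreathed {P : Type*} [Group P] [Finite P] (h : Cfsg.IsWreathed P) :
    ∃ A : Subgroup P, A.index = 2 ∧ ∀ a ∈ A, ∀ b ∈ A, a * b = b * a := by
  obtain ⟨n, hn, hcard, x, y, z, hx, hxy, hinf, hz, hzxy⟩ := h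
  have hy : orderOf y = 2 ^ n := by rw [← hzxy, ← MulAut.conj_apply, MulEquiv.orderOf_eq, hx]
  let f : zpowers x × zpowers y →* P :=
    (zpowers x).subtype.noncommCoprod (zpowers y).subtype fun a b => by
      obtain ⟨i, hi⟩ := mem_zpowers_iff.mp a.2
      obtain ⟨j, hj⟩ := mem_zpowers_iff.mp b.2
      show Commute (a : P) b
      rw [← hi, ← hj]
      exact Commute.zpow_zpow hxy i j
  have hinj : Function.Injective f := by
    refine (injective_iff_map_eq_one f).mpr fun p hp => ?_
    have e : (p.1 : P) * p.2 = 1 := hp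
    have h1 : (p.1 : P) ∈ zpowers x ⊓ zpowers y :=
      ⟨p.1.2, by rw [eq_inv_of_mul_eq_one_left e]; exact (zpowers y).inv_mem p.2.2⟩
    rw [hinf, mem_bot] at h1
    rw [h1, one_mul] at e
    exact Prod.ext (Subtype.ext h1) (Subtype.ext e)
  have hcr : Nat.card f.range = 2 ^ (2 * n) := by
    rw [← Nat.card_congr (MonoidHom.ofInjective hinj).toEquiv, Nat.card_prod, Nat.card_zpowers,
      Nat.card_zpowers, hx, hy, ← pow_add, two_mul]
  refine ⟨f.range, ?_, ?_⟩
  · have := f.range.card_mul_index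
    rw [hcr, hcard, pow_succ] at this
    exact Nat.eq_of_mul_eq_mul_left (by positivity) this
  · rintro _ ⟨p, rfl⟩ _ ⟨q, rfl⟩
    rw [← map_mul, ← map_mul]
    congr 1
    exact Prod.ext (IsCyclic.commGroup.mul_comm p.1 q.1) (IsCyclic.commGroup.mul_comm p.2 q.2)

theorem abelian_of_cyclic {P : Type*} [Group P] [Finite P] {x : P} {n : ℕ}
    (hcard : Nat.card P = 2 * n) (hn : 0 < n) (hx : orderOf x = n) :
    ∃ A : Subgroup P, A.index = 2 ∧ ∀ a ∈ A, ∀ b ∈ A, a * b = b * a := by
  refine ⟨zpowers x, ?_, fun a ha b hb => ?_⟩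
  · have := (zpowers x).card_mul_index
    rw [Nat.card_zpowers, hx, hcard, mul_comm 2 n] at this
    exact Nat.eq_of_mul_eq_mul_left hn this
  · exact congrArg Subtype.val (IsCyclic.commGroup.mul_comm (⟨a, ha⟩ : zpowers x) ⟨b, hb⟩)

theorem exists_outside [IsSimpleGroup G] (S : Frame G)
    (hone : ∀ x : G, x * x = 1 → x ≠ 1 → IsConj S.z x) : ∃ a, S.Outside a := by
  classical
  by_contra hno
  push Not at hno
  haveI : Fact (Nat.Prime 2) := ⟨Nat.prime_two⟩
  have hinQ : ∀ x : G, x * x = 1 → x * S.z = S.z * x → x ∈ S.Q := fun x hx hxz => by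
    by_contra h
    exact hno x ⟨mem_cent.mpr hxz, h, hx⟩
  obtain ⟨u₀, hu₀, hu₀2, hu₀z⟩ := S.exists_noncentral
  have h2 : Cfsg.PRankLE 2 2 G := by
    intro A hA hA2
    by_cases hbot : A = ⊥
    · rw [hbot, Subgroup.card_bot]; norm_num
    obtain ⟨i, hiA, hi1⟩ := (Subgroup.ne_bot_iff_exists_ne_one.mp hbot) |> fun ⟨⟨i, hi⟩, h⟩ =>
      (⟨i, hi, fun e => h (Subtype.ext e)⟩ : ∃ i, i ∈ A ∧ i ≠ 1)
    have hii : i * i = 1 := by rw [← pow_two]; exact hA2 i hiA
    obtain ⟨g, hg⟩ := isConj_iff.mp (hone i hii hi1)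
    set B := A.map (MulAut.conj g⁻¹).toMonoidHom with hB
    have hBcard : Nat.card B = Nat.card A := Subgroup.card_map_of_injective (MulAut.conj g⁻¹).injective
    have hBc : ∀ b ∈ B, ∀ c ∈ B, b * c = c * b := by
      rintro _ ⟨b, hb, rfl⟩ _ ⟨c, hc, rfl⟩
      rw [← map_mul, ← map_mul, show b * c = c * b from congrArg Subtype.val (hA.is_comm.comm (⟨b, hb⟩ : A) ⟨c, hc⟩)]
    have hB2 : ∀ b ∈ B, b * b = 1 := by
      rintro _ ⟨b, hb, rfl⟩
      rw [← map_mul, show b * b = 1 from (pow_two b) ▸ hA2 b hb, map_one]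
    have hzB : S.z ∈ B := ⟨i, hiA, by
      show g⁻¹ * i * g⁻¹⁻¹ = S.z
      rw [← hg]; group⟩
    have hBQ : ∀ b ∈ B, b ∈ S.Q := fun b hb => hinQ b (hB2 b hb) (hBc b hb S.z hzB)
    rw [← hBcard]
    by_cases hall : ∀ b ∈ B, S.Zp b
    · refine le_trans (Subgroup.card_le_of_le (K := zpowers S.z) fun b hb => ?_) ?_
      · rcases hall b hb with e | e <;> rw [e]
        · exact one_mem _
        · exact mem_zpowers _
      · rw [Nat.card_zpowers, S.hz]; norm_num
    · push Not at hall
      obtain ⟨u, huB, huz1, huz2⟩ := hall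
      have huz : ¬ S.Zp u := not_or.mpr ⟨huz1, huz2⟩
      have hsub : (B : Set G) ⊆ (({1, S.z, u, S.z * u} : Finset G) : Set G) := by
        intro b hb
        simp only [Finset.coe_insert, Finset.coe_singleton, Set.mem_insert_iff, Set.mem_singleton_iff]
        rcases (S.involutions_Q (hBQ u huB) (hB2 u huB) huz).2 b (hBQ b hb) (hB2 b hb) (hBc b hb u huB)
          with (h | h) | (h | h)
        · exact .inl h
        · exact .inr (.inl h)
        · exact .inr (.inr (.inl (by rw [eq_inv_of_mul_eq_one_left h, inv_of_sq (hB2 u huB)])))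
        · refine .inr (.inr (.inr ?_))
          rw [← h, mul_assoc, hB2 u huB, mul_one]
      show Nat.card ↥(B : Set G) ≤ 2 ^ 2
      rw [Nat.card_coe_set_eq]
      refine (Set.ncard_le_ncard hsub (Finset.finite_toSet _)).trans ?_
      rw [Set.ncard_coe_finset]
      exact Finset.card_le_four
  have hG : ¬ IsMulCommutative G := fun h => S.not_mem_center
    (mem_center_iff.mpr fun g => h.is_comm.comm g S.z)
  -- a Sylow subgroup through `Q`
  have hQ2 : IsPGroup 2 ↥S.Q := IsPGroup.of_card (n := 5) (by rw [S.card_Q]; norm_num)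
  obtain ⟨P, hP⟩ := hQ2.exists_le_sylow
  have hP128 := two_part hone P
  let Q' : Subgroup (P : Subgroup G) := S.Q.subgroupOf P
  have hQ' : Cfsg.IsExtraspecial 2 ↥Q' :=
    TI.isExtraspecial_congr (Subgroup.subgroupOfEquivOfLe hP).symm S.extra
  have hQ'c : Nat.card ↥Q' = 32 := by
    rw [Nat.card_congr (Subgroup.subgroupOfEquivOfLe hP).toEquiv, S.card_Q]
  have hab : ¬ ∃ A : Subgroup (P : Subgroup G), A.index = 2 ∧ ∀ a ∈ A, ∀ b ∈ A, a * b = b * a :=
    fun ⟨A, hA, hc⟩ => abelian_index_two_false hA hc hQ' hQ'c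
  haveI : Fintype (GaloisField 2 4) := Fintype.ofFinite _
  have hF : Fintype.card (GaloisField 2 4) = 16 := by
    rw [← Nat.card_eq_fintype_card, GaloisField.card 2 4 (by norm_num)]
    norm_num
  obtain ⟨R⟩ := (inferInstance : Nonempty (Sylow 2 (Cfsg.PSU 3 (GaloisField 2 4) 4)))
  rcases S0516.result hG h2 P hF R with ⟨n, hn, ⟨e⟩⟩ | hqd | hw | ⟨⟨e⟩⟩
  · refine hab (abelian_of_cyclic (x := e.symm (DihedralGroup.r 1)) (n := n) ?_ (by omega) ?_)
    · rw [Nat.card_congr e.toEquiv, DihedralGroup.nat_card]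
    · rw [MulEquiv.orderOf_eq, DihedralGroup.orderOf_r_one]
  · obtain ⟨n, hn, hc, x, y, hx, -⟩ := hqd
    exact hab (abelian_of_cyclic (x := x) (n := 2 ^ n) (by rw [hc, pow_succ, mul_comm]) (by positivity) hx)
  · exact hab (abelian_of_wreathed hw)
  · have hR : 2 ^ 7 ∣ Nat.card (Cfsg.PSU 3 (GaloisField 2 4) 4) := by
      rw [show 2 ^ 7 = Nat.card (R : Subgroup (Cfsg.PSU 3 (GaloisField 2 4) 4)) by
        rw [← Nat.card_congr e.toEquiv, hP128]; norm_num]
      exact card_subgroup_dvd_card _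
    have hU := Forms.card_PSU_mul (F := GaloisField 2 4) (q := 4) (n := 3) (by rw [hF]; norm_num) (by norm_num)
    rw [Forms.card_GU (by rw [hF]; norm_num) 3] at hU
    norm_num [Finset.prod_range_succ] at hU
    obtain ⟨k, hk⟩ := hR
    rw [Nat.card_eq_fintype_card] at hk
    omega

end Cfsg.Agent.J3Order
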