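import Cfsg.Agent.Lib.J3Order.Six
import Cfsg.Agent.Lib.DihedralCent.Tools

/-!
The case `C(x)/⟨x⟩ ≅ L₃(2)`: every element of order three commutes with an involution and has a
centraliser of order 504; the Sylow 3-subgroups have order at most 9.
-/

set_option autoImplicit false
set_option linter.style.haveILetI false
set_option linter.unusedSectionVars false

namespace Cfsg.Agent.J3Order

open Subgroup HallJankoType
open Cfsg.Agent.JankoOrder (inv_iff_orderOf)

universe u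

local notation "SL32" => Matrix.SpecialLinearGroup (Fin 3) (ZMod 2)
local notation "Inv" => JankoOrder.Inv

/-- A permutation matrix of order three. -/
def kThree : SL32 := ⟨!![0, 1, 0; 0, 0, 1; 1, 0, 0], by decide +kernel⟩

/-- A permutation matrix of order two. -/
def kTwo : SL32 := ⟨!![1, 0, 0; 0, 0, 1; 0, 1, 0], by decide +kernel⟩

theorem kTwo_inverts : kTwo * kTwo = 1 ∧ kTwo * kThree * kTwo⁻¹ = kThree⁻¹ := by
  have h : kTwo * kTwo = 1 := Subtype.ext (by decide +kernel)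
  refine ⟨h, ?_⟩
  rw [inv_eq_of_mul_eq_one_right h, eq_inv_iff_mul_eq_one]
  exact Subtype.ext (by decide +kernel)

theorem orderOf_kThree : orderOf kThree = 3 := by
  haveI : Fact (Nat.Prime 3) := ⟨Nat.prime_three⟩
  exact orderOf_eq_prime (Subtype.ext (by decide +kernel))
    fun h => absurd (congrArg Subtype.val h) (by decide +kernel)

set_option maxRecDepth 8000 in
theorem kThree_cent : ∀ M : Matrix (Fin 3) (Fin 3) (ZMod 2), M.det = 1 → M * kThree.1 = kThree.1 * M →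
    M = 1 ∨ M = kThree.1 ∨ M = kThree.1 * kThree.1 := by
  decide +kernel

theorem sl32_three {k : SL32} (hk : orderOf k = 3) :
    (∀ w : SL32, w * k = k * w → w ∈ zpowers k) ∧ ∃ i : SL32, i * i = 1 ∧ i * k * i⁻¹ = k⁻¹ := by
  haveI : Fact (Nat.Prime 3) := ⟨Nat.prime_three⟩
  obtain ⟨h, hh⟩ := exists_conj_mem_zpowers (H := SL32) (p := 3)
    (by rw [DihedralCentTools.sl32.2]; norm_num) hk orderOf_kThree
  have hgen : zpowers (h * k * h⁻¹) = zpowers kThree :=
    gen_of_mem hh (by rw [orderOf_conj_eq, hk, orderOf_kThree])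
  refine ⟨fun w hw => ?_, h⁻¹ * kTwo * h, ?_, ?_⟩
  · have hc : (h * w * h⁻¹) * kThree = kThree * (h * w * h⁻¹) :=
      commute_of_mem_zpowers (hgen.symm ▸ mem_zpowers kThree) (by
        calc h * w * h⁻¹ * (h * k * h⁻¹) = h * (w * k) * h⁻¹ := by group
          _ = h * k * h⁻¹ * (h * w * h⁻¹) := by rw [hw]; group)
    have hmem : h * w * h⁻¹ ∈ zpowers (h * k * h⁻¹) := by
      rw [hgen]
      rcases kThree_cent _ (h * w * h⁻¹).2 (congrArg Subtype.val hc) with e | e | e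
      · rw [show h * w * h⁻¹ = 1 from Subtype.ext e]; exact one_mem _
      · rw [show h * w * h⁻¹ = kThree from Subtype.ext e]; exact mem_zpowers _
      · rw [show h * w * h⁻¹ = kThree * kThree from Subtype.ext e]; exact mul_mem (mem_zpowers _) (mem_zpowers _)
    obtain ⟨j, hj⟩ := mem_zpowers_iff.mp hmem
    rw [conj_zpow, mul_right_cancel_iff, mul_left_cancel_iff] at hj
    exact mem_zpowers_iff.mpr ⟨j, hj⟩
  · calc h⁻¹ * kTwo * h * (h⁻¹ * kTwo * h) = h⁻¹ * (kTwo * kTwo) * h := by group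
      _ = 1 := by rw [kTwo_inverts.1, mul_one, inv_mul_cancel]
  · obtain ⟨j, hj⟩ := mem_zpowers_iff.mp hh
    have e : kTwo * (h * k * h⁻¹) * kTwo⁻¹ = (h * k * h⁻¹)⁻¹ := by
      rw [← hj, ← conj_zpow, kTwo_inverts.2, inv_zpow]
    calc h⁻¹ * kTwo * h * k * (h⁻¹ * kTwo * h)⁻¹ = h⁻¹ * (kTwo * (h * k * h⁻¹) * kTwo⁻¹) * h := by group
      _ = k⁻¹ := by rw [e]; group

section zthree

variable {G : Type*} [Group G]

theorem zpow_three_cases {a : G} (h : a ^ 3 = 1) (n : ℤ) : a ^ n = 1 ∨ a ^ n = a ∨ a ^ n = a⁻¹ := by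
  have e : a ^ n = a ^ (n % 3) := by
    conv_lhs => rw [← Int.mul_ediv_add_emod n 3]
    rw [zpow_add, zpow_mul, show a ^ (3 : ℤ) = 1 by exact_mod_cast h, one_zpow, one_mul]
  rw [e]
  have h1 := Int.emod_nonneg n (show (3 : ℤ) ≠ 0 by norm_num)
  have h2 := Int.emod_lt_of_pos n (show (0 : ℤ) < 3 by norm_num)
  interval_cases n % 3
  · exact .inl (zpow_zero a)
  · exact .inr (.inl (zpow_one a))
  · refine .inr (.inr (eq_inv_of_mul_eq_one_left ?_))
    rw [← zpow_add_one]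
    exact_mod_cast h

end zthree

variable {G : Type u} [Group G] [Finite G] {S : One G}

namespace Tri

variable (T : Tri S)

theorem x_pow : T.x ^ 3 = 1 := T.hx ▸ pow_orderOf_eq_one _

theorem card_H_seven (e : T.K ≃* SL32) : Nat.card ↥T.H = 504 := by
  rw [T.card_H, Nat.card_congr e.toEquiv, DihedralCentTools.sl32.2]

end Tri

/-- The two axes of a Sylow 3-subgroup of `C(x)`. -/
structure Axes (T : Tri S) where
  x' : G
  i : G
  hx' : orderOf x' = 3
  comm : T.x * x' = x' * T.x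
  notMem : x' ∉ zpowers T.x
  ix : i * T.x = T.x * i
  inv : i * x' * i⁻¹ = x'⁻¹
  cent : ∀ h : ↥T.H, (h : G) * x' * (h : G)⁻¹ * x'⁻¹ ∈ zpowers T.x → ∃ a b : ℤ, (h : G) = T.x ^ a * x' ^ b
  lift : ∀ w : ↥T.H, orderOf (w : G) = 3 → (w : G) ∉ zpowers T.x →
    ∃ d : ↥T.H, (d : G) * w * (d : G)⁻¹ * x' = x' * ((d : G) * w * (d : G)⁻¹)

theorem exists_axes (T : Tri S) (e : T.K ≃* SL32) : Nonempty (Axes T) := by
  haveI : Fact (Nat.Prime 3) := ⟨Nat.prime_three⟩
  obtain ⟨k, hk⟩ := exists_prime_orderOf_dvd_card' (G := T.K) 3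
    (by rw [Nat.card_congr e.toEquiv, DihedralCentTools.sl32.2]; norm_num)
  obtain ⟨hcent, i₀, hi₀, hinv₀⟩ := sl32_three (k := e k) (by rw [MulEquiv.orderOf_eq, hk])
  have hcentK : ∀ w : T.K, w * k = k * w → w ∈ zpowers k := fun w hw => by
    obtain ⟨j, hj⟩ := mem_zpowers_iff.mp (hcent (e w) (by rw [← map_mul, ← map_mul, hw]))
    exact mem_zpowers_iff.mpr ⟨j, e.injective (by rw [map_zpow, hj])⟩
  have hi1 : e.symm i₀ ≠ 1 := fun h => by
    have h0 : i₀ = 1 := e.symm.injective (by rw [h, map_one])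
    rw [h0, one_mul, inv_one, mul_one] at hinv₀
    have := eq_inv_self_of_odd (by rw [MulEquiv.orderOf_eq, hk]; decide) hinv₀.symm
    rw [← MulEquiv.orderOf_eq e, this, orderOf_one] at hk
    omega
  obtain ⟨l, hl, hlK⟩ := T.lift_involution (k := e.symm i₀) (by rw [← map_mul, hi₀, map_one]) hi1
  obtain ⟨r, rfl⟩ := QuotientGroup.mk'_surjective T.X k
  set k : T.K := QuotientGroup.mk' T.X r with hkdef
  have hmem : (l : G) * r * (l : G)⁻¹ * r ∈ zpowers T.x := by
    refine (T.mk_eq_one (a := l * r * l⁻¹ * r)).mp ?_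
    have h1 : e.symm i₀ * k * (e.symm i₀)⁻¹ = k⁻¹ := by
      apply e.injective
      simp only [map_mul, map_inv, MulEquiv.apply_symm_apply, hinv₀]
    simp only [QuotientGroup.mk_mul, QuotientGroup.mk_inv, hlK]
    show e.symm i₀ * k * (e.symm i₀)⁻¹ * k = 1
    rw [h1, inv_mul_cancel]
  obtain ⟨c, hc⟩ : ∃ c, c = (l : G) * r * (l : G)⁻¹ * r := ⟨_, rfl⟩
  rw [← hc] at hmem
  have hlx : Commute (l : G) T.x := mem_cent.mp l.2
  have hlc : Commute (l : G) c := commute_of_mem_zpowers hmem hlx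
  have hrc : Commute (r : G) c := commute_of_mem_zpowers hmem (mem_cent.mp r.2)
  have hc3 := T.X_cube hmem
  have hc2 : c ^ 2 = c⁻¹ := eq_inv_of_mul_eq_one_left (by rw [← pow_succ]; exact hc3)
  set x' : G := (r : G) * c with hx'def
  have hinv : (l : G) * x' * (l : G)⁻¹ = x'⁻¹ := by
    refine eq_inv_of_mul_eq_one_left ?_
    calc (l : G) * x' * (l : G)⁻¹ * x' = ((l : G) * r * (l : G)⁻¹) * ((l : G) * c * (l : G)⁻¹) * (r * c) := by
          rw [hx'def]; group
      _ = ((l : G) * r * (l : G)⁻¹) * (c * r) * c := by rw [hlc.eq]; group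
      _ = ((l : G) * r * (l : G)⁻¹ * r) * (c * c) := by rw [← hrc.eq]; group
      _ = 1 := by rw [← hc, ← pow_two, hc2, mul_inv_cancel]
  have hx'H : x' ∈ T.H := mul_mem r.2 (mem_cent.mpr (commute_of_mem_zpowers hmem rfl).symm)
  have hk3 : orderOf k = 3 := hk
  have hmk : (QuotientGroup.mk (⟨x', hx'H⟩ : ↥T.H) : T.K) = k := by
    rw [hkdef, QuotientGroup.mk'_apply, QuotientGroup.eq, mem_subgroupOf]
    push_cast
    rw [hx'def, mul_inv_rev, mul_assoc, inv_mul_cancel, mul_one]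
    exact inv_mem hmem
  have hx'3 : x' ^ 3 = 1 := by
    have h3 : x' ^ 3 ∈ zpowers T.x := by
      refine (T.mk_eq_one (a := ⟨x', hx'H⟩ ^ 3)).mp ?_
      rw [QuotientGroup.mk_pow, hmk, ← hk3, pow_orderOf_eq_one]
    have hfix : (l : G) * x' ^ 3 * (l : G)⁻¹ = x' ^ 3 := by
      rw [commute_of_mem_zpowers h3 hlx, mul_inv_cancel_right]
    rw [← conj_pow, hinv, inv_pow] at hfix
    refine eq_inv_self_of_odd (Odd.of_dvd_nat (by decide : Odd 3) ?_) hfix
    exact orderOf_dvd_of_pow_eq_one (T.X_cube h3)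
  have hx'ne : x' ∉ zpowers T.x := fun h => by
    have h1 := T.mk_eq_one.mpr (show ((⟨x', hx'H⟩ : ↥T.H) : G) ∈ zpowers T.x from h)
    rw [hmk] at h1
    rw [h1, orderOf_one] at hk3
    omega
  -- elements over `⟨k⟩`
  have hover : ∀ h : ↥T.H, (QuotientGroup.mk h : T.K) ∈ zpowers k →
      ∃ a b : ℤ, (h : G) = T.x ^ a * x' ^ b := by
    intro h hh
    obtain ⟨b, hb⟩ := mem_zpowers_iff.mp hh
    rw [← hmk, ← QuotientGroup.mk_zpow, QuotientGroup.eq, mem_subgroupOf] at hb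
    push_cast at hb
    obtain ⟨a, ha⟩ := mem_zpowers_iff.mp hb
    refine ⟨a, b, ?_⟩
    have hcm : Commute (T.x ^ a) (x' ^ b) :=
      ((show Commute T.x x' from (mem_cent.mp hx'H).symm).zpow_zpow a b)
    rw [hcm.eq, ha, mul_inv_cancel_left]
  refine ⟨⟨x', l, orderOf_eq_prime hx'3 fun h => hx'ne (h ▸ one_mem _), (mem_cent.mp hx'H).symm, hx'ne, hlx.eq,
    hinv, fun h hh => hover h (hcentK _ ?_), fun w hw hwX => ?_⟩⟩
  · have h1 := T.mk_eq_one.mpr (show ((h * ⟨x', hx'H⟩ * h⁻¹ * ⟨x', hx'H⟩⁻¹ : ↥T.H) : G) ∈ zpowers T.x from hh)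
    simp only [QuotientGroup.mk_mul, QuotientGroup.mk_inv, hmk] at h1
    exact mul_inv_eq_iff_eq_mul.mp (mul_inv_eq_one.mp h1)
  · have hwK : orderOf (QuotientGroup.mk w : T.K) = 3 := by
      refine orderOf_eq_prime ?_ fun h => hwX (T.mk_eq_one.mp h)
      have hw3 : w ^ 3 = 1 := Subtype.ext (show (w : G) ^ 3 = 1 from hw ▸ pow_orderOf_eq_one _)
      rw [← QuotientGroup.mk_pow, hw3, QuotientGroup.mk_one]
    obtain ⟨d₀, hd₀⟩ := exists_conj_mem_zpowers (H := T.K) (p := 3)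
      (by rw [Nat.card_congr e.toEquiv, DihedralCentTools.sl32.2]; norm_num) hwK hk3
    obtain ⟨d, rfl⟩ := QuotientGroup.mk'_surjective T.X d₀
    obtain ⟨a, b, hab⟩ := hover (d * w * d⁻¹) hd₀
    refine ⟨d, ?_⟩
    rw [show ((d : G) * w * (d : G)⁻¹) = T.x ^ a * x' ^ b from hab]
    exact (((show Commute T.x x' from (mem_cent.mp hx'H).symm).zpow_left a).mul_left
      ((Commute.refl x').zpow_left b)).eq

namespace Axes

variable {T : Tri S} (A : Axes T)

/-- Membership of the elementary subgroup `⟨x, x'⟩`. -/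
abbrev InR (r : G) : Prop := r * T.x = T.x * r ∧ r * A.x' = A.x' * r

theorem x'_pow : A.x' ^ 3 = 1 := A.hx' ▸ pow_orderOf_eq_one _

theorem cases {r : G} (hr : A.InR r) : ∃ a b : ℤ, r = T.x ^ a * A.x' ^ b :=
  A.cent ⟨r, mem_cent.mpr hr.1⟩ (by
    show r * A.x' * r⁻¹ * A.x'⁻¹ ∈ zpowers T.x
    rw [hr.2, mul_inv_cancel_right, mul_inv_cancel]; exact one_mem _)

theorem comm_R {n r : G} (h1 : n * T.x = T.x * n) (h2 : n * A.x' = A.x' * n) (hr : A.InR r) : n * r = r * n := by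
  obtain ⟨a, b, rfl⟩ := A.cases hr
  exact (((show Commute n T.x from h1).zpow_right a).mul_right ((show Commute n A.x' from h2).zpow_right b)).eq

theorem InR_x : A.InR T.x := ⟨rfl, A.comm⟩
theorem InR_x' : A.InR A.x' := ⟨A.comm.symm, rfl⟩

/-- An element of `C(x)` inverting an element of `R` outside `⟨x⟩` pins it to the second axis. -/
theorem inverted {n r : G} (hn : n * T.x = T.x * n) (hr : A.InR r) (hrX : r ∉ zpowers T.x)
    (hinv : n * r * n⁻¹ = r⁻¹) : r ∈ zpowers A.x' := by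
  obtain ⟨a, b, hab⟩ := A.cases hr
  have hxa : n * T.x ^ a * n⁻¹ = T.x ^ a := by
    rw [((show Commute n T.x from hn).zpow_right a).eq, mul_inv_cancel_right]
  -- `n` maps `x'` into `R`
  have hx'R : A.InR (n * A.x' * n⁻¹) := by
    have hb : A.InR (n * A.x' ^ b * n⁻¹) := by
      have e : n * A.x' ^ b * n⁻¹ = (T.x ^ a)⁻¹ * r⁻¹ := by
        rw [← hinv, hab]
        calc n * A.x' ^ b * n⁻¹ = (n * T.x ^ a * n⁻¹)⁻¹ * (n * (T.x ^ a * A.x' ^ b) * n⁻¹) := by group
          _ = _ := by rw [hxa]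
      rw [e]
      exact ⟨(((Commute.refl T.x).zpow_left a).inv_left.mul_left (show Commute r T.x from hr.1).inv_left).eq,
        (((show Commute T.x A.x' from A.comm).zpow_left a).inv_left.mul_left
          (show Commute r A.x' from hr.2).inv_left).eq⟩
    rcases zpow_three_cases A.x'_pow b with e | e | e <;> rw [e] at hb hab
    · exact absurd (hab ▸ (mul_one (T.x ^ a)).symm ▸ zpow_mem (mem_zpowers T.x) a) hrX
    · exact hb
    · have e' : n * A.x' * n⁻¹ = (n * A.x'⁻¹ * n⁻¹)⁻¹ := by group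
      rw [e']
      exact ⟨((show Commute _ T.x from hb.1).inv_left).eq, ((show Commute _ A.x' from hb.2).inv_left).eq⟩
  obtain ⟨p, q, hpq⟩ := A.cases hx'R
  -- the exponent of `x'` in the image
  have hni : A.InR n → False := fun h => by
    have h1 := A.comm_R h.1 h.2 hr
    rw [h1, mul_inv_cancel_right] at hinv
    refine hrX ?_
    have hr3 : Odd (orderOf r) := by
      refine Odd.of_dvd_nat (by decide : Odd 3) (orderOf_dvd_of_pow_eq_one ?_)
      rw [hab, ((show Commute T.x A.x' from A.comm).zpow_zpow a b).mul_pow, ← zpow_natCast, ← zpow_natCast,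
        zpow_comm, zpow_natCast, T.x_pow, one_zpow, one_mul, zpow_comm, zpow_natCast, A.x'_pow, one_zpow]
    rw [eq_inv_self_of_odd hr3 hinv.symm]
    exact one_mem _
  -- `i n` or `n` centralises `x'` modulo `⟨x⟩`
  have hin : ∀ g : G, g * T.x = T.x * g → g * A.x' * g⁻¹ = T.x ^ p * A.x' → A.InR g := by
    intro g hg hgx
    obtain ⟨c, d, hcd⟩ := A.cent ⟨g, mem_cent.mpr hg⟩ (by
      rw [hgx, mul_inv_cancel_right]; exact zpow_mem (mem_zpowers _) _)
    refine ⟨hg, ?_⟩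
    rw [show g = T.x ^ c * A.x' ^ d from hcd]
    exact (((show Commute T.x A.x' from A.comm).zpow_left c).mul_left ((Commute.refl A.x').zpow_left d)).eq
  have hkey : n * A.x' * n⁻¹ = A.x'⁻¹ := by
    rcases zpow_three_cases A.x'_pow q with e | e | e <;> rw [e] at hpq
    · exfalso
      rw [mul_one] at hpq
      have e' : A.x' = n⁻¹ * T.x ^ p * n := by rw [← hpq]; group
      rw [mul_assoc n⁻¹, ← ((show Commute n T.x from hn).zpow_right p).eq, inv_mul_cancel_left] at e'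
      exact A.notMem (e' ▸ zpow_mem (mem_zpowers _) p)
    · exact (hni (hin n hn hpq)).elim
    · have hix : Commute A.i T.x := A.ix
      have hig : A.i * n * A.x' * (A.i * n)⁻¹ = T.x ^ p * A.x' := by
        calc A.i * n * A.x' * (A.i * n)⁻¹ = A.i * (n * A.x' * n⁻¹) * A.i⁻¹ := by group
          _ = (A.i * T.x ^ p * A.i⁻¹) * (A.i * A.x' * A.i⁻¹)⁻¹ := by rw [hpq]; group
          _ = T.x ^ p * A.x' := by rw [(hix.zpow_right p).eq, mul_inv_cancel_right, A.inv, inv_inv]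
      have hR := hin (A.i * n) (hix.mul_left (show Commute n T.x from hn)).eq hig
      have e' : A.x' = T.x ^ p * A.x' := by
        rw [← hig, hR.2, mul_inv_cancel_right]
      rw [hpq, right_eq_mul.mp e', one_mul]
  rw [hab] at hinv ⊢
  have h2 : T.x ^ a * A.x'⁻¹ ^ b = (T.x ^ a * A.x' ^ b)⁻¹ := by
    rw [← hinv, ← hkey, conj_zpow]
    calc T.x ^ a * (n * A.x' ^ b * n⁻¹) = (n * T.x ^ a * n⁻¹) * (n * A.x' ^ b * n⁻¹) := by rw [hxa]
      _ = _ := by group
  rw [((show Commute T.x A.x' from A.comm).zpow_zpow a b).eq, mul_inv_rev, inv_zpow] at h2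
  have ha : T.x ^ a = 1 := eq_inv_self_of_odd (Odd.of_dvd_nat (by decide : Odd 3)
    (orderOf_dvd_of_pow_eq_one (T.X_cube (zpow_mem (mem_zpowers _) a)))) (mul_right_cancel h2).symm
  rw [ha, one_mul]
  exact zpow_mem (mem_zpowers _) b

end Axes

end Cfsg.Agent.J3Order
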