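import Cfsg.Agent.Lib.J3Order.Seven

/-!
In the case `C(x)/⟨x⟩ ≅ L₃(2)` all four lines of a Sylow 3-subgroup of `C(x)` have even centralisers,
so this subgroup is a Sylow 3-subgroup of the whole group.
-/

set_option autoImplicit false
set_option linter.style.haveILetI false
set_option linter.unusedSectionVars false

namespace Cfsg.Agent.J3Order

open Subgroup HallJankoType
open Cfsg.Agent.JankoOrder (inv_iff_orderOf)

universe u

local notation "SL32" => Matrix.SpecialLinearGroup (Fin 3) (ZMod 2)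
local notation "Inv" => JankoOrder.Inv

/-- Commuting with some involution. -/
def Ev {G : Type*} [Group G] (w : G) : Prop := ∃ i : G, Inv i ∧ w * i = i * w

theorem Ev.zpow {G : Type*} [Group G] {w : G} (h : Ev w) (n : ℤ) : Ev (w ^ n) := by
  obtain ⟨i, hi, hc⟩ := h
  exact ⟨i, hi, ((show Commute w i from hc).zpow_left n).eq⟩

theorem Ev.of_swap {G : Type*} [Group G] [Finite G] {u a b : G} (hab : a * b = b * a) (hne : a ≠ b)
    (hu : u * a * u⁻¹ = b) (hu' : u * b * u⁻¹ = a) : Ev (a * b) := by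
  refine inv_of_even_comm (even_of_sq_comm (g := u) (w := a) ?_ ?_) ?_
  · refine mul_inv_eq_iff_eq_mul.mp ?_
    rw [show u * u * a * (u * u)⁻¹ = u * (u * a * u⁻¹) * u⁻¹ by group, hu, hu']
  · exact fun e => hne (by rw [← hu, e, mul_inv_cancel_right])
  · refine (mul_inv_eq_iff_eq_mul.mp ?_).symm
    rw [show u * (a * b) * u⁻¹ = (u * a * u⁻¹) * (u * b * u⁻¹) by group, hu, hu', hab]

variable {G : Type u} [Group G] [Finite G] {S : One G}

namespace Axes

variable {T : Tri S} (A : Axes T)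

theorem R_cube {r : G} (hr : A.InR r) : r ^ 3 = 1 := by
  obtain ⟨a, b, rfl⟩ := A.cases hr
  rw [((show Commute T.x A.x' from A.comm).zpow_zpow a b).mul_pow, ← zpow_natCast, ← zpow_natCast,
    zpow_comm, zpow_natCast, T.x_pow, one_zpow, one_mul, zpow_comm, zpow_natCast, A.x'_pow, one_zpow]

/-- Two commuting elements of order three, the first conjugate into `⟨x⟩`, move into `R`. -/
theorem exists_move {r s : G} (hr : orderOf r = 3) (hs : orderOf s = 3) (hrs : r * s = s * r)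
    (hsr : s ∉ zpowers r) {g : G} (hg : zpowers (g * r * g⁻¹) = zpowers T.x) :
    ∃ h : G, h * r * h⁻¹ = g * r * g⁻¹ ∧ A.InR (h * s * h⁻¹) ∧ h * s * h⁻¹ ∉ zpowers T.x := by
  have hsH : g * s * g⁻¹ ∈ T.H := by
    show g * s * g⁻¹ ∈ centralizer ({T.x} : Set G)
    rw [← cent_eq_of_zpowers_eq hg, mem_cent_conj, mem_cent]
    exact hrs.symm
  have hnot : g * s * g⁻¹ ∉ zpowers T.x := fun h => hsr (by
    rw [← hg] at h
    obtain ⟨k, hk⟩ := mem_zpowers_iff.mp h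
    rw [conj_zpow, mul_right_cancel_iff, mul_left_cancel_iff] at hk
    exact mem_zpowers_iff.mpr ⟨k, hk⟩)
  obtain ⟨d, hd⟩ := A.lift ⟨_, hsH⟩ (by rw [orderOf_conj_eq, hs]) hnot
  have hdx : Commute (d : G) T.x := mem_cent.mp d.2
  have hfix : ∀ w ∈ zpowers T.x, (d : G) * w * (d : G)⁻¹ = w := fun w hw => by
    rw [commute_of_mem_zpowers hw hdx.eq, mul_inv_cancel_right]
  refine ⟨(d : G) * g, ?_, ?_, ?_⟩
  · rw [show (d : G) * g * r * ((d : G) * g)⁻¹ = (d : G) * (g * r * g⁻¹) * (d : G)⁻¹ by group,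
      hfix _ (hg ▸ mem_zpowers _)]
  · rw [show (d : G) * g * s * ((d : G) * g)⁻¹ = (d : G) * (g * s * g⁻¹) * (d : G)⁻¹ by group]
    refine ⟨?_, hd⟩
    exact ((hdx.mul_left (show Commute (g * s * g⁻¹) T.x from mem_cent.mp hsH)).mul_left hdx.inv_left).eq
  · rw [show (d : G) * g * s * ((d : G) * g)⁻¹ = (d : G) * (g * s * g⁻¹) * (d : G)⁻¹ by group]
    intro h
    refine hnot ?_
    have e := hfix _ h
    rw [mul_right_cancel_iff, mul_left_cancel_iff] at e
    exact e ▸ h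

variable [IsSimpleGroup G]

theorem exists_t : ∃ t : G, t * T.x * t⁻¹ = T.x⁻¹ ∧ t * A.x' = A.x' * t := by
  obtain ⟨c, -, hc⟩ := S.exists_inverter T.mem T.hx
  obtain ⟨h, h1, h2, h3⟩ := A.exists_move T.hx A.hx' A.comm A.notMem (g := c) (by rw [hc, zpowers_inv])
  rw [hc] at h1
  have hix : Commute A.i T.x := A.ix
  have hn : h * A.i * h⁻¹ * T.x = T.x * (h * A.i * h⁻¹) := by
    have hc' : Commute (h * A.i * h⁻¹) (h * T.x * h⁻¹) := by
      show _ = _
      calc h * A.i * h⁻¹ * (h * T.x * h⁻¹) = h * (A.i * T.x) * h⁻¹ := by group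
        _ = _ := by rw [hix.eq]; group
    rw [h1] at hc'
    exact (by simpa using hc'.inv_right : Commute _ T.x).eq
  have hwin := A.inverted hn h2 h3 (by
    calc h * A.i * h⁻¹ * (h * A.x' * h⁻¹) * (h * A.i * h⁻¹)⁻¹ = h * (A.i * A.x' * A.i⁻¹) * h⁻¹ := by group
      _ = _ := by rw [A.inv]; group)
  obtain ⟨k, hk⟩ := mem_zpowers_iff.mp hwin
  rcases zpow_three_cases A.x'_pow k with e | e | e <;> rw [e] at hk
  · exact absurd (conj_eq_one_iff.mp hk.symm) (fun h => A.notMem (h ▸ one_mem _))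
  · exact ⟨h, h1, mul_inv_eq_iff_eq_mul.mp hk.symm⟩
  · refine ⟨A.i * h, ?_, mul_inv_eq_iff_eq_mul.mp ?_⟩
    · calc A.i * h * T.x * (A.i * h)⁻¹ = A.i * (h * T.x * h⁻¹) * A.i⁻¹ := by group
        _ = T.x⁻¹ := by rw [h1, hix.inv_right.eq, mul_inv_cancel_right]
    · calc A.i * h * A.x' * (A.i * h)⁻¹ = A.i * (h * A.x' * h⁻¹) * A.i⁻¹ := by group
        _ = (A.i * A.x' * A.i⁻¹)⁻¹ := by rw [← hk]; group
        _ = A.x' := by rw [A.inv, inv_inv]

theorem ev_x : Ev T.x := ⟨T.u, ⟨T.hu2, fun h => T.huz (.inl h)⟩, T.hxu⟩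

theorem ev_x' : Ev A.x' := by
  obtain ⟨t, ht, htx⟩ := A.exists_t
  exact inv_of_even_comm (even_of_sq_comm (sq_comm_of_inverts ht)
    (not_comm_of_inverts (by rw [T.hx]; decide) T.x_not_one ht)) htx.symm

theorem exists_swap : ∃ u : G, u * T.x * u⁻¹ = A.x' ∧ u * A.x' * u⁻¹ = T.x := by
  obtain ⟨t, ht, htx⟩ := A.exists_t
  obtain ⟨i, hi, hic⟩ := A.ev_x'
  obtain ⟨g, hg⟩ := T.exists_conj_three A.hx' hi hic
  have hX : T.x ∉ zpowers A.x' := fun h => A.notMem (gen_of_mem h (by rw [T.hx, A.hx']) ▸ mem_zpowers _)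
  obtain ⟨h, h1, h2, h3⟩ := A.exists_move A.hx' T.hx A.comm.symm hX hg
  have hn : h * t * h⁻¹ * T.x = T.x * (h * t * h⁻¹) := by
    refine commute_of_mem_zpowers (hg ▸ mem_zpowers T.x : T.x ∈ zpowers (g * A.x' * g⁻¹)) ?_
    rw [← h1]
    calc h * t * h⁻¹ * (h * A.x' * h⁻¹) = h * (t * A.x') * h⁻¹ := by group
      _ = _ := by rw [htx]; group
  have hin := A.inverted hn h2 h3 (by
    calc h * t * h⁻¹ * (h * T.x * h⁻¹) * (h * t * h⁻¹)⁻¹ = h * (t * T.x * t⁻¹) * h⁻¹ := by group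
      _ = _ := by rw [ht]; group)
  have hix : Commute A.i T.x := A.ix
  obtain ⟨k, hk⟩ := mem_zpowers_iff.mp hin
  obtain ⟨l, hl⟩ := mem_zpowers_iff.mp (hg ▸ h1 ▸ mem_zpowers (h * A.x' * h⁻¹) : h * A.x' * h⁻¹ ∈ zpowers T.x)
  -- fix the sign of the image of `x`
  obtain ⟨f, hf1, m, hf2⟩ : ∃ f : G, f * T.x * f⁻¹ = A.x' ∧ ∃ m : ℤ, f * A.x' * f⁻¹ = T.x ^ m := by
    rcases zpow_three_cases A.x'_pow k with e | e | e <;> rw [e] at hk
    · exact absurd (conj_eq_one_iff.mp hk.symm) T.x_not_one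
    · exact ⟨h, hk.symm, l, hl.symm⟩
    · refine ⟨A.i * h, ?_, l, ?_⟩
      · calc A.i * h * T.x * (A.i * h)⁻¹ = A.i * (h * T.x * h⁻¹) * A.i⁻¹ := by group
          _ = (A.i * A.x' * A.i⁻¹)⁻¹ := by rw [← hk]; group
          _ = A.x' := by rw [A.inv, inv_inv]
      · calc A.i * h * A.x' * (A.i * h)⁻¹ = A.i * (h * A.x' * h⁻¹) * A.i⁻¹ := by group
          _ = T.x ^ l := by rw [← hl, (hix.zpow_right l).eq, mul_inv_cancel_right]
  rcases zpow_three_cases T.x_pow m with e | e | e <;> rw [e] at hf2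
  · exact absurd (conj_eq_one_iff.mp hf2) (fun h => A.notMem (h ▸ one_mem _))
  · exact ⟨f, hf1, hf2⟩
  · refine ⟨t * f, ?_, ?_⟩
    · calc t * f * T.x * (t * f)⁻¹ = t * (f * T.x * f⁻¹) * t⁻¹ := by group
        _ = A.x' := by rw [hf1, htx, mul_inv_cancel_right]
    · calc t * f * A.x' * (t * f)⁻¹ = t * (f * A.x' * f⁻¹) * t⁻¹ := by group
        _ = (t * T.x * t⁻¹)⁻¹ := by rw [hf2]; group
        _ = T.x := by rw [ht, inv_inv]

theorem ev_R {r : G} (hr : A.InR r) : Ev r := by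
  obtain ⟨a, b, rfl⟩ := A.cases hr
  obtain ⟨t, ht, htx⟩ := A.exists_t
  obtain ⟨u, hu1, hu2⟩ := A.exists_swap
  have hne : T.x ≠ A.x' := fun h => A.notMem (h ▸ mem_zpowers _)
  have hne' : T.x ≠ A.x'⁻¹ := fun h => A.notMem (inv_mem_iff.mp (h ▸ mem_zpowers _))
  have hix : Commute A.i T.x := A.ix
  have hd : Ev (T.x * A.x') := Ev.of_swap A.comm hne hu1 hu2
  have hd' : Ev (T.x * A.x'⁻¹) := by
    refine Ev.of_swap (u := A.i * t * u) (show Commute T.x A.x'⁻¹ from (show Commute T.x A.x' from A.comm).inv_right).eq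
      hne' ?_ ?_
    · calc A.i * t * u * T.x * (A.i * t * u)⁻¹ = A.i * (t * (u * T.x * u⁻¹) * t⁻¹) * A.i⁻¹ := by group
        _ = A.x'⁻¹ := by rw [hu1, htx, mul_inv_cancel_right, A.inv]
    · calc A.i * t * u * A.x'⁻¹ * (A.i * t * u)⁻¹ = A.i * (t * (u * A.x' * u⁻¹) * t⁻¹)⁻¹ * A.i⁻¹ := by group
        _ = T.x := by rw [hu2, ht, inv_inv, hix.eq, mul_inv_cancel_right]
  have hc : Commute T.x A.x' := A.comm
  rcases zpow_three_cases T.x_pow a with ea | ea | ea <;> rcases zpow_three_cases A.x'_pow b with eb | eb | eb <;>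
    rw [ea, eb]
  · simpa using A.ev_x'.zpow 0
  · simpa using A.ev_x'.zpow 1
  · simpa using A.ev_x'.zpow (-1)
  · simpa using ev_x (T := T)
  · exact hd
  · exact hd'
  · simpa using (ev_x (T := T)).zpow (-1)
  · simpa [hc.inv_left.eq, mul_inv_rev] using hd'.zpow (-1)
  · simpa [hc.eq, mul_inv_rev] using hd.zpow (-1)

end Axes

namespace Tri

variable [IsSimpleGroup G] (T : Tri S) (e : T.K ≃* SL32)
include e

theorem seven_sylow : ∃ A : Axes T, ∀ P : Sylow 3 G, T.x ∈ P → A.x' ∈ P → Nat.card (P : Subgroup G) ≤ 9 := by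
  haveI : Fact (Nat.Prime 3) := ⟨Nat.prime_three⟩
  obtain ⟨A⟩ := exists_axes T e
  refine ⟨A, fun P hx hx' => ?_⟩
  haveI : Nontrivial (P : Subgroup G) := ⟨⟨⟨T.x, hx⟩, 1, fun h => T.x_not_one (congrArg Subtype.val h)⟩⟩
  obtain ⟨⟨c, hc⟩, hc1⟩ := (nontrivial_iff_exists_ne (1 : center (P : Subgroup G))).mp P.isPGroup'.center_nontrivial
  have hcm : ∀ p ∈ (P : Subgroup G), p * (c : G) = c * p := fun p hp =>
    congrArg Subtype.val (mem_center_iff.mp hc ⟨p, hp⟩)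
  have hR : A.InR (c : G) := ⟨(hcm _ hx).symm, (hcm _ hx').symm⟩
  have ho : orderOf (c : G) = 3 := orderOf_eq_prime (A.R_cube hR) fun h => hc1 (Subtype.ext (Subtype.ext h))
  obtain ⟨i, hi, hic⟩ := A.ev_R hR
  have hd : Nat.card (P : Subgroup G) ∣ 504 := by
    rw [← T.card_H_seven e, ← T.card_cent_three ho hi hic]
    exact card_dvd_of_le fun p hp => mem_cent.mpr (hcm p hp)
  obtain ⟨n, hn⟩ := IsPGroup.iff_card.mp P.isPGroup'
  rw [hn] at hd ⊢
  by_contra h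
  have h3 : 3 ≤ n := by
    by_contra h'
    exact h (le_trans (Nat.pow_le_pow_right (by norm_num) (show n ≤ 2 by omega)) (by norm_num))
  have := (pow_dvd_pow 3 h3).trans hd
  norm_num at this

theorem exists_sylow : ∃ A : Axes T, ∃ P : Sylow 3 G, Nat.card (P : Subgroup G) = 9 ∧
    ∀ p ∈ (P : Subgroup G), A.InR p := by
  haveI : Fact (Nat.Prime 3) := ⟨Nat.prime_three⟩
  obtain ⟨A, hA⟩ := T.seven_sylow e
  let R : Subgroup G := centralizer ({T.x} : Set G) ⊓ centralizer ({A.x'} : Set G)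
  have hxR : T.x ∈ R := ⟨mem_cent.mpr rfl, mem_cent.mpr A.comm⟩
  have hx'R : A.x' ∈ R := ⟨mem_cent.mpr A.comm.symm, mem_cent.mpr rfl⟩
  have hR : IsPGroup 3 ↥R := fun r => ⟨1, Subtype.ext (by
    rw [pow_one]; exact A.R_cube ⟨mem_cent.mp r.2.1, mem_cent.mp r.2.2⟩)⟩
  obtain ⟨P, hP⟩ := hR.exists_le_sylow
  have hle := hA P (hP hxR) (hP hx'R)
  obtain ⟨n, hn⟩ := IsPGroup.iff_card.mp P.isPGroup'
  have h9 : Nat.card (P : Subgroup G) = 9 := by
    have hlt : zpowers T.x < (P : Subgroup G) :=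
      lt_of_le_of_ne (zpowers_le.mpr (hP hxR)) fun h => A.notMem (h ▸ hP hx'R)
    have h3 : 3 < Nat.card (P : Subgroup G) := by
      have hlt' : Nat.card (zpowers T.x) < Nat.card (P : Subgroup G) :=
        Set.Finite.card_lt_card (Set.toFinite _) hlt
      rwa [Nat.card_zpowers, T.hx] at hlt'
    rw [hn] at h3 hle ⊢
    have h2 : n < 3 := by
      by_contra h'
      have := Nat.pow_le_pow_right (show 0 < 3 by norm_num) (show 3 ≤ n by omega)
      omega
    interval_cases n <;> omega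
  refine ⟨A, P, h9, fun p hp => ?_⟩
  haveI : IsMulCommutative (P : Subgroup G) := IsPGroup.isMulCommutative_of_card_eq_prime_sq (p := 3) (by rw [h9]; norm_num)
  have hcomm : ∀ q ∈ (P : Subgroup G), p * q = q * p := fun q hq =>
    congrArg Subtype.val (mul_comm' (⟨p, hp⟩ : (P : Subgroup G)) ⟨q, hq⟩)
  exact ⟨hcomm _ (hP hxR), hcomm _ (hP hx'R)⟩

/-- Every element of order three has a centraliser of order 504. -/
theorem seven_three {w : G} (hw : orderOf w = 3) :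
    Ev w ∧ Nat.card ↥(centralizer ({w} : Set G)) = 504 := by
  haveI : Fact (Nat.Prime 3) := ⟨Nat.prime_three⟩
  obtain ⟨A, P, -, hP⟩ := T.exists_sylow e
  obtain ⟨Q, hQ⟩ := (IsPGroup.of_card (n := 1) (G := zpowers w) (by rw [Nat.card_zpowers, hw, pow_one])).exists_le_sylow
  obtain ⟨g, hg⟩ := MulAction.exists_smul_eq G Q P
  have hgw : g * w * g⁻¹ ∈ (P : Subgroup G) := by
    rw [← hg, Sylow.coe_subgroup_smul]
    exact Subgroup.smul_mem_pointwise_smul w (MulAut.conj g) _ (hQ (mem_zpowers w))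
  obtain ⟨i, hi, hic⟩ := A.ev_R (hP _ hgw)
  have hev : Ev w := by
    refine ⟨g⁻¹ * i * g, ⟨?_, fun h => hi.2 ?_⟩, ?_⟩
    · calc g⁻¹ * i * g * (g⁻¹ * i * g) = g⁻¹ * (i * i) * g := by group
        _ = 1 := by rw [hi.1, mul_one, inv_mul_cancel]
    · calc i = g * (g⁻¹ * i * g) * g⁻¹ := by group
        _ = 1 := by rw [h, mul_one, mul_inv_cancel]
    · calc w * (g⁻¹ * i * g) = g⁻¹ * (g * w * g⁻¹ * i) * g := by group
        _ = g⁻¹ * i * g * w := by rw [hic]; group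
  obtain ⟨j, hj, hjc⟩ := hev
  exact ⟨⟨j, hj, hjc⟩, by rw [T.card_cent_three hw hj hjc, T.card_H_seven e]⟩

theorem seven_not_27 : ¬ 27 ∣ Nat.card G := by
  haveI : Fact (Nat.Prime 3) := ⟨Nat.prime_three⟩
  obtain ⟨A, P, hP, -⟩ := T.exists_sylow e
  intro h
  have := P.pow_dvd_card_of_pow_dvd_card (n := 3) (by simpa using h)
  rw [hP] at this
  norm_num at this

theorem seven_63 : 63 ∣ Nat.card G := by
  have h := card_subgroup_dvd_card T.H
  rw [T.card_H_seven e] at h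
  exact dvd_trans (by norm_num) h

theorem seven_no35 {w y : G} (hw : orderOf w = 3) (hy : orderOf y = 5) (hc : w * y = y * w) : False := by
  have h := Subgroup.orderOf_dvd_natCard (centralizer ({w} : Set G)) (x := y) (mem_cent.mpr hc.symm)
  rw [hy, (T.seven_three e hw).2] at h
  norm_num at h

end Tri

end Cfsg.Agent.J3Order
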