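import Cfsg.Agent.Lib.J3Order.Basics

/-!
The case `C(x)/⟨x⟩ ≅ A₆`: the odd core of the centraliser of an element of order five has order 15.
-/

set_option autoImplicit false
set_option linter.style.haveILetI false
set_option linter.unusedSectionVars false

namespace Cfsg.Agent.J3Order

open Subgroup HallJankoType
open Cfsg.Agent.JankoOrder (inv_iff_orderOf)

universe u

local notation "A6" => alternatingGroup (Fin 6)
local notation "Inv" => JankoOrder.Inv

/-- The five-cycle `(0 1 2 3 4)` of degree six. -/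
def fiveCycle : Equiv.Perm (Fin 6) := List.formPerm [0, 1, 2, 3, 4]

/-- `(1 4)(2 3)`. -/
def fiveInv : Equiv.Perm (Fin 6) := Equiv.swap 1 4 * Equiv.swap 2 3

theorem fiveCycle_facts : orderOf fiveCycle = 5 ∧ fiveInv * fiveInv = 1 ∧
    fiveInv * fiveCycle * fiveInv⁻¹ = fiveCycle⁻¹ ∧ Equiv.Perm.sign fiveInv = 1 := by
  refine ⟨?_, by decide +kernel, by decide +kernel, by decide +kernel⟩
  haveI : Fact (Nat.Prime 5) := ⟨by norm_num⟩
  exact orderOf_eq_prime (by decide +kernel) (by decide +kernel)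

set_option maxRecDepth 8000 in
theorem fiveCycle_cent : ∀ σ : Equiv.Perm (Fin 6), σ * fiveCycle = fiveCycle * σ → σ ^ 5 = 1 := by
  decide +kernel

theorem isConj_fiveCycle {g : Equiv.Perm (Fin 6)} (hg : orderOf g = 5) : IsConj fiveCycle g := by
  have key : ∀ {σ : Equiv.Perm (Fin 6)}, orderOf σ = 5 → σ.cycleType = Multiset.replicate 1 5 := by
    intro σ hσ
    obtain ⟨n, hn⟩ := Equiv.Perm.cycleType_prime_order (σ := σ) (by rw [hσ]; norm_num)
    rw [hσ] at hn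
    have h6 : σ.cycleType.sum ≤ 6 := by
      rw [Equiv.Perm.sum_cycleType]
      exact le_trans (Finset.card_le_univ _) (by simp)
    rw [hn, Multiset.sum_replicate, smul_eq_mul] at h6
    rw [hn, show n + 1 = 1 by omega]
  exact Equiv.Perm.isConj_iff_cycleType_eq.mpr ((key fiveCycle_facts.1).trans (key hg).symm)

theorem six_five_inverter {g : A6} (hg : orderOf g = 5) :
    ∃ i : A6, i * i = 1 ∧ i * g * i⁻¹ = g⁻¹ := by
  obtain ⟨π, hπ⟩ := isConj_iff.mp (isConj_fiveCycle (g := (g : Equiv.Perm (Fin 6)))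
    (by rw [Subgroup.orderOf_coe]; exact hg))
  obtain ⟨-, h2, h3, h4⟩ := fiveCycle_facts
  refine ⟨⟨π * fiveInv * π⁻¹, Equiv.Perm.mem_alternatingGroup.mpr (by simp [h4])⟩, Subtype.ext ?_,
    Subtype.ext ?_⟩
  · show π * fiveInv * π⁻¹ * (π * fiveInv * π⁻¹) = 1
    calc π * fiveInv * π⁻¹ * (π * fiveInv * π⁻¹) = π * (fiveInv * fiveInv) * π⁻¹ := by group
      _ = 1 := by rw [h2, mul_one, mul_inv_cancel]
  · show π * fiveInv * π⁻¹ * (g : Equiv.Perm (Fin 6)) * (π * fiveInv * π⁻¹)⁻¹ = (g : Equiv.Perm (Fin 6))⁻¹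
    rw [← hπ]
    calc π * fiveInv * π⁻¹ * (π * fiveCycle * π⁻¹) * (π * fiveInv * π⁻¹)⁻¹
        = π * (fiveInv * fiveCycle * fiveInv⁻¹) * π⁻¹ := by group
      _ = _ := by rw [h3]; group

theorem six_five_three {g h : A6} (hg : orderOf g = 5) (h3 : h ^ 3 = 1) (hc : g * h = h * g) : h = 1 := by
  obtain ⟨π, hπ⟩ := isConj_iff.mp (isConj_fiveCycle (g := (g : Equiv.Perm (Fin 6)))
    (by rw [Subgroup.orderOf_coe]; exact hg))
  have hgc : (g : Equiv.Perm (Fin 6)) * h = h * g := congrArg Subtype.val hc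
  have h5 := fiveCycle_cent (π⁻¹ * h * π) (by
    have e : fiveCycle = π⁻¹ * g * π := by rw [← hπ]; group
    rw [e]
    calc π⁻¹ * (h : Equiv.Perm (Fin 6)) * π * (π⁻¹ * g * π) = π⁻¹ * (h * g) * π := by group
      _ = π⁻¹ * g * π * (π⁻¹ * h * π) := by rw [← hgc]; group)
  have h5' : (h : Equiv.Perm (Fin 6)) ^ 5 = 1 := by
    calc (h : Equiv.Perm (Fin 6)) ^ 5 = π * ((π⁻¹ * h * π) ^ 5) * π⁻¹ := by
          simp only [pow_succ, pow_zero, one_mul]; group
      _ = 1 := by rw [h5, mul_one, mul_inv_cancel]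
  refine Subtype.ext (orderOf_eq_one_iff.mp (Nat.eq_one_of_dvd_coprimes (by norm_num : Nat.Coprime 3 5) ?_
    (orderOf_dvd_of_pow_eq_one h5')))
  rw [Subgroup.orderOf_coe]
  exact orderOf_dvd_of_pow_eq_one h3

variable {G : Type u} [Group G] [Finite G] {S : One G}

namespace Tri

variable (T : Tri S)

theorem x_not_one : T.x ≠ 1 := fun h => by
  have := T.hx
  rw [h, orderOf_one] at this
  omega

/-- An element of order three commuting with an involution is conjugate to an element of `⟨x⟩`. -/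
theorem exists_conj_three {w i : G} (hw : orderOf w = 3) (hi : Inv i) (hc : w * i = i * w) :
    ∃ g : G, zpowers (g * w * g⁻¹) = zpowers T.x := by
  obtain ⟨g, hg⟩ := S.even_conj (.inl rfl) hw hi hc T.mem T.hx
  exact ⟨g, gen_of_mem hg (by rw [orderOf_conj_eq, hw, T.hx])⟩

theorem card_cent_three {w i : G} (hw : orderOf w = 3) (hi : Inv i) (hc : w * i = i * w) :
    Nat.card ↥(centralizer ({w} : Set G)) = Nat.card ↥T.H := by
  obtain ⟨g, hg⟩ := T.exists_conj_three hw hi hc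
  rw [← card_cent_conj g w, cent_eq_of_zpowers_eq hg]

theorem mk_eq_one {a : ↥T.H} : (QuotientGroup.mk a : T.K) = 1 ↔ (a : G) ∈ zpowers T.x :=
  (QuotientGroup.eq_one_iff a).trans mem_subgroupOf

theorem orderOf_mk {a : ↥T.H} (h3 : orderOf (a : G) ≠ 1) (hc : Nat.Coprime (orderOf (a : G)) 3) :
    orderOf (QuotientGroup.mk a : T.K) = orderOf (a : G) := by
  set n := orderOf (QuotientGroup.mk a : T.K) with hn
  have hmem : (a : G) ^ n ∈ zpowers T.x := by
    rw [← Subgroup.coe_pow]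
    exact T.mk_eq_one.mp (by rw [QuotientGroup.mk_pow, hn, pow_orderOf_eq_one])
  have h := T.X_cube hmem
  rw [← pow_mul] at h
  refine Nat.dvd_antisymm ?_ (hc.dvd_of_dvd_mul_right (orderOf_dvd_of_pow_eq_one h))
  rw [Subgroup.orderOf_coe]
  exact orderOf_map_dvd (QuotientGroup.mk' T.X) a

theorem card_H_six (e : T.K ≃* A6) : Nat.card ↥T.H = 1080 := by
  rw [T.card_H, Nat.card_congr e.toEquiv, nat_card_alternatingGroup, Nat.card_eq_fintype_card, Fintype.card_fin]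
  rfl

variable [IsSimpleGroup G]

/-- A 2-element inverting `x` and acting on `⟨y⟩` with order four. -/
theorem five_of_root {f y : G} (hxy : T.x * y = y * T.x) (hy : orderOf y = 5) (hfx : f * T.x * f⁻¹ = T.x⁻¹)
    {j : ℕ} (hj : orderOf f = 2 ^ j) (h2 : f ^ 2 * y * (f ^ 2)⁻¹ = y⁻¹) : ∃ i, Inv i ∧ y * i = i * y := by
  have h4y : f ^ 4 * y * (f ^ 4)⁻¹ = y := by
    calc f ^ 4 * y * (f ^ 4)⁻¹ = f ^ 2 * (f ^ 2 * y * (f ^ 2)⁻¹) * (f ^ 2)⁻¹ := by group
      _ = f ^ 2 * y⁻¹ * (f ^ 2)⁻¹ := by rw [h2]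
      _ = (f ^ 2 * y * (f ^ 2)⁻¹)⁻¹ := by group
      _ = y := by rw [h2, inv_inv]
  by_cases h4 : f ^ 4 = 1
  · exfalso
    have hy1 : y ≠ 1 := fun h => by rw [h, orderOf_one] at hy; omega
    have hi : Inv (f * f) := ⟨by rw [← h4]; simp only [pow_succ, pow_zero, one_mul, mul_assoc], fun e2 => by
      rw [pow_two, e2, inv_one, one_mul, mul_one] at h2
      exact hy1 (eq_inv_self_of_odd (by rw [hy]; decide) h2.symm)⟩
    have hfx2 : T.x * (f * f) = f * f * T.x := (sq_comm_of_inverts hfx).symm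
    obtain ⟨g, hg, hgf⟩ := S.conj_into_C (w := f) hi (by rw [mul_assoc])
    have hgx : g * T.x * g⁻¹ ∈ S.C := by
      rw [mem_cent, ← hg]
      calc g * T.x * g⁻¹ * (g * (f * f) * g⁻¹) = g * (T.x * (f * f)) * g⁻¹ := by group
        _ = g * (f * f * T.x) * g⁻¹ := by rw [hfx2]
        _ = _ := by group
    refine S.no_root hgf hgx (by rw [orderOf_conj_eq, T.hx]) ?_ ?_
    · calc g * f * g⁻¹ * (g * T.x * g⁻¹) * (g * f * g⁻¹)⁻¹ = g * (f * T.x * f⁻¹) * g⁻¹ := by group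
        _ = _ := by rw [hfx]; group
    · rw [← hg]; group
  · refine inv_of_even_comm (g := f ^ 4) ?_ (mul_inv_eq_iff_eq_mul.mp h4y).symm
    rw [even_iff_two_dvd]
    have hd : orderOf (f ^ 4) ∣ 2 ^ j := hj ▸ orderOf_pow_dvd 4
    obtain ⟨i, -, hi⟩ := (Nat.dvd_prime_pow Nat.prime_two).mp hd
    rcases Nat.eq_zero_or_pos i with rfl | hi0
    · exact absurd (orderOf_eq_one_iff.mp (by rw [hi, pow_zero])) h4
    · rw [hi]; exact dvd_pow_self 2 hi0.ne'

variable (e : T.K ≃* A6)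
include e

/-- An element inverting both `x` and `y`. -/
theorem five_of_inverter {f : G} {y : ↥T.H} (hy : orderOf (y : G) = 5) (hfx : f * T.x * f⁻¹ = T.x⁻¹)
    (hinv : f * y * f⁻¹ = (y : G)⁻¹) : ∃ i, Inv i ∧ (y : G) * i = i * y := by
  have hy5 : (y : G) ^ 5 = 1 := orderOf_dvd_iff_pow_eq_one.mp (by rw [hy])
  obtain ⟨yK, hyK⟩ : ∃ k : T.K, k = QuotientGroup.mk y := ⟨_, rfl⟩
  have hyK5 : orderOf yK = 5 := hyK ▸ (T.orderOf_mk (by rw [hy]; norm_num) (by rw [hy]; norm_num)).trans hy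
  obtain ⟨i, hi2, hiy⟩ := six_five_inverter (g := e yK) (by rw [MulEquiv.orderOf_eq, hyK5])
  have hi2' : e.symm i * e.symm i = 1 := by rw [← map_mul, hi2, map_one]
  have hiK : e.symm i * yK * (e.symm i)⁻¹ = yK⁻¹ := by
    apply e.injective
    simp only [map_mul, map_inv, MulEquiv.apply_symm_apply, hiy]
  have hi1 : e.symm i ≠ 1 := fun h1 => by
    rw [h1, one_mul, inv_one, mul_one] at hiK
    have := eq_inv_self_of_odd (by rw [hyK5]; decide) hiK.symm
    rw [this, orderOf_one] at hyK5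
    omega
  obtain ⟨l, hl, hlK⟩ := T.lift_involution hi2' hi1
  obtain ⟨t, ht⟩ : ∃ t, t = (l : G) * y * (l : G)⁻¹ * y := ⟨_, rfl⟩
  have hmem : t ∈ zpowers T.x := by
    have h0 : ((l * y * l⁻¹ * y : ↥T.H) : T.K) = 1 := by
      simp only [QuotientGroup.mk_mul, QuotientGroup.mk_inv, hlK, ← hyK, hiK, inv_mul_cancel]
    rw [ht]
    exact T.mk_eq_one.mp h0
  have hty : Commute t (y : G) := (commute_of_mem_zpowers hmem (mem_cent.mp y.2) :).symm
  have hl5 : t = 1 := by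
    have e5 : (t * (y : G)⁻¹) ^ 5 = 1 := by
      rw [ht, mul_inv_cancel_right, conj_pow, hy5, mul_one, mul_inv_cancel]
    rw [hty.inv_right.mul_pow, inv_pow, hy5, inv_one, mul_one] at e5
    exact orderOf_eq_one_iff.mp (Nat.eq_one_of_dvd_coprimes (by norm_num : Nat.Coprime 3 5)
      (orderOf_dvd_of_pow_eq_one (T.X_cube hmem)) (orderOf_dvd_of_pow_eq_one e5))
  have hly : (l : G) * y * (l : G)⁻¹ = (y : G)⁻¹ := eq_inv_of_mul_eq_one_left (ht ▸ hl5)
  have hlx : Commute (l : G) T.x := mem_cent.mp l.2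
  obtain ⟨n, hn⟩ : ∃ n, n = (l : G) * f := ⟨_, rfl⟩
  have hnx : n * T.x * n⁻¹ = T.x⁻¹ := by
    calc n * T.x * n⁻¹ = l * (f * T.x * f⁻¹) * (l : G)⁻¹ := by rw [hn]; group
      _ = T.x⁻¹ := by rw [hfx, hlx.inv_right.eq, mul_inv_cancel_right]
  have hny : (y : G) * n = n * y := by
    have : n * y * n⁻¹ = y := by
      calc n * y * n⁻¹ = l * (f * y * f⁻¹) * (l : G)⁻¹ := by rw [hn]; group
        _ = ((l : G) * y * (l : G)⁻¹)⁻¹ := by rw [hinv]; group
        _ = y := by rw [hly, inv_inv]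
    exact (mul_inv_eq_iff_eq_mul.mp this).symm
  exact inv_of_even_comm (even_of_sq_comm (sq_comm_of_inverts hnx)
    (not_comm_of_inverts (by rw [T.hx]; decide) T.x_not_one hnx)) hny

/-- An element of order five of `C(x)` commutes with an involution. -/
theorem exists_five : ∃ w : G, orderOf w = 5 ∧ T.x * w = w * T.x ∧ ∃ i, Inv i ∧ w * i = i * w := by
  classical
  haveI : Fact (Nat.Prime 5) := ⟨by norm_num⟩
  have hH := T.card_H_six e
  obtain ⟨y, hy⟩ := exists_prime_orderOf_dvd_card' (G := ↥T.H) 5 (by rw [hH]; norm_num)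
  rw [← Subgroup.orderOf_coe] at hy
  refine ⟨y, hy, (mem_cent.mp y.2).symm, ?_⟩
  obtain ⟨c, hc, hcx⟩ := S.exists_inverter T.mem T.hx
  have hcH : c * (y : G) * c⁻¹ ∈ T.H := by
    have h := (mem_cent_conj (g := c) (a := T.x) (w := (y : G))).mpr y.2
    rwa [hcx, cent_eq_of_zpowers_eq (show zpowers T.x⁻¹ = zpowers T.x from zpowers_inv)] at h
  obtain ⟨d, hd⟩ := exists_conj_mem_zpowers (H := ↥T.H) (p := 5) (by rw [hH]; norm_num)
    (w := ⟨c * y * c⁻¹, hcH⟩) (y := y) (by rw [Subgroup.orderOf_mk, orderOf_conj_eq, hy])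
    (by rw [← Subgroup.orderOf_coe, hy])
  obtain ⟨h, hh⟩ : ∃ h, h = (d : G) * c := ⟨_, rfl⟩
  have hhx : h * T.x * h⁻¹ = T.x⁻¹ := by
    have hdx : Commute (d : G) T.x := mem_cent.mp d.2
    calc h * T.x * h⁻¹ = d * (c * T.x * c⁻¹) * (d : G)⁻¹ := by rw [hh]; group
      _ = T.x⁻¹ := by rw [hcx, hdx.inv_right.eq, mul_inv_cancel_right]
  have hhy : h * y * h⁻¹ ∈ zpowers (y : G) := by
    obtain ⟨k, hk⟩ := mem_zpowers_iff.mp hd
    refine mem_zpowers_iff.mpr ⟨k, ?_⟩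
    have e1 := congrArg (fun t : ↥T.H => (t : G)) hk
    simp only [SubgroupClass.coe_zpow, Subgroup.coe_mul, Subgroup.coe_inv] at e1
    rw [e1, hh]; group
  obtain ⟨m, hm, j, hj⟩ := exists_two_part h
  have hfx := inverts_pow_odd hhx hm
  have hxne : h ^ m * T.x ≠ T.x * h ^ m := not_comm_of_inverts (by rw [T.hx]; decide) T.x_not_one hfx
  have hy5 : (y : G) ^ 5 = 1 := orderOf_dvd_iff_pow_eq_one.mp (by rw [hy])
  obtain ⟨l, hl⟩ := mem_zpowers_iff.mp hhy
  have hn : ∀ n : ℕ, h ^ n * y * (h ^ n)⁻¹ = (y : G) ^ (l ^ n) := by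
    intro n
    induction n with
    | zero => simp
    | succ n ih =>
      rw [pow_succ, show h ^ n * h * (y : G) * (h ^ n * h)⁻¹ = h ^ n * (h * y * h⁻¹) * (h ^ n)⁻¹ by group,
        ← hl, ← conj_zpow, ih, ← zpow_mul, ← pow_succ]
  have hred : ∀ n : ℤ, (y : G) ^ n = (y : G) ^ (n % 5) := fun n => by
    rw [← zpow_mod_orderOf, hy]; rfl
  obtain ⟨q, hq⟩ : ∃ q : ℤ, q = l ^ m % 5 := ⟨_, rfl⟩
  have hfy : h ^ m * y * (h ^ m)⁻¹ = (y : G) ^ q := by rw [hn, hred, hq]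
  have hfy2 : (h ^ m) ^ 2 * y * ((h ^ m) ^ 2)⁻¹ = (y : G) ^ (q * q) := by
    calc (h ^ m) ^ 2 * y * ((h ^ m) ^ 2)⁻¹ = h ^ m * (h ^ m * y * (h ^ m)⁻¹) * (h ^ m)⁻¹ := by
          rw [pow_two]; group
      _ = (y : G) ^ (q * q) := by rw [hfy, ← conj_zpow, hfy, ← zpow_mul]
  have hq0 : q ≠ 0 := fun h0 => by
    rw [h0, zpow_zero, conj_eq_one_iff] at hfy
    rw [hfy, orderOf_one] at hy
    omega
  have h1 : 0 ≤ q := hq ▸ Int.emod_nonneg _ (by norm_num)
  have h2 : q < 5 := hq ▸ Int.emod_lt_of_pos _ (by norm_num)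
  obtain rfl | h23 | rfl : q = 1 ∨ q * q % 5 = 4 ∨ q = 4 := by interval_cases q <;> omega
  · rw [zpow_one, mul_inv_eq_iff_eq_mul] at hfy
    exact inv_of_even_comm (even_of_sq_comm (sq_comm_of_inverts hfx) hxne) hfy.symm
  · refine T.five_of_root (mem_cent.mp y.2).symm hy hfx hj ?_
    rw [hfy2, hred, h23]
    exact eq_inv_of_mul_eq_one_left (by rw [← zpow_add_one]; exact_mod_cast hy5)
  · refine T.five_of_inverter e hy hfx ?_
    rw [hfy]
    exact eq_inv_of_mul_eq_one_left (by rw [← zpow_add_one]; exact_mod_cast hy5)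

theorem three_dvd (F : Five S) : 3 ∣ Nat.card F.O := by
  obtain ⟨w, hw, hxw, i, hi, hwi⟩ := T.exists_five e
  obtain ⟨g, hg⟩ := S.even_conj (.inr rfl) hw hi hwi F.mem F.hy
  have hgen := gen_of_mem hg (by rw [orderOf_conj_eq, hw, F.hy])
  have hO : g * T.x * g⁻¹ ∈ F.O := by
    refine F.mem_O.mpr ⟨commute_of_mem_zpowers (hgen.symm ▸ mem_zpowers F.y) ?_, by rw [orderOf_conj_eq, T.hx]; decide⟩
    calc g * T.x * g⁻¹ * (g * w * g⁻¹) = g * (T.x * w) * g⁻¹ := by group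
      _ = g * w * g⁻¹ * (g * T.x * g⁻¹) := by rw [hxw]; group
  have h := Subgroup.orderOf_dvd_natCard _ hO
  rwa [orderOf_conj_eq, T.hx] at h

theorem card_cent_M {F : Five S} {w : G} (hw : w ∈ F.M₁) (h3 : orderOf w = 3) :
    Nat.card ↥(centralizer ({w} : Set G)) = 1080 :=
  (T.card_cent_three h3 (Frame.Outside.isInv S.toFrame F.hs) (F.comm_s hw)).trans (T.card_H_six e)

theorem not_three_five {F : Five S} (h1 : Nat.card F.M₁ = 3) (h2 : Nat.card F.M₂ = 5) : False := by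
  obtain ⟨w, hw, ho, -⟩ := F.exists_gen₁ Nat.prime_three h1
  have hle : F.O ≤ centralizer ({w} : Set G) := fun a ha => mem_cent.mpr
    (F.comm_three ha hw.1 (ho ▸ pow_orderOf_eq_one w))
  have h := card_dvd_of_le hle
  rw [T.card_cent_M e hw ho, F.card_O, h1, h2] at h
  norm_num at h

theorem not_three_three {F : Five S} (h1 : Nat.card F.M₁ = 3) (h2 : Nat.card F.M₂ = 3) : False := by
  obtain ⟨w, hw, ho, -⟩ := F.exists_gen₁ Nat.prime_three h1
  obtain ⟨v, hv, hov, -⟩ := F.swap.exists_gen₁ Nat.prime_three (by rw [F.swap_M₁, h2])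
  rw [F.swap_M₁] at hv
  obtain ⟨g, hg⟩ := T.exists_conj_three ho (Frame.Outside.isInv S.toFrame F.hs) (F.comm_s hw)
  have hH : ∀ a ∈ F.O, g * a * g⁻¹ ∈ T.H := fun a ha => by
    show g * a * g⁻¹ ∈ centralizer ({T.x} : Set G)
    rw [← cent_eq_of_zpowers_eq hg, mem_cent_conj, mem_cent]
    exact F.comm_three ha hw.1 (ho ▸ pow_orderOf_eq_one w)
  let yH : ↥T.H := ⟨g * F.y * g⁻¹, hH _ F.y_mem_O⟩
  let vH : ↥T.H := ⟨g * v * g⁻¹, hH _ hv.1⟩
  have hy5 : orderOf (yH : G) = 5 := by show orderOf (g * F.y * g⁻¹) = 5; rw [orderOf_conj_eq, F.hy]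
  have hv1 : (QuotientGroup.mk vH : T.K) = 1 := by
    refine e.injective ?_
    rw [map_one]
    refine six_five_three (g := e (QuotientGroup.mk yH))
      (by rw [MulEquiv.orderOf_eq, T.orderOf_mk (by rw [hy5]; norm_num) (by rw [hy5]; norm_num), hy5]) ?_ ?_
    · rw [← map_pow, ← QuotientGroup.mk_pow, show vH ^ 3 = 1 from Subtype.ext ?_, QuotientGroup.mk_one, map_one]
      show (g * v * g⁻¹) ^ 3 = 1
      rw [conj_pow, ← hov, pow_orderOf_eq_one, mul_one, mul_inv_cancel]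
    · rw [← map_mul, ← map_mul, ← QuotientGroup.mk_mul, ← QuotientGroup.mk_mul]
      refine congrArg e (congrArg QuotientGroup.mk (Subtype.ext ?_))
      show g * F.y * g⁻¹ * (g * v * g⁻¹) = g * v * g⁻¹ * (g * F.y * g⁻¹)
      calc g * F.y * g⁻¹ * (g * v * g⁻¹) = g * (F.y * v) * g⁻¹ := by group
        _ = _ := by rw [← F.y_central hv.1]; group
  have hvx : g * v * g⁻¹ ∈ zpowers (g * w * g⁻¹) := hg.symm ▸ T.mk_eq_one.mp hv1
  obtain ⟨k, hk⟩ := mem_zpowers_iff.mp hvx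
  rw [conj_zpow, mul_right_cancel_iff, mul_left_cancel_iff] at hk
  have h := F.M_inter (zpow_mem hw k) hv (one_mem _) (by rw [one_mul, hk])
  rw [h.2.2, orderOf_one] at hov
  omega

/-- In this case `O` has order 15. -/
theorem six_final (F : Five S) : Nat.card F.M₁ * Nat.card F.M₂ = 3 := by
  have h3 := T.three_dvd e F
  rw [F.card_O] at h3
  rcases F.card_M₁ with a | a | a <;> rcases F.card_M₂ with b | b | b <;> rw [a, b] at h3 ⊢ <;>
    first
      | omega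
      | exact absurd (T.not_three_five e a b) id
      | exact absurd (T.not_three_three e a b) id
      | exact absurd (T.not_three_five e (F := F.swap) (by rw [F.swap_M₁, b]) (by rw [F.swap_M₂, a])) id

end Tri

end Cfsg.Agent.J3Order
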