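import Cfsg.Agent.Lib.J3Order.Local
import Cfsg.Agent.Lib.ClassicalSimple.PGOQuot
import Cfsg.Agent.S3035

/-!
An element `x` of order three commuting with a noncentral involution of `Q`: the quotient of `C(x)` by
`⟨x⟩` is `L₃(2)` or `A₆`.
-/

set_option autoImplicit false
set_option linter.style.haveILetI false
set_option linter.unusedSectionVars false

namespace Cfsg.Agent.J3Order

open Subgroup HallJankoType
open Cfsg.Agent.JankoOrder (inv_iff_orderOf)

universe u

local notation "A5" => alternatingGroup (Fin 5)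
local notation "Inv" => JankoOrder.Inv

set_option maxRecDepth 8000 in
theorem five_cent_three : ∀ g : A5, g ^ 3 = 1 ∧ g ≠ 1 → Fintype.card {x : A5 // x * g = g * x} = 3 := by
  decide +kernel

theorem swap_cent_four : Fintype.card {g : Equiv.Perm (Fin 4) //
    g * Equiv.swap 0 1 = Equiv.swap 0 1 * g} = 4 := by decide +kernel

set_option maxRecDepth 8000 in
theorem swap_cent_five : Fintype.card {g : Equiv.Perm (Fin 5) //
    g * Equiv.swap 0 1 = Equiv.swap 0 1 * g} = 12 := by decide +kernel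

variable {G : Type u} [Group G] [Finite G]

/-- An element of order three of `C` centralising a noncentral involution of `Q`. -/
structure Tri (S : One G) where
  x : G
  u : G
  mem : x ∈ S.C
  hx : orderOf x = 3
  hu : u ∈ S.Q
  hu2 : u * u = 1
  huz : ¬ S.Zp u
  hxu : x * u = u * x

theorem exists_tri (S : One G) : Nonempty (Tri S) := by
  haveI : Fact (Nat.Prime 3) := ⟨Nat.prime_three⟩
  obtain ⟨u, hu, hu2, huz⟩ := S.exists_noncentral
  obtain ⟨x, hx⟩ := exists_prime_orderOf_dvd_card'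
    (G := ↥(S.C ⊓ centralizer ({u} : Set G) : Subgroup G)) 3
    (by rw [S.card_cent_C_noncentral hu hu2 huz]; norm_num)
  exact ⟨⟨x, u, x.2.1, by rwa [Subgroup.orderOf_coe], hu, hu2, huz, mem_cent.mp x.2.2⟩⟩

namespace Tri

variable {S : One G} (T : Tri S)

/-- `C_Q(x)`. -/
abbrev F : Subgroup G := S.Q ⊓ centralizer ({T.x} : Set G)

theorem x_comm_z : T.x * S.z = S.z * T.x := mem_cent.mp T.mem

theorem x_not_mem_Q : T.x ∉ S.Q := fun h => by
  have := Subgroup.orderOf_dvd_natCard _ h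
  rw [T.hx, S.card_Q] at this
  norm_num at this

theorem z_mem_F : S.z ∈ T.F := ⟨S.toFrame.z_mem_Q, mem_cent.mpr T.x_comm_z.symm⟩
theorem u_mem_F : T.u ∈ T.F := ⟨T.hu, mem_cent.mpr T.hxu.symm⟩

theorem cube (g : G) : T.x * (T.x * (T.x * g * T.x⁻¹) * T.x⁻¹) * T.x⁻¹ = g := by
  have h : T.x ^ 3 = 1 := T.hx ▸ pow_orderOf_eq_one _
  calc T.x * (T.x * (T.x * g * T.x⁻¹) * T.x⁻¹) * T.x⁻¹ = T.x ^ 3 * g * (T.x ^ 3)⁻¹ := by
        simp only [pow_succ, pow_zero, one_mul]; group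
    _ = g := by rw [h, one_mul, inv_one, mul_one]

theorem card_F : Nat.card T.F = 8 := by
  classical
  haveI : Fact (Nat.Prime 3) := ⟨Nat.prime_three⟩
  obtain ⟨i, hi, hFi⟩ := (Nat.dvd_prime_pow Nat.prime_two).mp
    (show Nat.card T.F ∣ 2 ^ 5 by
      rw [show (2 : ℕ) ^ 5 = Nat.card ↥S.Q by rw [S.card_Q]; norm_num]
      exact card_dvd_of_le inf_le_left)
  have h3 : 3 ≤ Nat.card T.F := by
    have hsub : (({1, S.z, T.u} : Finset G) : Set G) ⊆ (T.F : Set G) := by
      intro w hw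
      simp only [Finset.coe_insert, Finset.coe_singleton, Set.mem_insert_iff, Set.mem_singleton_iff] at hw
      rcases hw with rfl | rfl | rfl
      · exact one_mem _
      · exact T.z_mem_F
      · exact T.u_mem_F
    have h := Set.ncard_le_ncard hsub (Set.toFinite _)
    rw [Set.ncard_coe_finset, Finset.card_eq_three.mpr
      ⟨1, S.z, T.u, (S.toFrame.z_ne_one).symm, fun e => T.huz (.inl e.symm), fun e => T.huz (.inr e.symm), rfl⟩,
      ← Nat.card_coe_set_eq] at h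
    exact h
  let P := zpowers (⟨T.x, T.mem⟩ : ↥S.C)
  have hP : IsPGroup 3 ↥P := IsPGroup.of_card (n := 1) (by
    rw [Nat.card_zpowers, ← Subgroup.orderOf_coe, pow_one]; exact T.hx)
  letI : MulAction ↥P ↥S.Q :=
    { smul := fun c q => ⟨((c : ↥S.C) : G) * q * ((c : ↥S.C) : G)⁻¹, S.toFrame.conj_mem (c : ↥S.C).2 q.2⟩
      one_smul := fun q => Subtype.ext (by show (1 : G) * q * (1 : G)⁻¹ = q; simp)
      mul_smul := fun c d q => Subtype.ext (by
        show (((c : ↥S.C) : G) * (d : ↥S.C)) * q * (((c : ↥S.C) : G) * (d : ↥S.C))⁻¹ =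
          ((c : ↥S.C) : G) * (((d : ↥S.C) : G) * q * ((d : ↥S.C) : G)⁻¹) * ((c : ↥S.C) : G)⁻¹
        group) }
  have hsm : ∀ (c : ↥P) (q : ↥S.Q),
      ((c • q : ↥S.Q) : G) = ((c : ↥S.C) : G) * q * ((c : ↥S.C) : G)⁻¹ := fun _ _ => rfl
  have hfix : ∀ q : ↥S.Q, q ∈ MulAction.fixedPoints ↥P ↥S.Q ↔ (q : G) ∈ T.F := by
    intro q
    rw [Subgroup.mem_inf, mem_cent]
    refine ⟨fun h => ⟨q.2, ?_⟩, fun h c => Subtype.ext ?_⟩
    · have e := congrArg Subtype.val (h ⟨⟨T.x, T.mem⟩, mem_zpowers _⟩)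
      rw [hsm] at e
      exact (mul_inv_eq_iff_eq_mul.mp e).symm
    · obtain ⟨n, hn⟩ := mem_zpowers_iff.mp c.2
      rw [hsm, ← hn, Subgroup.coe_zpow, mul_inv_eq_iff_eq_mul]
      exact (Commute.zpow_right (show Commute (q : G) T.x from h.2) n).symm.eq
  have hmod := hP.card_modEq_card_fixedPoints ↥S.Q
  have hFc : Nat.card (MulAction.fixedPoints ↥P ↥S.Q) = Nat.card T.F :=
    Nat.card_congr
      { toFun := fun q => ⟨(q.1 : G), (hfix q.1).mp q.2⟩
        invFun := fun q => ⟨⟨q.1, q.2.1⟩, (hfix ⟨q.1, q.2.1⟩).mpr q.2⟩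
        left_inv := fun _ => rfl
        right_inv := fun _ => rfl }
  rw [hFc, S.card_Q] at hmod
  have hm : 32 % 3 = Nat.card T.F % 3 := hmod
  have hne : Nat.card T.F ≠ 32 := fun h => T.x_not_mem_Q (S.self T.x T.mem fun q hq => by
    have : T.F = S.Q := eq_of_le_of_card_ge inf_le_left (by rw [S.card_Q, h])
    exact (mem_cent.mp ((this.symm ▸ hq : q ∈ T.F).2)).symm)
  rw [hFi] at h3 hm hne ⊢
  interval_cases i <;> simp_all

theorem F_nonabelian : ∃ f ∈ T.F, f * T.u ≠ T.u * f := by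
  classical
  by_contra hall
  push Not at hall
  -- then `F` is abelian
  have hab : ∀ a ∈ T.F, ∀ b ∈ T.F, a * b = b * a := by
    intro a ha b hb
    by_contra hne
    have h4 : ∀ w : ↥T.F, (w : G) * T.u = T.u * w := fun w => hall w w.2
    let zF : ↥T.F := ⟨S.z, T.z_mem_F⟩
    let uF : ↥T.F := ⟨T.u, T.u_mem_F⟩
    have hsub : (({1, zF, uF} : Finset ↥T.F) : Set ↥T.F) ⊆ (center ↥T.F : Set ↥T.F) := by
      intro w hw
      simp only [Finset.coe_insert, Finset.coe_singleton, Set.mem_insert_iff, Set.mem_singleton_iff] at hw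
      rcases hw with rfl | rfl | rfl
      · exact one_mem _
      · exact mem_center_iff.mpr fun g => Subtype.ext (S.toFrame.z_comm (S.Q_le g.2.1))
      · exact mem_center_iff.mpr fun g => Subtype.ext (h4 g)
    have h3 : 3 ≤ Nat.card (center ↥T.F) := by
      have h := Set.ncard_le_ncard hsub (Set.toFinite _)
      rw [Set.ncard_coe_finset, Finset.card_eq_three.mpr
        ⟨1, zF, uF, fun e => S.toFrame.z_ne_one (congrArg Subtype.val e).symm,
          fun e => T.huz (.inl (congrArg Subtype.val e).symm),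
          fun e => T.huz (.inr (congrArg Subtype.val e).symm), rfl⟩, ← Nat.card_coe_set_eq] at h
      exact h
    have hd : Nat.card (center ↥T.F) ∣ 2 ^ 3 := by
      have := card_subgroup_dvd_card (center ↥T.F)
      rwa [T.card_F] at this
    obtain ⟨k, hk, hkc⟩ := (Nat.dvd_prime_pow Nat.prime_two).mp hd
    have hidx := (center ↥T.F).card_mul_index
    rw [T.card_F, hkc] at hidx
    haveI : IsCyclic (↥T.F ⧸ center ↥T.F) := by
      haveI : Fact (Nat.Prime 2) := ⟨Nat.prime_two⟩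
      rw [hkc] at h3
      interval_cases k
      · exact absurd h3 (by norm_num)
      · exact absurd h3 (by norm_num)
      · exact isCyclic_of_prime_card (p := 2) (by rw [← Subgroup.index_eq_card]; omega)
      · haveI : Subsingleton (↥T.F ⧸ center ↥T.F) :=
          Finite.card_le_one_iff_subsingleton.mp (by rw [← Subgroup.index_eq_card]; omega)
        infer_instance
    exact hne (congrArg Subtype.val (commutative_of_cyclic_center_quotient
      (QuotientGroup.mk' (center ↥T.F)) (by rw [QuotientGroup.ker_mk']) (⟨a, ha⟩ : ↥T.F) ⟨b, hb⟩))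
  -- every element of `F` is then central in `Q`
  refine T.huz (S.toFrame.center_cases T.hu fun q hq => ?_)
  have hcz : ∀ {a b : G}, a ∈ S.Q → b ∈ S.Q → S.Zp (a * b * a⁻¹ * b⁻¹) := S.toFrame.comm_zp
  set q₁ := T.x * q * T.x⁻¹ with hq₁
  set q₂ := T.x * q₁ * T.x⁻¹ with hq₂
  have hq₁Q : q₁ ∈ S.Q := S.toFrame.conj_mem T.mem hq
  have hq₂Q : q₂ ∈ S.Q := S.toFrame.conj_mem T.mem hq₁Q
  set n := q * q₁ * q₂ with hn
  have hnQ : n ∈ S.Q := mul_mem (mul_mem hq hq₁Q) hq₂Q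
  have hx3 : T.x * q₂ * T.x⁻¹ = q := T.cube q
  have hxn : S.Zp (T.x * n * T.x⁻¹ * n⁻¹) := by
    have e : T.x * n * T.x⁻¹ = q₁ * q₂ * q := by
      calc T.x * n * T.x⁻¹ = (T.x * q * T.x⁻¹) * (T.x * q₁ * T.x⁻¹) * (T.x * q₂ * T.x⁻¹) := by
            rw [hn]; group
        _ = _ := by rw [hx3]
    have e' : T.x * n * T.x⁻¹ * n⁻¹ = (q⁻¹ * n * q⁻¹⁻¹ * n⁻¹) := by rw [e, hn]; group
    rw [e']
    exact hcz (inv_mem hq) hnQ
  have hnF : n ∈ T.F := by
    refine ⟨hnQ, mem_cent.mpr ?_⟩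
    rcases hxn with e | e
    · exact (mul_inv_eq_iff_eq_mul.mp (mul_inv_eq_one.mp e)).symm
    · exfalso
      have e1 : T.x * n * T.x⁻¹ = S.z * n := mul_inv_eq_iff_eq_mul.mp e
      have e3 := T.cube n
      have hxz : T.x * S.z * T.x⁻¹ = S.z := S.toFrame.z_conj T.mem
      rw [e1, show T.x * (S.z * n) * T.x⁻¹ = (T.x * S.z * T.x⁻¹) * (T.x * n * T.x⁻¹) by group, hxz, e1,
        ← mul_assoc S.z S.z n, S.toFrame.zz, one_mul, e1] at e3
      exact S.toFrame.z_ne_one (mul_eq_right.mp e3)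
  have hun : T.u * n = n * T.u := hab _ T.u_mem_F _ hnF
  have hxu : T.x * T.u * T.x⁻¹ = T.u := by rw [T.hxu, mul_inv_cancel_right]
  rcases S.toFrame.conj_in_Q T.hu hq with e | e
  · exact mul_inv_eq_iff_eq_mul.mp e
  · exfalso
    have e1 : T.u * q₁ * T.u⁻¹ = q₁ * S.z := by
      calc T.u * q₁ * T.u⁻¹ = (T.x * T.u * T.x⁻¹) * q₁ * (T.x * T.u * T.x⁻¹)⁻¹ := by rw [hxu]
        _ = T.x * (T.u * q * T.u⁻¹) * T.x⁻¹ := by rw [hq₁]; group
        _ = q₁ * S.z := by
          rw [e, hq₁]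
          calc T.x * (q * S.z) * T.x⁻¹ = T.x * q * T.x⁻¹ * (T.x * S.z * T.x⁻¹) := by group
            _ = _ := by rw [S.toFrame.z_conj T.mem]
    have e2 : T.u * q₂ * T.u⁻¹ = q₂ * S.z := by
      calc T.u * q₂ * T.u⁻¹ = (T.x * T.u * T.x⁻¹) * q₂ * (T.x * T.u * T.x⁻¹)⁻¹ := by rw [hxu]
        _ = T.x * (T.u * q₁ * T.u⁻¹) * T.x⁻¹ := by rw [hq₂]; group
        _ = q₂ * S.z := by
          rw [e1, hq₂]
          calc T.x * (q₁ * S.z) * T.x⁻¹ = T.x * q₁ * T.x⁻¹ * (T.x * S.z * T.x⁻¹) := by group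
            _ = _ := by rw [S.toFrame.z_conj T.mem]
    have e3 : T.u * n * T.u⁻¹ = n * S.z := by
      have c1 : S.z * q₁ = q₁ * S.z := (S.toFrame.z_comm (S.Q_le hq₁Q)).symm
      have c2 : S.z * q₂ = q₂ * S.z := (S.toFrame.z_comm (S.Q_le hq₂Q)).symm
      calc T.u * n * T.u⁻¹ = (T.u * q * T.u⁻¹) * (T.u * q₁ * T.u⁻¹) * (T.u * q₂ * T.u⁻¹) := by
            rw [hn]; group
        _ = q * (S.z * q₁) * S.z * (q₂ * S.z) := by rw [e, e1, e2]; group
        _ = q * q₁ * (S.z * S.z) * (q₂ * S.z) := by rw [c1]; group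
        _ = n * S.z := by rw [S.toFrame.zz, mul_one, hn, mul_assoc (q * q₁)]
    rw [hun, mul_inv_cancel_right] at e3
    exact S.toFrame.z_ne_one (left_eq_mul.mp e3)

theorem F_dihedral : Nonempty (DihedralGroup 4 ≃* ↥T.F) := by
  obtain ⟨f, hf, hfu⟩ := T.F_nonabelian
  have hfQ : f ∈ S.Q := hf.1
  have hu' : T.u⁻¹ = T.u := inv_of_sq T.hu2
  have hc : T.u * f * T.u = f * S.z := by
    rcases S.toFrame.conj_in_Q T.hu hfQ with e | e
    · exact absurd (mul_inv_eq_iff_eq_mul.mp e).symm hfu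
    · rwa [hu'] at e
  obtain ⟨a, ha, ha2, hinv⟩ : ∃ a ∈ T.F, a * a = S.z ∧ T.u * a * T.u = a * S.z := by
    rcases S.toFrame.sq_zp hfQ with h | h
    · refine ⟨f * T.u, mul_mem hf T.u_mem_F, ?_, ?_⟩
      · calc f * T.u * (f * T.u) = f * (T.u * f * T.u) := by group
          _ = S.z := by rw [hc, ← mul_assoc, h, one_mul]
      · calc T.u * (f * T.u) * T.u = T.u * f * T.u * T.u := by group
          _ = f * T.u * S.z := by
            rw [hc, mul_assoc, mul_assoc, S.toFrame.z_comm (S.Q_le T.hu)]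
    · exact ⟨f, hf, h, hc⟩
  refine ClassicalSimple.exists_dihedral_equiv T.card_F ⟨a, ha⟩ ⟨T.u, T.u_mem_F⟩ ?_ (Subtype.ext T.hu2)
    (Subtype.ext ?_)
  · haveI : Fact (Nat.Prime 2) := ⟨Nat.prime_two⟩
    rw [← Subgroup.orderOf_coe]
    refine orderOf_eq_prime_pow (p := 2) (n := 1) ?_ ?_
    · show ¬ a ^ 2 = 1
      rw [pow_two, ha2]
      exact S.toFrame.z_ne_one
    · show a ^ (2 ^ 2) = 1
      rw [show 2 ^ 2 = 2 * 2 from rfl, pow_mul, pow_two, pow_two, ha2, S.toFrame.zz]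
  · show T.u * a * T.u = a⁻¹
    rw [hinv]
    refine eq_inv_of_mul_eq_one_left ?_
    rw [mul_assoc, ← S.toFrame.z_comm (S.Q_le ha.1), ← mul_assoc, ha2, S.toFrame.zz]

theorem card_cent_C : Nat.card ↥(S.C ⊓ centralizer ({T.x} : Set G) : Subgroup G) = 24 := by
  set M := (S.C ⊓ centralizer ({T.x} : Set G) : Subgroup G) with hM
  let χ : ↥M →* A5 := S.ψ.comp (Subgroup.inclusion inf_le_left)
  have hk : Nat.card χ.ker = 8 := by
    rw [← T.card_F]
    exact Nat.card_congr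
      { toFun := fun c => ⟨((c : ↥M) : G), (S.mem_Q_iff (c : ↥M).2.1).mpr c.2, (c : ↥M).2.2⟩
        invFun := fun c => ⟨⟨c.1, S.Q_le c.2.1, c.2.2⟩, (S.mem_Q_iff (S.Q_le c.2.1)).mp c.2.1⟩
        left_inv := fun _ => rfl
        right_inv := fun _ => rfl }
  have hψx : S.ψ ⟨T.x, T.mem⟩ ^ 3 = 1 ∧ S.ψ ⟨T.x, T.mem⟩ ≠ 1 := by
    refine ⟨?_, fun h => T.x_not_mem_Q ((S.mem_Q_iff T.mem).mpr h)⟩
    rw [← map_pow]
    convert map_one S.ψ using 2
    exact Subtype.ext (show T.x ^ 3 = 1 from T.hx ▸ pow_orderOf_eq_one _)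
  have hr : Nat.card χ.range ≤ 3 := by
    refine le_trans ?_ (le_of_eq (Nat.card_eq_fintype_card.trans (five_cent_three _ hψx)))
    refine Nat.card_le_card_of_injective (fun c => ⟨(c : A5), ?_⟩)
      fun a b e => Subtype.ext (congrArg Subtype.val e :)
    obtain ⟨k, hk⟩ := c.2
    rw [← hk]
    show S.ψ ⟨(k : G), k.2.1⟩ * S.ψ ⟨T.x, T.mem⟩ = S.ψ ⟨T.x, T.mem⟩ * S.ψ ⟨(k : G), k.2.1⟩
    rw [← map_mul, ← map_mul]
    exact congrArg S.ψ (Subtype.ext (mem_cent.mp k.2.2))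
  have hd : 24 ∣ Nat.card ↥M := by
    have h8 : 8 ∣ Nat.card ↥M := T.card_F ▸ card_dvd_of_le (inf_le_inf_right _ S.Q_le)
    have h3 : 3 ∣ Nat.card ↥M := T.hx ▸ Subgroup.orderOf_dvd_natCard M ⟨T.mem, mem_cent.mpr rfl⟩
    omega
  have h := χ.ker.card_mul_index
  rw [index_ker, hk] at h
  have hpos : 0 < Nat.card ↥M := Nat.card_pos
  have := Nat.le_of_dvd hpos hd
  omega

theorem card_cent_inter {i : G} (hi : Inv i) (hc : T.x * i = i * T.x) :
    Nat.card ↥(centralizer ({i} : Set G) ⊓ centralizer ({T.x} : Set G) : Subgroup G) = 24 := by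
  haveI : Fact (Nat.Prime 3) := ⟨Nat.prime_three⟩
  obtain ⟨g, hg, hgx⟩ := S.conj_into_C hi hc
  obtain ⟨⟨c, hcC⟩, hc'⟩ := exists_conj_mem_zpowers (H := ↥S.C) (p := 3)
    (by rw [S.card_C]; norm_num) (w := ⟨g * T.x * g⁻¹, hgx⟩) (y := ⟨T.x, T.mem⟩)
    (by rw [Subgroup.orderOf_mk, ← MulAut.conj_apply, MulEquiv.orderOf_eq, T.hx])
    (by rw [Subgroup.orderOf_mk, T.hx])
  have hk : c * (g * T.x * g⁻¹) * c⁻¹ ∈ zpowers T.x := by
    obtain ⟨k, hk⟩ := mem_zpowers_iff.mp hc'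
    exact mem_zpowers_iff.mpr ⟨k, by simpa using congrArg (fun t : ↥S.C => (t : G)) hk⟩
  set e := c * g with he
  have hex : e * T.x * e⁻¹ ∈ zpowers T.x := by
    rw [he, show c * g * T.x * (c * g)⁻¹ = c * (g * T.x * g⁻¹) * c⁻¹ by group]; exact hk
  have hei : e * i * e⁻¹ = S.z := by
    rw [he, show c * g * i * (c * g)⁻¹ = c * (g * i * g⁻¹) * c⁻¹ by group, hg, S.toFrame.z_conj hcC]
  have hzp : zpowers (e * T.x * e⁻¹) = zpowers T.x := eq_of_le_of_card_ge (zpowers_le.mpr hex) (by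
    rw [Nat.card_zpowers, Nat.card_zpowers, ← MulAut.conj_apply, MulEquiv.orderOf_eq])
  rw [← T.card_cent_C]
  refine Nat.card_congr (Equiv.subtypeEquiv (MulAut.conj e).toEquiv fun w => ?_)
  show w ∈ centralizer ({i} : Set G) ⊓ centralizer ({T.x} : Set G) ↔
    e * w * e⁻¹ ∈ S.C ⊓ centralizer ({T.x} : Set G)
  simp only [Subgroup.mem_inf, mem_cent]
  have hconj : ∀ a : G, (w * a = a * w) ↔ (e * w * e⁻¹ * (e * a * e⁻¹) = e * a * e⁻¹ * (e * w * e⁻¹)) :=
    fun a => by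
      rw [show e * w * e⁻¹ * (e * a * e⁻¹) = e * (w * a) * e⁻¹ by group,
        show e * a * e⁻¹ * (e * w * e⁻¹) = e * (a * w) * e⁻¹ by group, mul_right_cancel_iff, mul_left_cancel_iff]
  rw [hconj i, hei, hconj T.x]
  refine and_congr Iff.rfl ⟨fun h => ?_, fun h => ?_⟩
  · obtain ⟨k, hk⟩ := mem_zpowers_iff.mp (hzp.symm ▸ mem_zpowers T.x : T.x ∈ zpowers (e * T.x * e⁻¹))
    rw [← hk]
    exact (Commute.zpow_right (show Commute (e * w * e⁻¹) (e * T.x * e⁻¹) from h) k).eq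
  · obtain ⟨k, hk⟩ := mem_zpowers_iff.mp hex
    rw [← hk]
    exact (Commute.zpow_right (show Commute (e * w * e⁻¹) T.x from h) k).eq

/-- `C(x)`. -/
abbrev H : Subgroup G := centralizer ({T.x} : Set G)

/-- `⟨x⟩` in `C(x)`. -/
abbrev X : Subgroup ↥T.H := (zpowers T.x).subgroupOf T.H

instance : T.X.Normal := ⟨fun n hn g => by
  rw [mem_subgroupOf] at hn ⊢
  obtain ⟨k, hk⟩ := mem_zpowers_iff.mp hn
  push_cast
  rw [← hk, ((show Commute (g : G) T.x from mem_cent.mp g.2).zpow_right k).eq, mul_inv_cancel_right]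
  exact zpow_mem (mem_zpowers _) k⟩

/-- `C(x) / ⟨x⟩`. -/
abbrev K := ↥T.H ⧸ T.X

theorem card_H : Nat.card ↥T.H = 3 * Nat.card T.K := by
  rw [T.X.card_eq_card_quotient_mul_card_subgroup,
    Nat.card_congr (Subgroup.subgroupOfEquivOfLe (zpowers_le.mpr (mem_cent.mpr rfl) : zpowers T.x ≤ T.H)).toEquiv,
    Nat.card_zpowers, T.hx, mul_comm]

theorem X_cube {c : G} (hc : c ∈ zpowers T.x) : c ^ 3 = 1 := by
  obtain ⟨k, rfl⟩ := mem_zpowers_iff.mp hc
  rw [← zpow_natCast, zpow_comm, show T.x ^ ((3 : ℕ) : ℤ) = 1 by rw [zpow_natCast, ← T.hx, pow_orderOf_eq_one],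
    one_zpow]

theorem lift_involution {k : T.K} (hk : k * k = 1) (hk1 : k ≠ 1) :
    ∃ i : ↥T.H, Inv (i : G) ∧ QuotientGroup.mk i = k := by
  induction k using QuotientGroup.induction_on with
  | _ h =>
    rw [← QuotientGroup.mk_mul, QuotientGroup.eq_one_iff, mem_subgroupOf] at hk
    have h6 : ((h : G) * h) ^ 3 = 1 := T.X_cube hk
    refine ⟨h ^ 3, ⟨?_, fun e => hk1 ?_⟩, ?_⟩
    · rw [Subgroup.coe_pow, ← pow_add, show 3 + 3 = 2 * 3 from rfl, pow_mul, pow_two]
      exact h6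
    · rw [Subgroup.coe_pow] at e
      refine (QuotientGroup.eq_one_iff h).mpr (mem_subgroupOf.mpr ?_)
      have : (h : G) = ((h : G) * h)⁻¹ := by
        rw [eq_inv_iff_mul_eq_one, ← e]; simp only [pow_succ, pow_zero, one_mul, mul_assoc]
      rw [this]
      exact inv_mem hk
    · rw [QuotientGroup.mk_pow, pow_succ, pow_two]
      show (QuotientGroup.mk h * QuotientGroup.mk h) * QuotientGroup.mk h = (QuotientGroup.mk h : T.K)
      rw [← QuotientGroup.mk_mul, (QuotientGroup.eq_one_iff (h * h)).mpr (mem_subgroupOf.mpr hk), one_mul]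

theorem card_cent_K {k : T.K} (hk : k * k = 1) (hk1 : k ≠ 1) :
    Nat.card ↥(centralizer ({k} : Set T.K)) = 8 := by
  obtain ⟨i, hi, rfl⟩ := T.lift_involution hk hk1
  have hmap : centralizer ({(QuotientGroup.mk i : T.K)} : Set T.K) =
      ((centralizer ({(i : G)} : Set G)).subgroupOf T.H).map (QuotientGroup.mk' T.X) := by
    ext w
    induction w using QuotientGroup.induction_on with
    | _ h =>
      rw [mem_cent, mem_map, ← QuotientGroup.mk_mul, ← QuotientGroup.mk_mul, QuotientGroup.eq, mem_subgroupOf]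
      refine ⟨fun hm => ⟨h, ?_, rfl⟩, ?_⟩
      · rw [mem_subgroupOf, mem_cent]
        set d := ((h * i)⁻¹ * (i * h) : ↥T.H) with hd
        have hdc : (d : G) * (i : G) = i * d := by
          obtain ⟨m, hm'⟩ := mem_zpowers_iff.mp hm
          rw [← hm']
          exact ((show Commute (i : G) T.x from mem_cent.mp i.2).zpow_right m).symm.eq
        have e : (i : G) * h = h * i * d := by rw [hd]; push_cast; group
        have hd2 : (d : G) * d = 1 := by
          have e2 : (h : G) = h * (d * d) := by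
            calc (h : G) = i * (i * h) := by rw [← mul_assoc, hi.1, one_mul]
              _ = i * (h * i * d) := by rw [e]
              _ = (i * h) * i * d := by group
              _ = h * i * (d * i) * d := by rw [e]; group
              _ = h * (i * i) * (d * d) := by rw [hdc]; group
              _ = h * (d * d) := by rw [hi.1, mul_one]
          exact mul_eq_left.mp e2.symm
        have hd1 : (d : G) = 1 := by
          have h3 := T.X_cube hm
          rw [pow_succ, pow_two, hd2, one_mul] at h3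
          exact h3
        rw [e, hd1, mul_one]
      · rintro ⟨v, hv, hvh⟩
        rw [QuotientGroup.mk'_apply, QuotientGroup.eq, mem_subgroupOf] at hvh
        rw [mem_subgroupOf, mem_cent] at hv
        push_cast at hvh ⊢
        set d := (v : G)⁻¹ * h with hd
        obtain ⟨m, hm'⟩ := mem_zpowers_iff.mp hvh
        have hdc : d * (i : G) = i * d := by
          rw [← hm']
          exact ((show Commute (i : G) T.x from mem_cent.mp i.2).zpow_right m).symm.eq
        have e : (h : G) * i = i * h := by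
          calc (h : G) * i = v * (d * i) := by rw [hd]; group
            _ = v * i * d := by rw [hdc, ← mul_assoc]
            _ = i * h := by rw [hv, hd]; group
        rw [e, inv_mul_cancel]
        exact one_mem _
  set J := (centralizer ({(i : G)} : Set G)).subgroupOf T.H with hJ
  let f : ↥J →* T.K := (QuotientGroup.mk' T.X).comp J.subtype
  have hrange : f.range = J.map (QuotientGroup.mk' T.X) := by rw [MonoidHom.range_comp, Subgroup.range_subtype]
  have hcJ : Nat.card J = 24 := by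
    rw [← T.card_cent_inter hi (mem_cent.mp i.2).symm]
    exact Nat.card_congr
      { toFun := fun c => ⟨((c : ↥T.H) : G), c.2, (c : ↥T.H).2⟩
        invFun := fun c => ⟨⟨c.1, c.2.2⟩, c.2.1⟩
        left_inv := fun _ => rfl
        right_inv := fun _ => rfl }
  have hker : Nat.card f.ker = 3 := by
    rw [← T.hx, ← Nat.card_zpowers]
    refine Nat.card_congr
      { toFun := fun c => ⟨(((c : ↥J) : ↥T.H) : G), mem_subgroupOf.mp ((QuotientGroup.eq_one_iff _).mp c.2)⟩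
        invFun := fun c => ⟨⟨⟨c.1, (zpowers_le.mpr (mem_cent.mpr rfl) : zpowers T.x ≤ T.H) c.2⟩,
          (zpowers_le.mpr (mem_cent.mpr (mem_cent.mp i.2).symm) : zpowers T.x ≤ centralizer ({(i : G)} : Set G)) c.2⟩,
          (QuotientGroup.eq_one_iff _).mpr c.2⟩
        left_inv := fun _ => rfl
        right_inv := fun _ => rfl }
  have h := f.ker.card_mul_index
  rw [index_ker, hker, hcJ] at h
  rw [hmap, ← hrange]
  omega

/-- `z` in `C(x)`. -/
abbrev zH : ↥T.H := ⟨S.z, mem_cent.mpr T.x_comm_z.symm⟩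

/-- `u` in `C(x)`. -/
abbrev uH : ↥T.H := ⟨T.u, mem_cent.mpr T.hxu.symm⟩

theorem F_inf_X {f : G} (hf : f ∈ S.Q) (h : f ∈ zpowers T.x) : f = 1 := by
  have h1 : orderOf f ∣ 32 := S.card_Q ▸ Subgroup.orderOf_dvd_natCard _ hf
  exact orderOf_eq_one_iff.mp (Nat.eq_one_of_dvd_coprimes (by norm_num) h1 (orderOf_dvd_of_pow_eq_one (T.X_cube h)))

/-- `C_Q(x) → C(x)/⟨x⟩`. -/
def toK : ↥T.F →* T.K :=
  (QuotientGroup.mk' T.X).comp (Subgroup.inclusion inf_le_right)

theorem toK_injective : Function.Injective T.toK := (injective_iff_map_eq_one _).mpr fun f hf =>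
  Subtype.ext (T.F_inf_X f.2.1 (mem_subgroupOf.mp
    ((QuotientGroup.eq_one_iff (N := T.X) (Subgroup.inclusion inf_le_right f : ↥T.H)).mp hf)))

/-- The image of `z`. -/
abbrev zK : T.K := T.toK ⟨S.z, T.z_mem_F⟩

/-- The image of `u`. -/
abbrev uK : T.K := T.toK ⟨T.u, T.u_mem_F⟩

theorem zK_inv : Inv T.zK :=
  ⟨by rw [← map_mul, show (⟨S.z, T.z_mem_F⟩ : ↥T.F) * ⟨S.z, T.z_mem_F⟩ = 1 from Subtype.ext S.toFrame.zz, map_one],
    fun e => S.toFrame.z_ne_one (congrArg Subtype.val (T.toK_injective (e.trans (map_one _).symm)))⟩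

theorem uK_inv : Inv T.uK :=
  ⟨by rw [← map_mul, show (⟨T.u, T.u_mem_F⟩ : ↥T.F) * ⟨T.u, T.u_mem_F⟩ = 1 from Subtype.ext T.hu2, map_one],
    fun e => T.huz (.inl (congrArg Subtype.val (T.toK_injective (e.trans (map_one _).symm))))⟩

theorem range_toK : T.toK.range = centralizer ({T.zK} : Set T.K) := by
  refine eq_of_le_of_card_ge ?_ ?_
  · rintro _ ⟨f, rfl⟩
    rw [mem_cent, ← map_mul, ← map_mul]
    exact congrArg T.toK (Subtype.ext (S.toFrame.z_comm (S.Q_le f.2.1)))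
  · rw [T.card_cent_K T.zK_inv.1 T.zK_inv.2, ← Nat.card_congr (MonoidHom.ofInjective T.toK_injective).toEquiv,
      T.card_F]

theorem cases :
    Nonempty (T.K ≃* Matrix.SpecialLinearGroup (Fin 3) (ZMod 2)) ∨
      Nonempty (T.K ≃* ↥(alternatingGroup (Fin 6))) := by
  haveI : Fact (Nat.Prime 2) := ⟨Nat.prime_two⟩
  obtain ⟨d⟩ := T.F_dihedral
  have hperm : ∀ n : ℕ, ∀ (hn : 2 ≤ n), Fintype.card {g : Equiv.Perm (Fin n) //
      g * Equiv.swap ⟨0, by omega⟩ ⟨1, by omega⟩ = Equiv.swap ⟨0, by omega⟩ ⟨1, by omega⟩ * g} ≠ 8 →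
      ∀ e : T.K ≃* Equiv.Perm (Fin n), False := by
    intro n hn hne e
    set τ : Equiv.Perm (Fin n) := Equiv.swap ⟨0, by omega⟩ ⟨1, by omega⟩ with hτ
    refine hne ?_
    rw [← T.card_cent_K (k := e.symm τ) (by rw [← map_mul, hτ, Equiv.swap_mul_self, map_one])
      (fun h => by
        rw [EmbeddingLike.map_eq_one_iff, hτ, Equiv.Perm.one_def, Equiv.swap_eq_refl_iff] at h
        exact absurd (Fin.ext_iff.mp h) (by norm_num)), ← Nat.card_eq_fintype_card]
    refine Nat.card_congr (Equiv.subtypeEquiv e.symm.toEquiv fun g => ?_)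
    show g * τ = τ * g ↔ e.symm g ∈ centralizer ({e.symm τ} : Set T.K)
    rw [mem_cent, ← map_mul, ← map_mul, e.symm.injective.eq_iff]
  rcases S3035.result T.zK (inv_iff_orderOf.mp T.zK_inv)
      ⟨((MonoidHom.ofInjective T.toK_injective).trans (MulEquiv.subgroupCongr T.range_toK)).symm.trans d.symm⟩
    with h | ⟨⟨e⟩⟩ | ⟨⟨e⟩⟩ | h | h
  · exfalso
    set Z := centralizer ({T.zK} : Set T.K) with hZ
    set N := Cfsg.oddCore T.K
    haveI : N.Normal := inferInstance
    have hdis : ∀ k : T.K, k * k = 1 → k ≠ 1 → ∀ w ∈ centralizer ({k} : Set T.K), w ∈ N → w = 1 := by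
      intro k hk hk1 w hw hwN
      have h1 : orderOf w ∣ 2 ^ 3 := by
        rw [show 2 ^ 3 = Nat.card ↥(centralizer ({k} : Set T.K)) by rw [T.card_cent_K hk hk1]; norm_num]
        exact Subgroup.orderOf_dvd_natCard _ hw
      exact orderOf_eq_one_iff.mp (Nat.eq_one_of_dvd_coprimes
        ((Nat.coprime_two_left.mpr PCore.odd_card_oddCore).pow_left 3) h1 (Subgroup.orderOf_dvd_natCard _ hwN))
    let π := QuotientGroup.mk' N
    have hcard : Nat.card (T.K ⧸ N) ≤ 8 := by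
      rw [← T.card_cent_K T.zK_inv.1 T.zK_inv.2]
      refine Nat.card_le_card_of_surjective (fun w : Z => π w) fun q => ?_
      obtain ⟨g, rfl⟩ := QuotientGroup.mk'_surjective N q
      have hg : g ∈ Z ⊔ N := h ▸ mem_top g
      obtain ⟨a, ha, b, hb, rfl⟩ := Subgroup.mem_sup_of_normal_right.mp hg
      exact ⟨⟨a, ha⟩, by simp [π, (QuotientGroup.eq_one_iff b).mpr hb]⟩
    set Y := centralizer ({T.uK} : Set T.K)
    have hinj : Function.Injective (π.comp Y.subtype) := (injective_iff_map_eq_one _).mpr fun w hw =>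
      Subtype.ext (hdis _ T.uK_inv.1 T.uK_inv.2 w w.2 ((QuotientGroup.eq_one_iff _).mp hw))
    have hsurj : Function.Surjective (π.comp Y.subtype) :=
      (Nat.bijective_iff_injective_and_card _).mpr ⟨hinj, le_antisymm (Nat.card_le_card_of_injective _ hinj)
        (by rw [T.card_cent_K T.uK_inv.1 T.uK_inv.2]; exact hcard)⟩ |>.2
    obtain ⟨f, hf, hfu⟩ := T.F_nonabelian
    obtain ⟨w, hw⟩ := hsurj (π (T.toK ⟨f, hf⟩))
    refine hfu ?_
    set c : ↥T.F := ⟨f, hf⟩ * ⟨T.u, T.u_mem_F⟩ * (⟨f, hf⟩ : ↥T.F)⁻¹ * (⟨T.u, T.u_mem_F⟩ : ↥T.F)⁻¹ with hc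
    have hcN : T.toK c ∈ N := by
      rw [← QuotientGroup.eq_one_iff]
      show π (T.toK c) = 1
      rw [hc]
      simp only [map_mul, map_inv]
      rw [← hw]
      show π (w : T.K) * π T.uK * (π (w : T.K))⁻¹ * (π T.uK)⁻¹ = 1
      rw [← map_mul, mem_cent.mp w.2, map_mul, mul_inv_cancel_right, mul_inv_cancel]
    have hc1 := hdis _ T.zK_inv.1 T.zK_inv.2 _ (T.range_toK ▸ ⟨c, rfl⟩) hcN
    have e : c = 1 := T.toK_injective (hc1.trans (map_one _).symm)
    have e' : f * T.u * f⁻¹ * T.u⁻¹ = 1 := congrArg Subtype.val e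
    exact mul_inv_eq_iff_eq_mul.mp (mul_inv_eq_one.mp e')
  · exact (hperm 4 (by norm_num) (by rw [show (⟨0, by omega⟩ : Fin 4) = 0 from rfl,
      show (⟨1, by omega⟩ : Fin 4) = 1 from rfl, swap_cent_four]; norm_num) e).elim
  · exact (hperm 5 (by norm_num) (by rw [show (⟨0, by omega⟩ : Fin 5) = 0 from rfl,
      show (⟨1, by omega⟩ : Fin 5) = 1 from rfl, swap_cent_five]; norm_num) e).elim
  · exact .inl h
  · exact .inr h

end Tri

end Cfsg.Agent.J3Order
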